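import Groth.Prelude.Def_Flat
import Groth.Agent.VarDim.Algebra
import Groth.Agent.TopDimLib.Basic
import Groth.Agent.FBase.DimAlg
import Mathlib

/-!
# Local dimension of the spectrum of a finitely generated algebra over a field
-/

set_option autoImplicit false

universe u

open TopologicalSpace

namespace Groth.Agent.CAlgLib.LocalDimSpec

variable (k : Type u) [Field k] {S : Type u} [CommRing S] [Algebra k S] [Algebra.FiniteType k S]

/-- Minimal primes below `p`. -/
abbrev Mins (p : Ideal S) : Type u := {q : Ideal S // q ∈ minimalPrimes S ∧ q ≤ p}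

theorem nonempty_mins (p : Ideal S) [p.IsPrime] : Nonempty (Mins p) := by
  obtain ⟨m, hm, hmp⟩ := Ideal.exists_minimalPrimes_le (bot_le : (⊥ : Ideal S) ≤ p)
  exact ⟨⟨m, hm, hmp⟩⟩

/-- Irreducible closed set of a prime. -/
def ic (p : PrimeSpectrum S) : IrreducibleCloseds (PrimeSpectrum S) :=
  ⟨closure {p}, isIrreducible_singleton.closure, isClosed_closure⟩

theorem ic_strictAnti {a b : PrimeSpectrum S} (h : a < b) : ic b < ic a := by
  refine lt_of_le_of_ne (fun z hz => closure_minimal (Set.singleton_subset_iff.mpr ?_) isClosed_closure hz) ?_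
  · exact specializes_iff_mem_closure.mp ((PrimeSpectrum.le_iff_specializes a b).mp h.le)
  · intro he
    have hmem : a ∈ closure ({b} : Set (PrimeSpectrum S)) := by
      have : a ∈ (ic a : Set (PrimeSpectrum S)) := subset_closure rfl
      rw [← he] at this
      exact this
    exact h.not_ge ((PrimeSpectrum.le_iff_specializes b a).mpr (specializes_iff_mem_closure.mpr hmem))

include k in
theorem le_localDim_aux (p : Ideal S) [p.IsPrime] {q : Ideal S} [q.IsPrime] (hqp : q ≤ p)
    {U : Set (PrimeSpectrum S)} (hU : IsOpen U) (hp : (⟨p, inferInstance⟩ : PrimeSpectrum S) ∈ U) :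
    ringKrullDim (S ⧸ q) ≤ topologicalKrullDim U := by
  obtain ⟨_, ⟨f, rfl⟩, hpf, hfU⟩ := PrimeSpectrum.isTopologicalBasis_basic_opens.exists_subset_of_mem_open hp hU
  haveI := VarDim.finiteType_quotient k S q
  haveI : IsNoetherianRing (S ⧸ q) := Algebra.FiniteType.isNoetherianRing k _
  haveI : IsJacobsonRing (S ⧸ q) := isJacobsonRing_of_finiteType (A := k)
  obtain ⟨M, hM, hfM⟩ : ∃ M : Ideal (S ⧸ q), M.IsMaximal ∧ Ideal.Quotient.mk q f ∉ M := by
    by_contra hne
    push Not at hne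
    have hmem : Ideal.Quotient.mk q f ∈ (⊥ : Ideal (S ⧸ q)).jacobson :=
      Ideal.mem_sInf.mpr fun M hM => hne M hM.2
    rw [IsJacobsonRing.out inferInstance Ideal.isPrime_bot.isRadical, Ideal.mem_bot, Ideal.Quotient.eq_zero_iff_mem] at hmem
    exact hpf (hqp hmem)
  rw [← VarDim.height_eq_ringKrullDim_of_isMaximal k (S ⧸ q) M]
  haveI : M.FiniteHeight := ⟨Or.inr (Ideal.height_ne_top hM.ne_top)⟩
  obtain ⟨l, hlast, hlen⟩ := M.exists_ltSeries_length_eq_height
  let φ : PrimeSpectrum (S ⧸ q) → IrreducibleCloseds (PrimeSpectrum S) := fun P =>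
    ic (PrimeSpectrum.comap (Ideal.Quotient.mk q) P)
  have hφ : StrictAnti φ := fun a b h =>
    ic_strictAnti (RingHom.strictMono_comap_of_surjective Ideal.Quotient.mk_surjective h)
  let m : LTSeries (IrreducibleCloseds (PrimeSpectrum S)) :=
    LTSeries.mk l.length (fun i => φ (l i.rev)) (fun i j hij => hφ (l.strictMono (Fin.rev_lt_rev.mpr hij)))
  have hx : PrimeSpectrum.comap (Ideal.Quotient.mk q) l.last ∈ (m.head : Set (PrimeSpectrum S)) := by
    show _ ∈ (φ (l (Fin.rev 0)) : Set (PrimeSpectrum S))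
    rw [Fin.rev_zero]
    exact subset_closure rfl
  have hxU : PrimeSpectrum.comap (Ideal.Quotient.mk q) l.last ∈ U := by
    refine hfU ?_
    show Ideal.Quotient.mk q f ∉ l.last.asIdeal
    rw [hlast]; exact hfM
  rw [← hlen]
  exact TopDimLib.length_le_of_open m hU hx hxU

theorem exists_separating [IsNoetherianRing S] (p : Ideal S) [p.IsPrime] :
    ∃ f : S, f ∉ p ∧ ∀ q ∈ minimalPrimes S, ¬ q ≤ p → f ∈ q := by
  classical
  obtain ⟨t, ht⟩ : ∃ t : Finset (Ideal S), ∀ q, q ∈ t ↔ q ∈ minimalPrimes S ∧ ¬ q ≤ p :=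
    ⟨((minimalPrimes.finite_of_isNoetherianRing S).subset
      (fun q (h : q ∈ {q | q ∈ minimalPrimes S ∧ ¬ q ≤ p}) => h.1)).toFinset, fun q => by simp⟩
  choose g hg using fun q : t => SetLike.not_le_iff_exists.mp ((ht q.1).mp q.2).2
  refine ⟨∏ q, g q, fun h => ?_, fun q hq hqp => ?_⟩
  · obtain ⟨q, -, hq⟩ := (Ideal.IsPrime.prod_mem_iff).mp h
    exact (hg q).2 hq
  · obtain ⟨r, hr⟩ := Finset.dvd_prod_of_mem g (Finset.mem_univ ⟨q, (ht q).mpr ⟨hq, hqp⟩⟩)
    rw [hr]
    exact q.mul_mem_right _ (hg ⟨q, _⟩).1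

include k in
/-- The local dimension is the maximum of the dimensions of the components through the point. -/
theorem localDim_eq (p : Ideal S) [p.IsPrime] :
    FlatMor.localDim (PrimeSpectrum S) ⟨p, inferInstance⟩ = ⨆ q : Mins p, ringKrullDim (S ⧸ q.1) := by
  haveI : IsNoetherianRing S := Algebra.FiniteType.isNoetherianRing k S
  refine le_antisymm ?_ (iSup_le fun q => ?_)
  · obtain ⟨f, hf, hfq⟩ := exists_separating p
    refine (TopDimLib.localDim_le (U := (PrimeSpectrum.basicOpen f : Set (PrimeSpectrum S)))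
      (PrimeSpectrum.basicOpen f).2 hf).trans ?_
    haveI : Finite (Mins p) :=
      ((minimalPrimes.finite_of_isNoetherianRing S).subset (fun q (h : q ∈ {q | q ∈ minimalPrimes S ∧ q ≤ p}) => h.1)).to_subtype
    rw [TopDimLib.topDim_eq_iSup_of_locallyFinite
      (X := (PrimeSpectrum.basicOpen f : Set (PrimeSpectrum S)))
      (fun q : Mins p => {x | q.1 ≤ x.1.asIdeal})
      (fun q => (PrimeSpectrum.isClosed_zeroLocus (q.1 : Set S)).preimage continuous_subtype_val)
      (locallyFinite_of_finite _) (Set.eq_univ_of_forall fun x => ?_)]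
    · refine iSup_mono fun q => ?_
      rw [← PrimeSpectrum.topologicalKrullDim_eq_ringKrullDim]
      have hemb := (PrimeSpectrum.isClosedEmbedding_comap_of_surjective (S ⧸ q.1) (Ideal.Quotient.mk q.1)
        Ideal.Quotient.mk_surjective).isEmbedding
      have hrange : ∀ x : {x : (PrimeSpectrum.basicOpen f : Set (PrimeSpectrum S)) | q.1 ≤ x.1.asIdeal},
          ∃ y, PrimeSpectrum.comap (Ideal.Quotient.mk q.1) y = x.1.1 := fun x => by
        have : x.1.1 ∈ Set.range (PrimeSpectrum.comap (Ideal.Quotient.mk q.1)) := by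
          rw [range_comap_of_surjective _ _ Ideal.Quotient.mk_surjective, Ideal.mk_ker]
          exact x.2
        exact this
      choose g hg using hrange
      have hg' : Topology.IsInducing g := by
        have hc : Topology.IsInducing (PrimeSpectrum.comap (Ideal.Quotient.mk q.1) ∘ g) := by
          rw [show PrimeSpectrum.comap (Ideal.Quotient.mk q.1) ∘ g =
            (Subtype.val : ↥(PrimeSpectrum.basicOpen f : Set (PrimeSpectrum S)) → PrimeSpectrum S) ∘ Subtype.val from funext hg]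
          exact Topology.IsInducing.subtypeVal.comp Topology.IsInducing.subtypeVal
        exact hemb.isInducing.of_comp_iff.mp hc
      exact hg'.topologicalKrullDim_le
    · obtain ⟨m, hm, hmx⟩ := Ideal.exists_minimalPrimes_le (bot_le : (⊥ : Ideal S) ≤ x.1.asIdeal)
      exact Set.mem_iUnion.mpr ⟨⟨m, hm, by_contra fun h => x.2 (hmx (hfq m hm h))⟩, hmx⟩
  · haveI : q.1.IsPrime := q.2.1.1.1
    exact le_iInf fun U => le_localDim_aux k p q.2.2 U.1.2 U.2

theorem height_map_le (p : Ideal S) [p.IsPrime] (q : Ideal S) [(p.map (Ideal.Quotient.mk q)).IsPrime] (h : q ≤ p) :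
    (p.map (Ideal.Quotient.mk q)).height ≤ p.height := by
  let P' : PrimeSpectrum (S ⧸ q) := ⟨p.map (Ideal.Quotient.mk q), inferInstance⟩
  have hc : PrimeSpectrum.comap (Ideal.Quotient.mk q) P' = ⟨p, inferInstance⟩ := by
    refine PrimeSpectrum.ext ?_
    show (p.map (Ideal.Quotient.mk q)).comap (Ideal.Quotient.mk q) = p
    rw [Ideal.comap_map_of_surjective _ Ideal.Quotient.mk_surjective, ← RingHom.ker_eq_comap_bot, Ideal.mk_ker,
      sup_eq_left.mpr h]
  rw [show (p.map (Ideal.Quotient.mk q)) = P'.asIdeal from rfl, P'.height_eq_orderHeight,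
    show p = (PrimeSpectrum.comap (Ideal.Quotient.mk q) P').asIdeal from (congrArg PrimeSpectrum.asIdeal hc).symm,
    PrimeSpectrum.height_eq_orderHeight]
  exact Order.height_le_height_apply_of_strictMono _
    (RingHom.strictMono_comap_of_surjective Ideal.Quotient.mk_surjective) P'

theorem exists_height_map [IsNoetherianRing S] (p : Ideal S) [hp : p.IsPrime] :
    ∃ q : Mins p, p.height ≤ (p.map (Ideal.Quotient.mk q.1)).height := by
  haveI : p.FiniteHeight := ⟨Or.inr (Ideal.height_ne_top hp.ne_top)⟩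
  obtain ⟨l, hlast, hlen⟩ := p.exists_ltSeries_length_eq_height
  obtain ⟨q, hq, hql⟩ := Ideal.exists_minimalPrimes_le (bot_le : (⊥ : Ideal S) ≤ l.head.asIdeal)
  have hle : ∀ i, q ≤ (l i).asIdeal := fun i => hql.trans (l.monotone (Fin.zero_le i))
  have hqp : q ≤ p := by
    have h1 := hle (Fin.last _)
    rwa [show (l (Fin.last _)).asIdeal = p from congrArg PrimeSpectrum.asIdeal hlast] at h1
  refine ⟨⟨q, hq, hqp⟩, ?_⟩
  have hPi : ∀ i, ((l i).asIdeal.map (Ideal.Quotient.mk q)).IsPrime := fun i =>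
    Ideal.map_isPrime_of_surjective Ideal.Quotient.mk_surjective (by rw [Ideal.mk_ker]; exact hle i)
  have hc : ∀ i, ((l i).asIdeal.map (Ideal.Quotient.mk q)).comap (Ideal.Quotient.mk q) = (l i).asIdeal := fun i => by
    rw [Ideal.comap_map_of_surjective _ Ideal.Quotient.mk_surjective, ← RingHom.ker_eq_comap_bot, Ideal.mk_ker,
      sup_eq_left.mpr (hle i)]
  let m : LTSeries (PrimeSpectrum (S ⧸ q)) :=
    LTSeries.mk l.length (fun i => ⟨_, hPi i⟩) (fun i j hij => lt_of_le_not_ge
      (Ideal.map_mono (l.monotone hij.le) : (l i).asIdeal.map (Ideal.Quotient.mk q) ≤ _)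
      (fun h => (l.strictMono hij).not_ge (by
        have h' := Ideal.comap_mono (f := Ideal.Quotient.mk q) h
        rw [hc, hc] at h'
        exact h')))
  haveI hpp : (p.map (Ideal.Quotient.mk q)).IsPrime :=
    Ideal.map_isPrime_of_surjective Ideal.Quotient.mk_surjective (by rw [Ideal.mk_ker]; exact hqp)
  have h1 := Order.length_le_height (p := m) (x := (⟨_, hpp⟩ : PrimeSpectrum (S ⧸ q)))
    (le_of_eq (PrimeSpectrum.ext (by show l.last.asIdeal.map (Ideal.Quotient.mk q) = _; rw [hlast])))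
  rw [← hlen]
  exact h1.trans_eq (PrimeSpectrum.height_eq_orderHeight ⟨_, hpp⟩).symm

include k in
/-- `dim_p = ht p + dim S/p`. -/
theorem iSup_eq (p : Ideal S) [p.IsPrime] :
    (⨆ q : Mins p, ringKrullDim (S ⧸ q.1)) = (p.height : WithBot ℕ∞) + ringKrullDim (S ⧸ p) := by
  haveI : IsNoetherianRing S := Algebra.FiniteType.isNoetherianRing k S
  have hkey : ∀ q : Mins p, ringKrullDim (S ⧸ q.1) =
      ((p.map (Ideal.Quotient.mk q.1)).height : WithBot ℕ∞) + ringKrullDim (S ⧸ p) := fun q => by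
    haveI : q.1.IsPrime := q.2.1.1.1
    haveI := VarDim.finiteType_quotient k S q.1
    haveI : (p.map (Ideal.Quotient.mk q.1)).IsPrime :=
      Ideal.map_isPrime_of_surjective Ideal.Quotient.mk_surjective (by rw [Ideal.mk_ker]; exact q.2.2)
    rw [← VarDim.ringKrullDim_quotient_add_height k (S ⧸ q.1) (p.map (Ideal.Quotient.mk q.1)),
      ringKrullDim_eq_of_ringEquiv (DoubleQuot.quotQuotEquivQuotOfLE q.2.2), add_comm]
  refine le_antisymm (iSup_le fun q => ?_) ?_
  · rw [hkey q]
    haveI : (p.map (Ideal.Quotient.mk q.1)).IsPrime :=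
      Ideal.map_isPrime_of_surjective Ideal.Quotient.mk_surjective (by rw [Ideal.mk_ker]; exact q.2.2)
    exact add_le_add (WithBot.coe_le_coe.mpr (height_map_le p q.1 q.2.2)) le_rfl
  · obtain ⟨q, hq⟩ := exists_height_map p
    refine le_iSup_of_le q ?_
    rw [hkey q]
    exact add_le_add (WithBot.coe_le_coe.mpr hq) le_rfl

include k in
theorem localDim_of_isMaximal (M : Ideal S) [hM : M.IsMaximal] :
    FlatMor.localDim (PrimeSpectrum S) ⟨M, hM.isPrime⟩ = ringKrullDim (Localization.AtPrime M) := by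
  letI := Ideal.Quotient.field M
  rw [localDim_eq k M, iSup_eq k M, ringKrullDim_eq_zero_of_field (S ⧸ M), add_zero,
    IsLocalization.AtPrime.ringKrullDim_eq_height M (Localization.AtPrime M)]

include k in
theorem localDim_eq_iInf (p : Ideal S) [p.IsPrime] :
    FlatMor.localDim (PrimeSpectrum S) ⟨p, inferInstance⟩ =
      ⨅ m : {m : Ideal S // m.IsMaximal ∧ p ≤ m}, ringKrullDim (Localization.AtPrime (hp := m.2.1.isPrime') m.1) := by
  haveI : IsNoetherianRing S := Algebra.FiniteType.isNoetherianRing k S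
  haveI : IsJacobsonRing S := isJacobsonRing_of_finiteType (A := k)
  refine le_antisymm (le_iInf fun m => ?_) ?_
  · haveI := m.2.1
    rw [← localDim_of_isMaximal k m.1, localDim_eq k p, localDim_eq k m.1]
    exact iSup_le fun q => le_iSup_of_le (⟨q.1, q.2.1, q.2.2.trans m.2.2⟩ : Mins m.1) le_rfl
  · obtain ⟨f, hf, hfq⟩ := exists_separating p
    obtain ⟨M, hM, hpM, hfM⟩ : ∃ M : Ideal S, M.IsMaximal ∧ p ≤ M ∧ f ∉ M := by
      by_contra hne
      push Not at hne
      have : f ∈ p.jacobson := Ideal.mem_sInf.mpr fun M hM => hne M hM.2 hM.1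
      rw [IsJacobsonRing.out inferInstance (Ideal.IsPrime.isRadical ‹_›)] at this
      exact hf this
    refine iInf_le_of_le ⟨M, hM, hpM⟩ ?_
    rw [← localDim_of_isMaximal k M, localDim_eq k p, localDim_eq k M]
    exact iSup_le fun q =>
      le_iSup_of_le (⟨q.1, q.2.1, by_contra fun h => hfM (q.2.2 (hfq q.1 q.2.1 h))⟩ : Mins p) le_rfl

include k in
theorem localDim_eq_add_trdeg (p : Ideal S) [p.IsPrime] (r : ℕ) (hr : Algebra.trdeg k p.ResidueField = r) :
    FlatMor.localDim (PrimeSpectrum S) ⟨p, inferInstance⟩ = ringKrullDim (Localization.AtPrime p) + (r : WithBot ℕ∞) := by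
  haveI := VarDim.finiteType_quotient k S p
  haveI : Algebra.IsAlgebraic (S ⧸ p) p.ResidueField := IsLocalization.isAlgebraic p.ResidueField (nonZeroDivisors (S ⧸ p))
  rw [← trdeg_add_eq k (S ⧸ p), trdeg_eq_zero (R := S ⧸ p), add_zero] at hr
  rw [localDim_eq k p, iSup_eq k p, VarDim.ringKrullDim_eq_of_trdeg_eq k (S ⧸ p) hr,
    IsLocalization.AtPrime.ringKrullDim_eq_height p (Localization.AtPrime p)]

/-! ## Extension of the base field -/

section BaseChange

open TensorProduct

attribute [local instance] Algebra.TensorProduct.rightAlgebra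

variable (K : Type u) [Field K] [Algebra k K]

omit [Algebra.FiniteType k S] in
theorem flat_baseChange : Module.Flat S (K ⊗[k] S) :=
  Module.Flat.of_linearEquiv (Algebra.TensorProduct.commRight k S K).toLinearEquiv.symm

omit [Algebra.FiniteType k S] in
theorem exists_prime_below (P : Ideal (K ⊗[k] S)) [P.IsPrime] (q₀ : Ideal S) [q₀.IsPrime]
    (h : q₀ ≤ P.comap (algebraMap S (K ⊗[k] S))) :
    ∃ P' : Ideal (K ⊗[k] S), P' ≤ P ∧ P'.IsPrime ∧ P'.comap (algebraMap S (K ⊗[k] S)) = q₀ := by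
  haveI := flat_baseChange (S := S) k K
  haveI : P.LiesOver (P.comap (algebraMap S (K ⊗[k] S))) := ⟨rfl⟩
  obtain ⟨P', hle, hP', hover⟩ :=
    Ideal.exists_ideal_le_liesOver_of_le (p := q₀) (q := P.comap (algebraMap S (K ⊗[k] S))) P h
  exact ⟨P', hle, hP', hover.over.symm⟩

omit [Algebra.FiniteType k S] in
theorem comap_mem_minimalPrimes (P : Ideal (K ⊗[k] S)) [P.IsPrime] (hP : P ∈ minimalPrimes (K ⊗[k] S)) :
    P.comap (algebraMap S (K ⊗[k] S)) ∈ minimalPrimes S := by
  refine ⟨⟨inferInstance, bot_le⟩, fun q₀ hq₀ hle => ?_⟩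
  haveI := hq₀.1
  obtain ⟨P', hle', hP', hover⟩ := exists_prime_below k K P q₀ hle
  have : P' = P := le_antisymm hle' (hP.2 ⟨hP', bot_le⟩ hle')
  rw [← hover, this]

theorem ringKrullDim_component (P : Ideal (K ⊗[k] S)) [P.IsPrime] (hP : P ∈ minimalPrimes (K ⊗[k] S))
    {q₀ : Ideal S} [q₀.IsPrime] (hq₀ : P.comap (algebraMap S (K ⊗[k] S)) = q₀) :
    ringKrullDim ((K ⊗[k] S) ⧸ P) = ringKrullDim (S ⧸ q₀) := by
  haveI := VarDim.finiteType_quotient k S q₀
  let φ : K ⊗[k] S →ₐ[k] (S ⧸ q₀) ⊗[k] K :=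
    (Algebra.TensorProduct.comm k K (S ⧸ q₀)).toAlgHom.comp
      (Algebra.TensorProduct.map (AlgHom.id k K) (Ideal.Quotient.mkₐ k q₀))
  have hφ : Function.Surjective φ.toRingHom :=
    (Algebra.TensorProduct.comm k K (S ⧸ q₀)).surjective.comp
      (Algebra.TensorProduct.map_surjective (AlgHom.id k K) (Ideal.Quotient.mkₐ k q₀) Function.surjective_id
        (Ideal.Quotient.mkₐ_surjective k q₀))
  have hker : RingHom.ker φ.toRingHom ≤ P := by
    intro x hx
    have hx' : x ∈ RingHom.ker (Algebra.TensorProduct.map (AlgHom.id k K) (Ideal.Quotient.mkₐ k q₀)) :=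
      (Algebra.TensorProduct.comm k K (S ⧸ q₀)).injective (Eq.trans hx (map_zero _).symm)
    rw [Algebra.TensorProduct.lTensor_ker (A := K) (Ideal.Quotient.mkₐ k q₀) (Ideal.Quotient.mkₐ_surjective k q₀)] at hx'
    refine (Ideal.map_le_iff_le_comap.mpr fun s hs => ?_) hx'
    have hs' : s ∈ q₀ := Ideal.Quotient.eq_zero_iff_mem.mp hs
    rw [← hq₀] at hs'
    exact hs'
  let P' : Ideal ((S ⧸ q₀) ⊗[k] K) := P.map φ.toRingHom
  haveI hP'p : P'.IsPrime := Ideal.map_isPrime_of_surjective hφ hker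
  have hcomap : P'.comap φ.toRingHom = P := by
    show (P.map φ.toRingHom).comap φ.toRingHom = P
    rw [Ideal.comap_map_of_surjective _ hφ, ← RingHom.ker_eq_comap_bot, sup_eq_left.mpr hker]
  have hmin : P' ∈ minimalPrimes ((S ⧸ q₀) ⊗[k] K) := by
    refine ⟨⟨hP'p, bot_le⟩, fun Q hQ hle => ?_⟩
    haveI := hQ.1
    have h1 : Q.comap φ.toRingHom ≤ P := (Ideal.comap_mono hle).trans hcomap.le
    exact Ideal.map_le_iff_le_comap.mpr (hP.2 ⟨inferInstance, bot_le⟩ h1)
  rw [← FBase.DimAlg.ringKrullDim_baseChange_component (k := k) (A := S ⧸ q₀) K hmin]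
  refine ringKrullDim_eq_of_ringEquiv ((Ideal.quotEquivOfEq ?_).trans
    (RingHom.quotientKerEquivOfSurjective (f := (Ideal.Quotient.mk P').comp φ.toRingHom)
      (Ideal.Quotient.mk_surjective.comp hφ)))
  rw [← RingHom.comap_ker, Ideal.mk_ker, hcomap]

theorem localDim_baseChange (qK : Ideal (K ⊗[k] S)) [qK.IsPrime] (q : Ideal S) [q.IsPrime]
    (hq : qK.comap (algebraMap S (K ⊗[k] S)) = q) :
    FlatMor.localDim (PrimeSpectrum (K ⊗[k] S)) ⟨qK, inferInstance⟩ =
      FlatMor.localDim (PrimeSpectrum S) ⟨q, inferInstance⟩ := by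
  rw [localDim_eq K qK, localDim_eq k q]
  refine le_antisymm (iSup_le fun P => ?_) (iSup_le fun q₀ => ?_)
  · haveI : P.1.IsPrime := P.2.1.1.1
    rw [ringKrullDim_component k K P.1 P.2.1 rfl]
    exact le_iSup_of_le (⟨_, comap_mem_minimalPrimes k K P.1 P.2.1, hq ▸ Ideal.comap_mono P.2.2⟩ : Mins q) le_rfl
  · haveI : q₀.1.IsPrime := q₀.2.1.1.1
    obtain ⟨P₁, hle, hP₁, hover⟩ := exists_prime_below k K qK q₀.1 (hq.symm ▸ q₀.2.2)
    haveI := hP₁
    obtain ⟨P, hP, hPle⟩ := Ideal.exists_minimalPrimes_le (bot_le : (⊥ : Ideal (K ⊗[k] S)) ≤ P₁)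
    haveI : P.IsPrime := hP.1.1
    have hPq : P.comap (algebraMap S (K ⊗[k] S)) = q₀.1 :=
      le_antisymm ((Ideal.comap_mono hPle).trans hover.le)
        (q₀.2.1.2 ⟨inferInstance, bot_le⟩ ((Ideal.comap_mono hPle).trans hover.le))
    rw [← ringKrullDim_component k K P hP hPq]
    exact le_iSup_of_le (⟨P, hP, hPle.trans hle⟩ : Mins qK) le_rfl

end BaseChange

end Groth.Agent.CAlgLib.LocalDimSpec
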