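import Mathlib.Algebra.Colimit.Ring
import Mathlib.RingTheory.Flat.EquationalCriterion
import Mathlib.RingTheory.Flat.FaithfullyFlat.Algebra
import Mathlib.RingTheory.RingHom.Flat
import Mathlib.RingTheory.Filtration
import Mathlib.RingTheory.MvPolynomial.Homogeneous
import Mathlib.RingTheory.Polynomial.Basic
import Mathlib.RingTheory.LocalRing.ResidueField.Basic

/-!
Filtered colimits of local rings along local maps; with flat maps, extended maximal ideals and
Noetherian stages the colimit is Noetherian and flat over each stage (EGA 0III 10.3.1.3).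
-/

namespace Groth.Agent.CAlgLib.LocalLimit

universe u

section General

variable {ι : Type u} [Preorder ι] [Nonempty ι] [IsDirected ι (· ≤ ·)]
  {G : ι → Type u} [∀ i, CommRing (G i)]
  (f : ∀ i j, i ≤ j → G i →+* G j) [DirectedSystem G fun i j h => f i j h]

local notation "B" => Ring.DirectLimit G fun i j h => f i j h

local notation "φ" => Ring.DirectLimit.of G (fun i j h => f i j h)

/-- Finitely many elements of the colimit come from a common stage. -/
theorem exists_of_forall {α : Type*} (s : Finset α) (g : α → B) (i₀ : ι) :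
    ∃ (j : ι) (_ : i₀ ≤ j), ∀ a ∈ s, ∃ x : G j, φ j x = g a := by
  classical
  induction s using Finset.induction with
  | empty => exact ⟨i₀, le_rfl, by simp⟩
  | @insert a s _ ih =>
    obtain ⟨j, hj, h⟩ := ih
    obtain ⟨l, y, hy⟩ := Ring.DirectLimit.exists_of (g a)
    obtain ⟨m, hjm, hlm⟩ := exists_ge_ge j l
    refine ⟨m, hj.trans hjm, fun b hb => ?_⟩
    rcases Finset.mem_insert.mp hb with rfl | hb
    · exact ⟨f l m hlm y, by rw [Ring.DirectLimit.of_f, hy]⟩
    · obtain ⟨x, hx⟩ := h b hb
      exact ⟨f j m hjm x, by rw [Ring.DirectLimit.of_f, hx]⟩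

/-- The maps into a colimit of flat transition maps are flat. -/
theorem flat_of (hflat : ∀ i j (h : i ≤ j), (f i j h).Flat) (i : ι) : (φ i).Flat := by
  classical
  algebraize [φ i]
  change Module.Flat (G i) B
  apply Module.Flat.of_forall_isTrivialRelation
  intro l c x hx
  obtain ⟨j, hij, hy⟩ := exists_of_forall f Finset.univ x i
  choose y hy using fun k => hy k (Finset.mem_univ k)
  have h0 : φ j (∑ k, f i j hij (c k) * y k) = 0 := by
    rw [map_sum, ← hx]
    refine Finset.sum_congr rfl fun k _ => ?_
    rw [map_mul, Ring.DirectLimit.of_f, hy k, Algebra.smul_def]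
    rfl
  obtain ⟨m, hjm, hm⟩ := Ring.DirectLimit.of.zero_exact h0
  rw [map_sum] at hm
  let _ : Algebra (G i) (G m) := (f i m (hij.trans hjm)).toAlgebra
  have : Module.Flat (G i) (G m) := hflat i m _
  have hrel : ∑ k, c k • f j m hjm (y k) = 0 := by
    rw [← hm]
    refine Finset.sum_congr rfl fun k _ => ?_
    rw [map_mul, Algebra.smul_def]
    congr 1
    exact (DirectedSystem.map_map (f := fun i j h => f i j h) hij hjm (c k)).symm
  obtain ⟨n, a, z, hz, ha⟩ := Module.Flat.isTrivialRelation_of_sum_smul_eq_zero hrel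
  refine ⟨n, a, fun r => φ m (z r), fun k => ?_, ha⟩
  rw [← hy k, ← Ring.DirectLimit.of_f (f := fun i j h => f i j h) hjm,
    show f j m hjm (y k) = ∑ r, a k r • z r from hz k, map_sum]
  refine Finset.sum_congr rfl fun r _ => ?_
  rw [Algebra.smul_def, Algebra.smul_def, map_mul]
  congr 1
  exact Ring.DirectLimit.of_f (f := fun i j h => f i j h) (hij.trans hjm) (a k r)

variable [∀ i, IsLocalRing (G i)] (hloc : ∀ i j (h : i ≤ j), IsLocalHom (f i j h))

include hloc

theorem isUnit_of_isUnit_of (i : ι) {x : G i} (hx : IsUnit (φ i x)) : IsUnit x := by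
  obtain ⟨u, hu⟩ := hx
  obtain ⟨l, y, hy⟩ := Ring.DirectLimit.exists_of (↑u⁻¹ : B)
  obtain ⟨j, hij, hlj⟩ := exists_ge_ge i l
  have h0 : φ j (f i j hij x * f l j hlj y - 1) = 0 := by
    rw [map_sub, map_mul, Ring.DirectLimit.of_f, Ring.DirectLimit.of_f, hy, map_one, ← hu,
      Units.mul_inv, sub_self]
  obtain ⟨m, hjm, hm⟩ := Ring.DirectLimit.of.zero_exact h0
  rw [map_sub, map_mul, map_one, sub_eq_zero] at hm
  have h2 : IsUnit (f j m hjm (f i j hij x)) := IsUnit.of_mul_eq_one _ hm
  exact (hloc i j hij).map_nonunit _ ((hloc j m hjm).map_nonunit _ h2)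

theorem isLocalHom_of (i : ι) : IsLocalHom (φ i) :=
  ⟨fun _ hx => isUnit_of_isUnit_of f hloc i hx⟩

theorem isLocalRing : IsLocalRing B := by
  have : Nontrivial B := by
    obtain ⟨i⟩ := ‹Nonempty ι›
    refine ⟨⟨1, 0, fun h => ?_⟩⟩
    refine not_isUnit_zero (M₀ := G i) (isUnit_of_isUnit_of f hloc i ?_)
    rw [map_zero, ← h]; exact isUnit_one
  refine IsLocalRing.of_isUnit_or_isUnit_one_sub_self fun a => ?_
  obtain ⟨i, x, rfl⟩ := Ring.DirectLimit.exists_of a
  rcases IsLocalRing.isUnit_or_isUnit_one_sub_self x with h | h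
  · exact Or.inl (h.map _)
  · exact Or.inr (by simpa using h.map (φ i))

theorem map_maximalIdeal [IsLocalRing B]
    (hmax : ∀ i j (h : i ≤ j), (IsLocalRing.maximalIdeal (G i)).map (f i j h) = IsLocalRing.maximalIdeal (G j))
    (i : ι) : (IsLocalRing.maximalIdeal (G i)).map (φ i) = IsLocalRing.maximalIdeal B := by
  have := isLocalHom_of f hloc i
  refine le_antisymm (((IsLocalRing.local_hom_TFAE (φ i)).out 0 2).mp this) ?_
  intro z hz
  obtain ⟨l, y, rfl⟩ := Ring.DirectLimit.exists_of z
  obtain ⟨j, hij, hlj⟩ := exists_ge_ge i l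
  rw [← Ring.DirectLimit.of_f (f := fun i j h => f i j h) hlj] at hz ⊢
  have hy : f l j hlj y ∈ IsLocalRing.maximalIdeal (G j) := fun hu => hz (hu.map _)
  rw [← hmax i j hij] at hy
  have hc : (φ j).comp (f i j hij) = φ i := RingHom.ext fun x => Ring.DirectLimit.of_f (f := fun i j h => f i j h) hij x
  rw [← hc, ← Ideal.map_map]
  exact Ideal.mem_map_of_mem _ hy

end General

section Noetherian

open MvPolynomial

variable {R : Type u} [CommRing R] [IsLocalRing R]

/-- A local ring with finitely generated maximal ideal in which finitely generated ideals are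
closed for the adic topology is Noetherian. -/
theorem isNoetherianRing_of_closed (hfg : (IsLocalRing.maximalIdeal R).FG)
    (hcl : ∀ J : Ideal R, J.FG → ∀ x : R, (∀ n : ℕ, x ∈ J ⊔ IsLocalRing.maximalIdeal R ^ n) → x ∈ J) :
    IsNoetherianRing R := by
  classical
  obtain ⟨r, t, ht⟩ := Submodule.fg_iff_exists_fin_generating_family.mp hfg
  let m := IsLocalRing.maximalIdeal R
  let red : MvPolynomial (Fin r) R →+* MvPolynomial (Fin r) (IsLocalRing.ResidueField R) :=
    MvPolynomial.map (IsLocalRing.residue R)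
  have htm : Ideal.span (Set.range t) = m := ht
  have hev : ∀ (n : ℕ) (F : MvPolynomial (Fin r) R), F.IsHomogeneous n →
      eval t F ∈ m ^ n ∧ ((∀ d, F.coeff d ∈ m) → eval t F ∈ m ^ (n + 1)) := by
    intro n F hF
    have hmon : ∀ d : Fin r →₀ ℕ, d.degree = n → ∏ i, t i ^ d i ∈ m ^ n := by
      intro d hd
      rw [← hd, Finsupp.degree_eq_sum, ← Finset.prod_pow_eq_pow_sum]
      exact Ideal.prod_mem_prod fun i _ => Ideal.pow_mem_pow (htm ▸ Ideal.subset_span ⟨i, rfl⟩) _
    rw [eval_eq']
    refine ⟨Submodule.sum_mem _ fun d hd => Ideal.mul_mem_left _ _ (hmon d ?_), fun hc =>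
      Submodule.sum_mem _ fun d hd => ?_⟩
    · exact by_contra fun hne => MvPolynomial.mem_support_iff.mp hd (hF.coeff_eq_zero hne)
    · rw [pow_succ']
      exact Ideal.mul_mem_mul (hc d)
        (hmon d (by_contra fun hne => MvPolynomial.mem_support_iff.mp hd (hF.coeff_eq_zero hne)))
  have hsurj : ∀ (n : ℕ) (x : R), x ∈ m ^ n → ∃ F, F.IsHomogeneous n ∧ eval t F = x := by
    intro n
    induction n with
    | zero => exact fun x _ => ⟨C x, isHomogeneous_C _ x, eval_C x⟩
    | succ n ih =>
      intro x hx
      rw [pow_succ, ← htm] at hx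
      induction hx using Submodule.mul_induction_on' with
      | mem_mul_mem a ha b hb =>
        rw [htm] at ha
        obtain ⟨F, hF, rfl⟩ := ih a ha
        obtain ⟨c, rfl⟩ := Ideal.mem_span_range_iff_exists_fun.mp hb
        refine ⟨F * ∑ i, C (c i) * X i, hF.mul (IsHomogeneous.sum _ _ _ fun i _ => isHomogeneous_C_mul_X (c i) i), ?_⟩
        simp
      | add a _ b _ ha hb =>
        obtain ⟨F, hF, rfl⟩ := ha
        obtain ⟨F', hF', rfl⟩ := hb
        exact ⟨F + F', hF.add hF', map_add _ _ _⟩
  refine (isNoetherianRing_iff_ideal_fg R).mpr fun I => ?_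
  let S : Set (MvPolynomial (Fin r) (IsLocalRing.ResidueField R)) :=
    {p | ∃ (n : ℕ) (F : MvPolynomial (Fin r) R), F.IsHomogeneous n ∧ red F = p ∧
      ∃ x ∈ I, eval t F - x ∈ m ^ (n + 1)}
  obtain ⟨s, hsS, hspan⟩ := (Submodule.fg_span_iff_fg_span_finset_subset S).mp
    (IsNoetherian.noetherian (Submodule.span (MvPolynomial (Fin r) (IsLocalRing.ResidueField R)) S))
  choose! d F hF hFp x hx hFx using fun p (hp : p ∈ S) => hp
  let J : Ideal R := Ideal.span (x '' (s : Set _))
  have hJI : J ≤ I := Ideal.span_le.mpr (by rintro _ ⟨p, hp, rfl⟩; exact hx p (hsS hp))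
  have hJfg : J.FG := ⟨s.image x, by rw [Finset.coe_image]⟩
  suffices h : ∀ n, I ≤ J ⊔ m ^ n from (le_antisymm (fun z hz => hcl J hJfg z fun n => h n hz) hJI) ▸ hJfg
  intro n
  induction n with
  | zero => simp
  | succ n ih =>
    intro z hz
    obtain ⟨j, hj, y, hy, rfl⟩ := Submodule.mem_sup.mp (ih hz)
    refine add_mem (Ideal.mem_sup_left hj) ?_
    have hyI : y ∈ I := by simpa using sub_mem hz (hJI hj)
    obtain ⟨P, hP, hPy⟩ := hsurj n y hy
    have hPS : red P ∈ S := ⟨n, P, hP, rfl, y, hyI, by simp [hPy]⟩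
    have : red P ∈ Submodule.span _ (s : Set _) := hspan ▸ Submodule.subset_span hPS
    obtain ⟨G, hG⟩ := Submodule.mem_span_finset'.mp this
    choose G' hG' using fun p : s => MvPolynomial.map_surjective (IsLocalRing.residue R) IsLocalRing.residue_surjective (G p)
    let Q : MvPolynomial (Fin r) R := homogeneousComponent n (∑ p : s, G' p * F p.1)
    have hcompeq : ∀ W : MvPolynomial (Fin r) R, red (homogeneousComponent n W) = homogeneousComponent n (red W) := by
      intro W; ext e
      change MvPolynomial.coeff e (MvPolynomial.map _ _) = MvPolynomial.coeff e (homogeneousComponent n (MvPolynomial.map _ W))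
      rw [coeff_map, coeff_homogeneousComponent, coeff_homogeneousComponent, coeff_map]
      split_ifs <;> simp
    have hQ : red Q = red P := by
      rw [hcompeq, map_sum]
      have : ∑ p : s, red (G' p * F p.1) = red P := by
        rw [← hG]
        refine Finset.sum_congr rfl fun p _ => ?_
        rw [map_mul, hFp p.1 (hsS p.2)]
        change MvPolynomial.map _ (G' p) * _ = _
        rw [hG', smul_eq_mul]
      rw [this, homogeneousComponent_eq_self (hP.map _)]
    have h1 : eval t (P - Q) ∈ m ^ (n + 1) := by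
      refine (hev n _ (hP.sub (homogeneousComponent_isHomogeneous n _))).2 fun e => ?_
      have h2 : (red (P - Q)).coeff e = 0 := by rw [map_sub, hQ, sub_self]; rfl
      rw [MvPolynomial.coeff_map, IsLocalRing.residue_eq_zero_iff] at h2
      exact h2
    have h3 : eval t Q ∈ J ⊔ m ^ (n + 1) := by
      simp only [Q, map_sum]
      refine Submodule.sum_mem _ fun p _ => ?_
      by_cases hd : d p.1 ≤ n
      · have hFh := hF p.1 (hsS p.2)
        have : homogeneousComponent n (G' p * F p.1) = homogeneousComponent (n - d p.1) (G' p) * F p.1 := by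
          conv_lhs => rw [← sum_homogeneousComponent (G' p), Finset.sum_mul, map_sum]
          rw [Finset.sum_eq_single (n - d p.1)]
          · exact homogeneousComponent_eq_self (by
              simpa [Nat.sub_add_cancel hd] using (homogeneousComponent_isHomogeneous (n - d p.1) (G' p)).mul hFh)
          · intro k _ hk
            rw [homogeneousComponent_of_mem ((mem_homogeneousSubmodule _ _).mpr ((homogeneousComponent_isHomogeneous k (G' p)).mul hFh)), if_neg (by omega)]
          · intro hk
            rw [Finset.mem_range, not_lt] at hk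
            rw [homogeneousComponent_eq_zero (n - d p.1) (G' p) (by omega), zero_mul, map_zero]
        rw [this, map_mul]
        have he := (hev _ _ (homogeneousComponent_isHomogeneous (n - d p.1) (G' p))).1
        have h4 := hFx p.1 (hsS p.2)
        rw [show eval t (F p.1) = x p.1 + (eval t (F p.1) - x p.1) by ring, mul_add]
        refine add_mem (Ideal.mem_sup_left (Ideal.mul_mem_left _ _ (Ideal.subset_span ⟨p.1, p.2, rfl⟩))) (Ideal.mem_sup_right ?_)
        have := Ideal.mul_mem_mul he h4
        rwa [← pow_add, show n - d p.1 + (d p.1 + 1) = n + 1 by omega] at this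
      · have : homogeneousComponent n (G' p * F p.1) = 0 := by
          conv_lhs => rw [← sum_homogeneousComponent (G' p), Finset.sum_mul, map_sum]
          refine Finset.sum_eq_zero fun k _ => ?_
          rw [homogeneousComponent_of_mem ((mem_homogeneousSubmodule _ _).mpr ((homogeneousComponent_isHomogeneous k (G' p)).mul (hF p.1 (hsS p.2)))), if_neg (by omega)]
        rw [this, map_zero]; exact zero_mem _
    rw [← hPy, show eval t P = eval t Q + eval t (P - Q) by simp]
    exact add_mem h3 (Ideal.mem_sup_right h1)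

end Noetherian

section NoetherianLimit

variable {ι : Type u} [Preorder ι] [Nonempty ι] [IsDirected ι (· ≤ ·)]
  {G : ι → Type u} [∀ i, CommRing (G i)] [∀ i, IsLocalRing (G i)]
  (f : ∀ i j, i ≤ j → G i →+* G j) [DirectedSystem G fun i j h => f i j h]

local notation "B" => Ring.DirectLimit G fun i j h => f i j h

local notation "φ" => Ring.DirectLimit.of G (fun i j h => f i j h)

theorem isNoetherianRing [∀ i, IsNoetherianRing (G i)]
    (hloc : ∀ i j (h : i ≤ j), IsLocalHom (f i j h))
    (hmax : ∀ i j (h : i ≤ j), (IsLocalRing.maximalIdeal (G i)).map (f i j h) = IsLocalRing.maximalIdeal (G j))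
    (hflat : ∀ i j (h : i ≤ j), (f i j h).Flat) : IsNoetherianRing B := by
  classical
  have := isLocalRing f hloc
  obtain ⟨i₀⟩ := ‹Nonempty ι›
  refine isNoetherianRing_of_closed ?_ ?_
  · rw [← map_maximalIdeal f hloc hmax i₀]
    exact Ideal.FG.map (IsNoetherian.noetherian (IsLocalRing.maximalIdeal (G i₀))) _
  · rintro J ⟨s, rfl⟩ z hz
    obtain ⟨j, -, hj⟩ := exists_of_forall f (insert z s) id i₀
    obtain ⟨z', hz'⟩ := hj z (Finset.mem_insert_self _ _)
    simp only [id_eq] at hz'
    subst hz'
    let J' : Ideal (G j) := Ideal.comap (φ j) (Ideal.span (s : Set B))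
    have hJ' : J'.map (φ j) = Ideal.span (s : Set B) := by
      refine le_antisymm Ideal.map_comap_le (Ideal.span_le.mpr fun a ha => ?_)
      obtain ⟨a', ha'⟩ := hj a (Finset.mem_insert_of_mem ha)
      simp only [id_eq] at ha'
      subst ha'
      exact Ideal.mem_map_of_mem _ (show φ j a' ∈ _ from Ideal.subset_span ha)
    have := isLocalHom_of f hloc j
    algebraize [φ j]
    have : Module.Flat (G j) B := flat_of f hflat j
    have : IsLocalHom (algebraMap (G j) B) := isLocalHom_of f hloc j
    have hff : Module.FaithfullyFlat (G j) B := Module.FaithfullyFlat.of_flat_of_isLocalHom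
    have hz2 : ∀ n, z' ∈ J' ⊔ IsLocalRing.maximalIdeal (G j) ^ n := by
      intro n
      rw [← @Ideal.comap_map_eq_self_of_faithfullyFlat (G j) B _ _ _ hff (J' ⊔ IsLocalRing.maximalIdeal (G j) ^ n), Ideal.mem_comap, Ideal.map_sup, Ideal.map_pow]
      rw [← hJ', ← map_maximalIdeal f hloc hmax j] at hz
      exact hz n
    have hz3 : z' ∈ J' := by
      by_cases hJtop : J' = ⊤
      · simp [hJtop]
      · rw [← Ideal.Quotient.eq_zero_iff_mem]
        have : (Ideal.Quotient.mk J' z') ∈ ⨅ n : ℕ, IsLocalRing.maximalIdeal (G j) ^ n • (⊤ : Submodule (G j) (G j ⧸ J')) := by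
          rw [Submodule.mem_iInf]
          intro n
          obtain ⟨a, ha, b, hb, hab⟩ := Submodule.mem_sup.mp (hz2 n)
          rw [← hab, map_add, Ideal.Quotient.eq_zero_iff_mem.mpr ha, zero_add,
            show Ideal.Quotient.mk J' b = b • (1 : G j ⧸ J') by simp [Algebra.smul_def]]
          exact Submodule.smul_mem_smul hb Submodule.mem_top
        rwa [Ideal.iInf_pow_smul_eq_bot_of_isLocalRing _ (IsLocalRing.maximalIdeal.isMaximal _).ne_top, Submodule.mem_bot] at this
    exact hz3

end NoetherianLimit

end Groth.Agent.CAlgLib.LocalLimit
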