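import Groth.Agent.LocFlat.Basic
import Mathlib

/-!
# Flatness from flatness of quotients by a regular element or by powers of an ideal
-/

set_option autoImplicit false

universe u

open TensorProduct Function

namespace Groth.Agent.CAlgLib.FlatCrit

variable {A B : Type u} [CommRing A] [IsNoetherianRing A] [CommRing B] [IsNoetherianRing B] [IsLocalRing B]
  [Algebra A B] {M : Type u} [AddCommGroup M] [Module B M] [Module A M] [IsScalarTower A B M] [Module.Finite B M]

omit [IsNoetherianRing A] [IsNoetherianRing B] [IsLocalRing B] [Module.Finite B M] in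
theorem rTensor_mem_smul (J : Ideal A) (N : Submodule B M) {K : Ideal B} (hN : N ≤ K • ⊤)
    (w : N ⊗[A] J) : (N.subtype.restrictScalars A).rTensor J w ∈ K • (⊤ : Submodule B (M ⊗[A] J)) := by
  induction w with
  | zero => simp
  | tmul x y =>
    rw [LinearMap.rTensor_tmul]
    show ((x : M) ⊗ₜ[A] y) ∈ _
    refine Submodule.smul_induction_on (p := fun m => m ⊗ₜ[A] y ∈ K • (⊤ : Submodule B (M ⊗[A] J))) (hN x.2)
      (fun b hb m _ => ?_) fun a b ha hb => by rw [TensorProduct.add_tmul]; exact add_mem ha hb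
    rw [← TensorProduct.smul_tmul']
    exact Submodule.smul_mem_smul hb trivial
  | add a b ha hb => rw [map_add]; exact add_mem ha hb

omit [IsNoetherianRing A] [IsNoetherianRing B] [IsLocalRing B] [Module.Finite B M] in
/-- A kernel element lands in `K • (M ⊗ J)` when `M/KM` is flat. -/
theorem mem_smul_of_flat (J : Ideal A) (K : Ideal B) (h : Module.Flat A (M ⧸ (K • (⊤ : Submodule B M))))
    (z : M ⊗[A] J) (hz : J.subtype.lTensor M z = 0) : z ∈ K • (⊤ : Submodule B (M ⊗[A] J)) := by
  let N : Submodule B M := K • ⊤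
  let π : M →ₗ[A] M ⧸ N := N.mkQ.restrictScalars A
  have hex : Exact (N.subtype.restrictScalars A) π := fun x => (LinearMap.exact_subtype_mkQ N) x
  have hz0 : π.rTensor J z = 0 := by
    apply Module.Flat.lTensor_preserves_injective_linearMap (M := M ⧸ N) J.subtype J.injective_subtype
    rw [map_zero, ← LinearMap.comp_apply, LinearMap.lTensor_comp_rTensor, ← LinearMap.rTensor_comp_lTensor,
      LinearMap.comp_apply, hz, map_zero]
  obtain ⟨w, rfl⟩ := ((rTensor_exact J hex (Submodule.mkQ_surjective N)) z).mp hz0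
  exact rTensor_mem_smul J N le_rfl w

theorem flat_of_forall_pow (I : Ideal B) (hI : I ≠ ⊤)
    (h : ∀ n : ℕ, Module.Flat A (M ⧸ (I ^ (n + 1) • (⊤ : Submodule B M)))) : Module.Flat A M := by
  rw [Module.Flat.iff_lTensor_injective']
  intro J
  rw [injective_iff_map_eq_zero]
  intro z hz
  haveI : Module.Finite B (M ⊗[A] J) := LocFlat.finite_tensor M J
  rw [← Submodule.mem_bot B, ← Ideal.iInf_pow_smul_eq_bot_of_le_jacobson (M := M ⊗[A] J) I
    ((IsLocalRing.le_maximalIdeal hI).trans (IsLocalRing.maximalIdeal_le_jacobson _)), Submodule.mem_iInf]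
  intro n
  exact Submodule.smul_mono_left (Ideal.pow_le_pow_right n.le_succ) (mem_smul_of_flat J (I ^ (n + 1)) (h n) z hz)

theorem flat_of_regular (f : B) (hf : f ∈ IsLocalRing.maximalIdeal B) (hreg : IsSMulRegular M f)
    (h : Module.Flat A (M ⧸ (Ideal.span {f} • (⊤ : Submodule B M)))) : Module.Flat A M := by
  rw [Module.Flat.iff_lTensor_injective']
  intro J
  haveI : Module.Finite B (M ⊗[A] J) := LocFlat.finite_tensor M J
  let μ : M ⊗[A] J →ₗ[B] M ⊗[A] A := AlgebraTensorModule.lTensor B M J.subtype
  have hker : LinearMap.ker μ ≤ Ideal.span {f} • LinearMap.ker μ := by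
    intro z hz
    have hmem := mem_smul_of_flat J _ h z hz
    rw [Submodule.ideal_span_singleton_smul, Submodule.mem_smul_pointwise_iff_exists] at hmem
    obtain ⟨w, -, rfl⟩ := hmem
    refine Submodule.smul_mem_smul (Ideal.mem_span_singleton_self f) ?_
    rw [LinearMap.mem_ker, map_smul] at hz
    rw [LinearMap.mem_ker]
    have hinj : IsSMulRegular (M ⊗[A] A) f :=
      ((AlgebraTensorModule.rid A B M).isSMulRegular_congr f).mpr hreg
    exact hinj (hz.trans (smul_zero f).symm)
  haveI : IsNoetherian B (M ⊗[A] J) := isNoetherian_of_isNoetherianRing_of_finite B _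
  have := Submodule.eq_bot_of_le_smul_of_le_jacobson_bot (Ideal.span {f}) (LinearMap.ker μ)
    (IsNoetherian.noetherian _) hker
    (((Ideal.span_singleton_le_iff_mem _).mpr hf).trans (IsLocalRing.maximalIdeal_le_jacobson _))
  exact fun x y hxy => (LinearMap.ker_eq_bot.mp this : Injective μ) hxy

end Groth.Agent.CAlgLib.FlatCrit
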