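import Mathlib.LinearAlgebra.Matrix.NonsingularInverse
import Mathlib.RingTheory.Ideal.Span
import Mathlib.LinearAlgebra.Determinant

namespace Groth.Agent.CAlgLib.Minors

open Matrix

variable {R : Type*} [CommRing R] {n m : Type*} [Fintype n] [DecidableEq n] [Fintype m]

/-- `det (B * A)` lies in the ideal spanned by the maximal minors of the tall matrix `A`. -/
theorem det_mul_mem_span_minors (B : Matrix n m R) (A : Matrix m n R) :
    (B * A).det ∈ Ideal.span (Set.range fun f : n → m => (A.submatrix f id).det) := by
  classical
  have h : (B * A) = fun i => ∑ j, B i j • A j := by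
    funext i k
    simp [Matrix.mul_apply]
  rw [h]
  change Matrix.detRowAlternating.toMultilinearMap (fun i => ∑ j, B i j • A j) ∈ _
  rw [MultilinearMap.map_sum]
  refine Submodule.sum_mem _ fun f _ => ?_
  rw [MultilinearMap.map_smul_univ]
  exact Submodule.smul_mem _ _ (Ideal.subset_span ⟨f, rfl⟩)

/-- `det (A * B)` lies in the ideal spanned by the maximal minors of the wide matrix `A`. -/
theorem det_mul_mem_span_minors' (A : Matrix n m R) (B : Matrix m n R) :
    (A * B).det ∈ Ideal.span (Set.range fun f : n → m => (A.submatrix id f).det) := by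
  rw [← Matrix.det_transpose, Matrix.transpose_mul]
  have := det_mul_mem_span_minors Bᵀ Aᵀ
  have heq : (fun f : n → m => (Aᵀ.submatrix f id).det) = fun f : n → m => (A.submatrix id f).det := by
    funext f
    rw [← Matrix.det_transpose, Matrix.transpose_submatrix, Matrix.transpose_transpose]
  rwa [heq] at this

end Groth.Agent.CAlgLib.Minors
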