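import Mathlib

/-!
# Power series over a Noetherian integrally closed domain are integrally closed
-/

set_option autoImplicit false

universe u

open PowerSeries

namespace Groth.Agent.CAlgLib.PowerSeriesIC

variable {R K : Type u} [CommRing R] [IsDomain R] [IsNoetherianRing R] [IsIntegrallyClosed R] [Field K] [Algebra R K]
  [IsFractionRing R K]

theorem mem_range_of_almostIntegral {a : K} {c : R} (hc : c ≠ 0)
    (h : ∀ n : ℕ, algebraMap R K c * a ^ n ∈ (algebraMap R K).range) : a ∈ (algebraMap R K).range := by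
  have hc' : algebraMap R K c ≠ 0 := (map_ne_zero_iff _ (IsFractionRing.injective R K)).mpr hc
  have hle : (Algebra.adjoin R {a}).toSubmodule ≤ Submodule.span R {(algebraMap R K c)⁻¹} := by
    rw [Algebra.adjoin_eq_span, Submodule.span_le]
    intro z hz
    obtain ⟨n, rfl⟩ := Submonoid.mem_closure_singleton.mp hz
    obtain ⟨r, hr⟩ := h n
    refine Submodule.mem_span_singleton.mpr ⟨r, ?_⟩
    rw [Algebra.smul_def, hr, mul_right_comm, mul_inv_cancel₀ hc', one_mul]
  have hfg : (Algebra.adjoin R {a}).toSubmodule.FG := by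
    haveI : IsNoetherian R (Submodule.span R {(algebraMap R K c)⁻¹} : Submodule R K) :=
      isNoetherian_of_fg_of_noetherian _ (Submodule.fg_span_singleton _)
    exact Submodule.FG.of_le (Submodule.fg_span_singleton _) hle
  have hint : IsIntegral R a := IsIntegral.of_mem_of_fg _ hfg a (Algebra.self_mem_adjoin_singleton R a)
  obtain ⟨r, hr⟩ := IsIntegrallyClosed.isIntegral_iff.mp hint
  exact ⟨r, hr⟩

theorem exists_pow_mul_mem {S T : Type*} [CommRing S] [CommRing T] [Algebra S T] (y : T) (b : S)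
    (hb : algebraMap S T b * y ∈ (algebraMap S T).range) (z : T) (hz : z ∈ Algebra.adjoin S {y}) :
    ∃ N : ℕ, algebraMap S T b ^ N * z ∈ (algebraMap S T).range := by
  induction hz using Algebra.adjoin_induction with
  | mem x hx => obtain rfl := Set.mem_singleton_iff.mp hx; exact ⟨1, by simpa using hb⟩
  | algebraMap r => exact ⟨0, r, by simp⟩
  | add x x' _ _ hx hx' =>
    obtain ⟨N, hN⟩ := hx
    obtain ⟨N', hN'⟩ := hx'
    refine ⟨N + N', ?_⟩
    have : algebraMap S T b ^ (N + N') * (x + x') =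
        algebraMap S T (b ^ N') * (algebraMap S T b ^ N * x) + algebraMap S T (b ^ N) * (algebraMap S T b ^ N' * x') := by
      rw [map_pow, map_pow]; ring
    rw [this]
    exact add_mem (mul_mem ⟨_, rfl⟩ hN) (mul_mem ⟨_, rfl⟩ hN')
  | mul x x' _ _ hx hx' =>
    obtain ⟨N, hN⟩ := hx
    obtain ⟨N', hN'⟩ := hx'
    refine ⟨N + N', ?_⟩
    have : algebraMap S T b ^ (N + N') * (x * x') = (algebraMap S T b ^ N * x) * (algebraMap S T b ^ N' * x') := by
      ring
    rw [this]
    exact mul_mem hN hN'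

theorem exists_almost {S T : Type*} [CommRing S] [IsDomain S] [CommRing T] [Algebra S T] {y : T} (hy : IsIntegral S y)
    {b : S} (hb0 : b ≠ 0) (hb : algebraMap S T b * y ∈ (algebraMap S T).range) :
    ∃ d : S, d ≠ 0 ∧ ∀ n : ℕ, algebraMap S T d * y ^ n ∈ (algebraMap S T).range := by
  classical
  obtain ⟨G, hG⟩ := hy.fg_adjoin_singleton
  have hex : ∀ z : G, ∃ N : ℕ, algebraMap S T b ^ N * z ∈ (algebraMap S T).range := fun z =>
    exists_pow_mul_mem y b hb z (by
      show (z : T) ∈ (Algebra.adjoin S {y}).toSubmodule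
      rw [← hG]; exact Submodule.subset_span z.2)
  choose N hN using hex
  refine ⟨b ^ (Finset.univ.sup N), pow_ne_zero _ hb0, fun n => ?_⟩
  have hmem : y ^ n ∈ (Algebra.adjoin S {y}).toSubmodule := pow_mem (Algebra.self_mem_adjoin_singleton S y) n
  rw [← hG] at hmem
  generalize y ^ n = w at hmem
  induction hmem using Submodule.span_induction with
  | mem z hz =>
    have hle : N ⟨z, hz⟩ ≤ Finset.univ.sup N := Finset.le_sup (Finset.mem_univ _)
    rw [← Nat.sub_add_cancel hle, map_pow, pow_add, mul_assoc]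
    exact mul_mem ⟨b ^ _, map_pow _ _ _⟩ (hN ⟨z, hz⟩)
  | zero => simp
  | add x x' _ _ hx hx' => rw [mul_add]; exact add_mem hx hx'
  | smul r x _ hx => rw [Algebra.smul_def, mul_left_comm]; exact mul_mem ⟨r, rfl⟩ hx

theorem coeff_mem_of_integral [Algebra (R⟦X⟧) (K⟦X⟧)]
    (halg : algebraMap (R⟦X⟧) (K⟦X⟧) = PowerSeries.map (algebraMap R K))
    {b : R⟦X⟧} (hb0 : b ≠ 0) : ∀ (k : ℕ) (y : K⟦X⟧), IsIntegral (R⟦X⟧) y →
      algebraMap (R⟦X⟧) (K⟦X⟧) b * y ∈ (algebraMap (R⟦X⟧) (K⟦X⟧)).range →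
      (∀ i < k, coeff i y = 0) → coeff k y ∈ (algebraMap R K).range := by
  intro k y hy hby hlt
  classical
  obtain ⟨d, hd0, hd⟩ := exists_almost hy hb0 hby
  have hex : ∃ m, coeff m d ≠ 0 := by
    by_contra hh
    push Not at hh
    exact hd0 (PowerSeries.ext fun i => by simp [hh i])
  let m := Nat.find hex
  obtain ⟨d', hd'⟩ : (PowerSeries.X : K⟦X⟧) ^ m ∣ algebraMap (R⟦X⟧) (K⟦X⟧) d :=
    PowerSeries.X_pow_dvd_iff.mpr fun i hi => by
      rw [halg, PowerSeries.coeff_map, not_not.mp (Nat.find_min hex hi), map_zero]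
  obtain ⟨h, hh⟩ : (PowerSeries.X : K⟦X⟧) ^ k ∣ y := PowerSeries.X_pow_dvd_iff.mpr hlt
  refine mem_range_of_almostIntegral (Nat.find_spec hex) fun n => ?_
  obtain ⟨r, hr⟩ := hd n
  refine ⟨coeff (m + k * n) r, ?_⟩
  have h1 : coeff (m + k * n) (algebraMap (R⟦X⟧) (K⟦X⟧) d * y ^ n) = constantCoeff (d' * h ^ n) := by
    rw [hd', hh, mul_pow, ← pow_mul, mul_mul_mul_comm, ← pow_add]
    rw [← coeff_zero_eq_constantCoeff_apply]
    simpa using PowerSeries.coeff_X_pow_mul (d' * h ^ n) (m + k * n) 0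
  have h2 : algebraMap R K (coeff m d) = constantCoeff d' := by
    rw [← PowerSeries.coeff_map, ← halg, hd', ← coeff_zero_eq_constantCoeff_apply]
    simpa using PowerSeries.coeff_X_pow_mul d' m 0
  have h3 : coeff k y = constantCoeff h := by
    rw [hh, ← coeff_zero_eq_constantCoeff_apply]
    simpa using PowerSeries.coeff_X_pow_mul h k 0
  rw [← PowerSeries.coeff_map, ← halg, hr, h1, h2, h3, map_mul, map_pow]

theorem isIntegrallyClosed : IsIntegrallyClosed (R⟦X⟧) := by
  classical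
  letI : Algebra (R⟦X⟧) ((FractionRing R)⟦X⟧) := (PowerSeries.map (algebraMap R (FractionRing R))).toAlgebra
  let K := FractionRing R
  have halg : algebraMap (R⟦X⟧) (K⟦X⟧) = PowerSeries.map (algebraMap R K) := rfl
  have hinj : Function.Injective (algebraMap (R⟦X⟧) (K⟦X⟧)) := by
    intro f g hfg
    ext i
    apply IsFractionRing.injective R K
    simpa only [halg, PowerSeries.coeff_map] using congrArg (coeff i) hfg
  let L := FractionRing (K⟦X⟧)
  let j : R⟦X⟧ →+* L := algebraMap (R⟦X⟧) L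
  have hjinj : Function.Injective j := by
    show Function.Injective (algebraMap (R⟦X⟧) L)
    rw [IsScalarTower.algebraMap_eq (R⟦X⟧) (K⟦X⟧) L]
    exact (IsFractionRing.injective (K⟦X⟧) L).comp hinj
  refine (isIntegrallyClosed_iff (FractionRing (R⟦X⟧))).mpr fun {x} hx => ?_
  obtain ⟨a, b, hb, rfl⟩ := IsFractionRing.div_surjective (R⟦X⟧) x
  have hb0 : b ≠ 0 := nonZeroDivisors.ne_zero hb
  let ψ : FractionRing (R⟦X⟧) →+* L := IsFractionRing.lift hjinj
  have hψ : ∀ c, ψ (algebraMap (R⟦X⟧) _ c) = j c := fun c => IsFractionRing.lift_algebraMap hjinj c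
  let ψ' : FractionRing (R⟦X⟧) →ₐ[R⟦X⟧] L := { toRingHom := ψ, commutes' := hψ }
  have hz : IsIntegral (R⟦X⟧) (j a / j b) := by
    have := hx.map ψ'
    rwa [show ψ' (algebraMap _ _ a / algebraMap _ _ b) = j a / j b by
      show ψ _ = _; rw [map_div₀, hψ, hψ]] at this
  obtain ⟨y, hy⟩ := IsIntegrallyClosed.isIntegral_iff.mp (hz.tower_top (A := K⟦X⟧))
  have hyint : IsIntegral (R⟦X⟧) y :=
    (isIntegral_algebraMap_iff (IsFractionRing.injective (K⟦X⟧) L)).mp (hy ▸ hz)
  have hay : algebraMap (R⟦X⟧) (K⟦X⟧) b * y = algebraMap (R⟦X⟧) (K⟦X⟧) a := by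
    apply IsFractionRing.injective (K⟦X⟧) L
    rw [map_mul, hy, ← IsScalarTower.algebraMap_apply, ← IsScalarTower.algebraMap_apply]
    exact mul_div_cancel₀ _ ((map_ne_zero_iff j hjinj).mpr hb0)
  have hall : ∀ k, coeff k y ∈ (algebraMap R K).range := by
    intro k
    induction k using Nat.strong_induction_on with
    | _ k ih =>
      choose c hc using ih
      let p : R⟦X⟧ := PowerSeries.mk fun i => if hi : i < k then c i hi else 0
      have hp : ∀ i, ∀ hi : i < k, coeff i (algebraMap (R⟦X⟧) (K⟦X⟧) p) = coeff i y := fun i hi => by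
        rw [halg, PowerSeries.coeff_map, PowerSeries.coeff_mk, dif_pos hi, hc]
      have h := coeff_mem_of_integral halg hb0 k (y - algebraMap (R⟦X⟧) (K⟦X⟧) p) (hyint.sub isIntegral_algebraMap)
        ⟨a - b * p, by rw [map_sub, map_mul, mul_sub, hay]⟩
        (fun i hi => by rw [map_sub, hp i hi, sub_self])
      have hk : coeff k (algebraMap (R⟦X⟧) (K⟦X⟧) p) = 0 := by
        rw [halg, PowerSeries.coeff_map, PowerSeries.coeff_mk, dif_neg (lt_irrefl k), map_zero]
      rwa [map_sub, hk, sub_zero] at h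
  choose c hc using hall
  refine ⟨PowerSeries.mk c, ?_⟩
  have hcy : algebraMap (R⟦X⟧) (K⟦X⟧) (PowerSeries.mk c) = y := by
    ext i; rw [halg, PowerSeries.coeff_map, PowerSeries.coeff_mk, hc]
  have hmul : b * PowerSeries.mk c = a := hinj (by rw [map_mul, hcy, hay])
  rw [← hmul, map_mul, mul_div_cancel_left₀]
  exact (map_ne_zero_iff _ (IsFractionRing.injective (R⟦X⟧) _)).mpr hb0

end Groth.Agent.CAlgLib.PowerSeriesIC
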