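import Groth.Agent.CAlgLib.N2Completion
import Groth.Agent.CAlgLib.PowerSeriesIC
import Groth.Agent.Nagata.CompleteLocal
import Mathlib

/-!
# Height one primes of integral closures of Noetherian domains (Mori)

A subring `S` of a field `K` cut out by finitely many maps `ι Q : K → L Q` into fraction fields of Noetherian
integrally closed domains `D Q` behaves like a Krull domain.
-/

set_option autoImplicit false

universe u

open Polynomial

namespace Groth.Agent.CAlgLib.Mori

/-- `S` is cut out of the field `K` by finitely many Noetherian normal domains. -/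
structure FiniteCut {K : Type u} [Field K] (S : Subring K) where
  Q : Type u
  finite : Finite Q
  D : Q → Type u
  commRing : ∀ i, CommRing (D i)
  isDomain : ∀ i, IsDomain (D i)
  noeth : ∀ i, IsNoetherianRing (D i)
  ic : ∀ i, IsIntegrallyClosed (D i)
  ι : ∀ i, letI := commRing i; letI := isDomain i; K →+* FractionRing (D i)
  mem_iff : ∀ x : K, x ∈ S ↔ ∀ i, letI := commRing i; letI := isDomain i;
    ι i x ∈ (algebraMap (D i) (FractionRing (D i))).range
  fraction : ∀ x : K, ∃ a b : S, (b : K) ≠ 0 ∧ x * b = a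

attribute [instance] FiniteCut.finite FiniteCut.commRing FiniteCut.isDomain FiniteCut.noeth FiniteCut.ic

section Krull

variable {K : Type u} [Field K] {S : Subring K}

/-- The colon ideal `(S : y)`. -/
def colon (S : Subring K) (y : K) : Ideal S where
  carrier := {s | (s : K) * y ∈ S}
  add_mem' := fun {s t} hs ht => by
    show ((s + t : S) : K) * y ∈ S
    rw [Subring.coe_add, add_mul]; exact add_mem hs ht
  zero_mem' := by show ((0 : S) : K) * y ∈ S; rw [Subring.coe_zero, zero_mul]; exact zero_mem _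
  smul_mem' := fun r s hs => by
    show ((r * s : S) : K) * y ∈ S
    rw [Subring.coe_mul, mul_assoc]; exact mul_mem r.2 hs

theorem mem_colon {y : K} {s : S} : s ∈ colon S y ↔ (s : K) * y ∈ S := Iff.rfl

theorem one_mem_colon {y : K} : (1 : S) ∈ colon S y ↔ y ∈ S := by simp [mem_colon]

theorem colon_mul_le {y : K} {t : S} : colon S y ≤ colon S ((t : K) * y) := fun s hs => by
  rw [mem_colon, mul_left_comm]; exact mul_mem t.2 hs

theorem mem_colon_mul {y : K} {s t : S} : s * t ∈ colon S y ↔ s ∈ colon S ((t : K) * y) := by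
  rw [mem_colon, mem_colon, Subring.coe_mul, mul_assoc]

theorem eq_of_le_heightOne {R : Type u} [CommRing R] [IsDomain R] {r q : Ideal R} [q.IsPrime] (hr : r.IsPrime)
    (hle : r ≤ q) (hq : q.height = 1) (hne : r ≠ ⊥) : r = q :=
  hle.eq_of_not_lt fun hlt => hne (Ideal.height_eq_zero_iff_eq_bot.mp
    (Order.lt_one_iff.mp ((Ideal.height_le_iff (n := 1)).mp hq.le r hr hlt)))

variable (c : FiniteCut S)

/-- The map `S → D i`. -/
noncomputable def jmap (i : c.Q) : S →+* c.D i :=
  (IsFractionRing.injective (c.D i) (FractionRing (c.D i)) |> fun h =>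
    (RingEquiv.ofBijective (algebraMap (c.D i) (FractionRing (c.D i))).rangeRestrict
      ⟨fun x y hxy => h (congrArg Subtype.val hxy), RingHom.rangeRestrict_surjective _⟩).symm.toRingHom).comp
    (((c.ι i).comp S.subtype).codRestrict _ fun s => (c.mem_iff s).mp s.2 i)

theorem algebraMap_jmap (i : c.Q) (s : S) : algebraMap (c.D i) (FractionRing (c.D i)) (jmap c i s) = c.ι i s :=
  congrArg Subtype.val ((RingEquiv.ofBijective (algebraMap (c.D i) (FractionRing (c.D i))).rangeRestrict
      ⟨fun x y hxy => IsFractionRing.injective (c.D i) (FractionRing (c.D i)) (congrArg Subtype.val hxy),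
        RingHom.rangeRestrict_surjective _⟩).apply_symm_apply ⟨c.ι i s, (c.mem_iff s).mp s.2 i⟩)

theorem jmap_injective (i : c.Q) : Function.Injective (jmap c i) := fun a b hab => by
  have h := congrArg (algebraMap (c.D i) (FractionRing (c.D i))) hab
  rw [algebraMap_jmap, algebraMap_jmap] at h
  exact Subtype.ext ((c.ι i).injective h)

/-- The colon ideal in one of the factors. -/
def colonD (y : K) (i : c.Q) : Ideal (c.D i) where
  carrier := {d | algebraMap (c.D i) (FractionRing (c.D i)) d * c.ι i y ∈ (algebraMap (c.D i) (FractionRing (c.D i))).range}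
  add_mem' := fun {s t} hs ht => by
    show algebraMap (c.D i) (FractionRing (c.D i)) (s + t) * c.ι i y ∈ (algebraMap (c.D i) (FractionRing (c.D i))).range
    rw [map_add, add_mul]; exact add_mem hs ht
  zero_mem' := by show algebraMap (c.D i) (FractionRing (c.D i)) (0 : c.D i) * c.ι i y ∈ (algebraMap (c.D i) (FractionRing (c.D i))).range; rw [map_zero, zero_mul]; exact zero_mem _
  smul_mem' := fun r s hs => by
    show algebraMap (c.D i) (FractionRing (c.D i)) (r * s) * c.ι i y ∈ (algebraMap (c.D i) (FractionRing (c.D i))).range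
    rw [map_mul, mul_assoc]; exact mul_mem ⟨r, rfl⟩ hs

theorem mem_colon_iff {y : K} {s : S} : s ∈ colon S y ↔ ∀ i, jmap c i s ∈ colonD c y i := by
  rw [mem_colon, c.mem_iff]
  refine forall_congr' fun i => ?_
  show _ ↔ algebraMap (c.D i) (FractionRing (c.D i)) (jmap c i s) * c.ι i y ∈ (algebraMap (c.D i) (FractionRing (c.D i))).range
  rw [algebraMap_jmap, map_mul]

include c in
/-- Contractions of extended colon ideals: the ascending chain condition. -/
theorem exists_maximal_colon (P : Set K) (hP : P.Nonempty) :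
    ∃ y ∈ P, ∀ y' ∈ P, colon S y ≤ colon S y' → colon S y' ≤ colon S y := by
  let T : K → Ideal (∀ i, c.D i) := fun y => (colon S y).map (RingHom.pi fun i => jmap c i)
  have hT : ∀ y s, RingHom.pi (fun i => jmap c i) s ∈ T y → s ∈ colon S y := by
    intro y s hs
    refine (mem_colon_iff c).mpr fun i => ?_
    have hle : T y ≤ (colonD c y i).comap (Pi.evalRingHom c.D i) := by
      rw [Ideal.map_le_iff_le_comap]
      intro t ht
      exact (mem_colon_iff c).mp ht i
    exact hle hs
  obtain ⟨_, ⟨y, hy, rfl⟩, hmax⟩ := set_has_maximal_iff_noetherian.mpr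
    (inferInstance : IsNoetherian (∀ i, c.D i) (∀ i, c.D i)) (T '' P) (hP.image T)
  refine ⟨y, hy, fun y' hy' hle s hs => hT y s ?_⟩
  have h : T y = T y' := eq_of_le_of_not_lt (Ideal.map_mono hle) (hmax _ ⟨y', hy', rfl⟩)
  rw [h]
  exact Ideal.mem_map_of_mem _ hs

include c

theorem exists_mem_colon_ne_zero (y : K) : ∃ b ∈ colon S y, b ≠ 0 := by
  obtain ⟨a, b, hb, hab⟩ := c.fraction y
  exact ⟨b, by rw [mem_colon, mul_comm, hab]; exact a.2, fun h => hb (by simp [h])⟩

/-- A colon ideal is contracted from primes of the factors. -/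
theorem exists_prime_over {y : K} {q : Ideal S} [q.IsPrime] (h : colon S y ≤ q) :
    ∃ (i : c.Q) (P : Ideal (c.D i)), P ∈ (colonD c y i).minimalPrimes ∧ P.comap (jmap c i) ≤ q := by
  classical
  by_contra hne
  push Not at hne
  haveI := Fintype.ofFinite c.Q
  haveI : ∀ i, Finite (colonD c y i).minimalPrimes := fun i =>
    ((colonD c y i).finite_minimalPrimes_of_isNoetherianRing _).to_subtype
  haveI : ∀ i, Fintype (colonD c y i).minimalPrimes := fun i => Fintype.ofFinite _
  choose g hg using fun i (P : (colonD c y i).minimalPrimes) => SetLike.not_le_iff_exists.mp (hne i P.1 P.2)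
  let s : S := ∏ i, ∏ P, g i P
  have hs : s ∉ q := fun hmem => by
    obtain ⟨i, -, hi⟩ := (Ideal.IsPrime.prod_mem_iff).mp hmem
    obtain ⟨P, -, hP⟩ := (Ideal.IsPrime.prod_mem_iff).mp hi
    exact (hg i P).2 hP
  have hrad : ∀ i, jmap c i s ∈ (colonD c y i).radical := fun i => by
    rw [← Ideal.sInf_minimalPrimes, Ideal.mem_sInf]
    intro P hP
    have h1 : g i ⟨P, hP⟩ ∣ s :=
      (Finset.dvd_prod_of_mem (g i) (Finset.mem_univ _)).trans (Finset.dvd_prod_of_mem _ (Finset.mem_univ i))
    obtain ⟨t, ht⟩ := h1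
    rw [ht, map_mul]
    exact P.mul_mem_right _ (hg i ⟨P, hP⟩).1
  choose n hn using hrad
  refine hs (Ideal.IsPrime.mem_of_pow_mem ‹_› (Finset.univ.sup n) (h ((mem_colon_iff c).mpr fun i => ?_)))
  rw [map_pow]
  exact Ideal.pow_mem_of_pow_mem _ (hn i) (Finset.le_sup (Finset.mem_univ i))

/-- Every `z ≠ 0` is, up to elements outside `q`, a power of one element: the structure of a colon prime. -/
theorem structure_of_colon_prime {y : K} {q : Ideal S} [q.IsPrime] (hq : colon S y = q) :
    ∃ p : S, p ∈ q ∧ p ≠ 0 ∧ (∀ z : S, z ≠ 0 → ∃ (n : ℕ) (u v : S), u ∉ q ∧ v ∉ q ∧ z * v = p ^ n * u) := by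
  classical
  have hy : y ∉ S := fun h => (Ideal.IsPrime.ne_top ‹_›) (hq ▸ (Ideal.eq_top_iff_one _).mpr (one_mem_colon.mpr h))
  obtain ⟨p, hp, w, hw, hpw⟩ : ∃ p ∈ q, ∃ w : S, w ∉ q ∧ (p : K) * y = w := by
    by_contra hne
    push Not at hne
    obtain ⟨b, hb, hb0⟩ := exists_mem_colon_ne_zero c y
    rw [hq] at hb
    have hpow : ∀ n : ℕ, ∃ z ∈ q, (z : K) = b * y ^ n := by
      intro n
      induction n with
      | zero => exact ⟨b, hb, by simp⟩
      | succ n ih =>
        obtain ⟨z, hz, hzn⟩ := ih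
        have hzy : (z : K) * y ∈ S := mem_colon.mp (hq.ge hz)
        refine ⟨⟨_, hzy⟩, by_contra fun h => hne z hz ⟨_, hzy⟩ h rfl, ?_⟩
        show (z : K) * y = _
        rw [hzn, pow_succ, mul_assoc]
    apply hy
    rw [c.mem_iff]
    intro i
    refine PowerSeriesIC.mem_range_of_almostIntegral (c := jmap c i b)
      (fun h => hb0 (jmap_injective c i (h.trans (map_zero _).symm))) fun n => ?_
    obtain ⟨z, -, hzn⟩ := hpow n
    exact ⟨jmap c i z, by rw [algebraMap_jmap, algebraMap_jmap, hzn, map_mul, map_pow]⟩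
  have hp0 : p ≠ 0 := fun h => hw (by
    have : w = 0 := Subtype.ext (by rw [← hpw, h]; simp)
    rw [this]; exact zero_mem q)
  refine ⟨p, hp, hp0, fun z hz => ?_⟩
  have hdvd : ∀ z ∈ q, ∃ z' : S, z * w = p * z' := fun z hz => by
    refine ⟨⟨_, mem_colon.mp (hq.ge hz)⟩, Subtype.ext ?_⟩
    rw [Subring.coe_mul, Subring.coe_mul, ← hpw]
    exact mul_left_comm _ _ _
  obtain ⟨i, P, hP, hPq⟩ := exists_prime_over c hq.le
  haveI := hP.1.1
  have hjp : jmap c i p ∈ P := hP.1.2 ((mem_colon_iff c).mp (hq.ge hp) i)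
  have hfin : ∃ n, ∀ z' : S, z * w ^ n = p ^ n * z' → z' ∉ q := by
    by_contra hall
    push Not at hall
    apply hz
    apply jmap_injective c i
    rw [map_zero]
    haveI : IsLocalRing (Localization.AtPrime P) := inferInstance
    haveI : IsNoetherianRing (Localization.AtPrime P) := IsLocalization.isNoetherianRing P.primeCompl _ inferInstance
    apply IsLocalization.injective (Localization.AtPrime P) P.primeCompl_le_nonZeroDivisors
    rw [map_zero]
    have hmem : algebraMap _ (Localization.AtPrime P) (jmap c i z) ∈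
        ⨅ n : ℕ, IsLocalRing.maximalIdeal (Localization.AtPrime P) ^ n := by
      rw [Ideal.mem_iInf]
      intro n
      obtain ⟨z', hz', -⟩ := hall n
      have hu : IsUnit (algebraMap _ (Localization.AtPrime P) (jmap c i (w ^ n))) :=
        IsLocalization.map_units (Localization.AtPrime P)
          (⟨jmap c i (w ^ n), fun h => hw (Ideal.IsPrime.mem_of_pow_mem ‹q.IsPrime› n (hPq h))⟩ : P.primeCompl)
      rw [← Ideal.mul_unit_mem_iff_mem _ hu, ← map_mul, ← map_mul, hz', map_mul, map_pow, map_mul, map_pow]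
      refine Ideal.mul_mem_right _ _ (Ideal.pow_mem_pow ?_ n)
      rw [← Localization.AtPrime.map_eq_maximalIdeal]
      exact Ideal.mem_map_of_mem _ hjp
    rwa [Ideal.iInf_pow_eq_bot_of_isLocalRing _ (IsLocalRing.maximalIdeal.isMaximal _).ne_top, Ideal.mem_bot] at hmem
  let n := Nat.find hfin
  have hex : ∃ z' : S, z * w ^ n = p ^ n * z' := by
    rcases Nat.eq_zero_or_pos n with h | h
    · exact ⟨z, by rw [h]; simp⟩
    · obtain ⟨m, hm⟩ : ∃ m, n = m + 1 := ⟨n - 1, by omega⟩
      have := Nat.find_min hfin (show m < Nat.find hfin by show m < n; omega)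
      push Not at this
      obtain ⟨z', hz', hmem⟩ := this
      obtain ⟨z'', hz''⟩ := hdvd z' hmem
      exact ⟨z'', by rw [hm, pow_succ, ← mul_assoc, hz', mul_assoc, hz'', pow_succ, mul_assoc]⟩
  obtain ⟨u, hu⟩ := hex
  exact ⟨n, u, w ^ n, Nat.find_spec hfin u hu, fun h => hw (Ideal.IsPrime.mem_of_pow_mem ‹q.IsPrime› n h), hu⟩

theorem height_colon_prime {y : K} {q : Ideal S} [q.IsPrime] (hq : colon S y = q) : q.height = 1 := by
  obtain ⟨p, hp, hp0, hp'⟩ := structure_of_colon_prime c hq
  refine le_antisymm ((Ideal.height_le_iff (n := 1)).mpr fun r hr hlt => ?_) ?_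
  · suffices r = ⊥ by rw [this, Ideal.height_bot]; exact zero_lt_one
    refine (Submodule.eq_bot_iff r).mpr fun z hz => by_contra fun hz0 => ?_
    obtain ⟨n, u, v, hu, hv, h⟩ := hp' z hz0
    have hpr : p ∈ r := hr.mem_of_pow_mem n ((hr.mem_or_mem (h ▸ r.mul_mem_right v hz)).resolve_right fun h' => hu (hlt.le h'))
    obtain ⟨z', hz', hz'r⟩ := SetLike.exists_of_lt hlt
    have hz'0 : z' ≠ 0 := fun h => hz'r (h ▸ zero_mem r)
    obtain ⟨n', u', v', hu', hv', h'⟩ := hp' z' hz'0
    rcases Nat.eq_zero_or_pos n' with h0 | h0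
    · rw [h0, pow_zero, one_mul] at h'
      exact hu' (h' ▸ q.mul_mem_right v' hz')
    · have : z' * v' ∈ r := h' ▸ r.mul_mem_right _ (r.pow_mem_of_mem hpr n' h0)
      exact hv' (hlt.le ((hr.mem_or_mem this).resolve_left hz'r))
  · rw [Order.one_le_iff_pos, pos_iff_ne_zero, ne_eq, Ideal.height_eq_zero_iff_eq_bot]
    exact fun h => hp0 ((Submodule.eq_bot_iff q).mp h p hp)

/-- An element outside `S` is outside the local ring at some height one prime. -/
theorem exists_heightOne {x : K} (hx : x ∉ S) :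
    ∃ q : Ideal S, q.IsPrime ∧ q.height = 1 ∧ colon S x ≤ q := by
  obtain ⟨y, ⟨hy, hxy⟩, hmax⟩ := exists_maximal_colon c {y | y ∉ S ∧ colon S x ≤ colon S y} ⟨x, hx, le_rfl⟩
  have hprime : (colon S y).IsPrime := by
    refine Ideal.isPrime_iff.mpr ⟨fun h => hy (one_mem_colon.mp (h ▸ trivial)), fun {s t} hst => ?_⟩
    by_cases ht : t ∈ colon S y
    · exact Or.inr ht
    · exact Or.inl (hmax _ ⟨ht, hxy.trans colon_mul_le⟩ colon_mul_le (mem_colon_mul.mp hst))
  exact ⟨_, hprime, height_colon_prime c (q := colon S y) rfl, hxy⟩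

/-- Height one primes are colon ideals. -/
theorem exists_colon_eq {q : Ideal S} [q.IsPrime] (hq : q.height = 1) : ∃ y : K, colon S y = q := by
  obtain ⟨b, hb, hb0⟩ := Submodule.exists_mem_ne_zero_of_ne_bot (Ideal.ne_bot_of_height_eq_one hq)
  have hb' : (b : K) ≠ 0 := fun h => hb0 (Subtype.ext h)
  have hne : colon S (b : K)⁻¹ ≤ q := fun s hs => by
    have hmem : (s : K) * (b : K)⁻¹ ∈ S := hs
    have : s = ⟨_, hmem⟩ * b := Subtype.ext (by simp [mul_assoc, inv_mul_cancel₀ hb'])
    rw [this]; exact q.mul_mem_left _ hb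
  obtain ⟨y, hy, hmax⟩ := exists_maximal_colon c {y | colon S y ≤ q} ⟨_, hne⟩
  have hstep : ∀ {s t : S}, s * t ∈ colon S y → t ∉ q → s ∈ colon S y := fun {s t} hst ht =>
    hmax ((t : K) * y) (fun u hu => (Ideal.IsPrime.mem_or_mem ‹_› (hy (mem_colon_mul.mpr hu))).resolve_right ht)
      colon_mul_le (mem_colon_mul.mp hst)
  have hprime : (colon S y).IsPrime := by
    refine Ideal.isPrime_iff.mpr ⟨fun h => Ideal.IsPrime.ne_top ‹_› (top_le_iff.mp (h.ge.trans hy)), fun {s t} hst => ?_⟩
    by_cases ht : t ∈ colon S y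
    · exact Or.inr ht
    refine Or.inl ?_
    by_cases hle : colon S ((t : K) * y) ≤ q
    · exact hmax _ hle colon_mul_le (mem_colon_mul.mp hst)
    · obtain ⟨v, hv, hvq⟩ := SetLike.not_le_iff_exists.mp hle
      exact absurd (hstep ((mul_comm t v).symm ▸ mem_colon_mul.mpr hv : t * v ∈ colon S y) hvq) ht
  obtain ⟨b', hb'', hb'0⟩ := exists_mem_colon_ne_zero c y
  exact ⟨y, eq_of_le_heightOne hprime hy hq fun h1 => hb'0 ((Submodule.eq_bot_iff _).mp h1 b' hb'')⟩

/-- Only finitely many height one primes contain a given colon ideal. -/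
theorem finite_heightOne (x : K) : {q : Ideal S | q.IsPrime ∧ q.height = 1 ∧ colon S x ≤ q}.Finite := by
  haveI : ∀ i, Finite (colonD c x i).minimalPrimes := fun i =>
    ((colonD c x i).finite_minimalPrimes_of_isNoetherianRing _).to_subtype
  refine Set.Finite.subset (Set.finite_range
    fun p : Σ i, (colonD c x i).minimalPrimes => p.2.1.comap (jmap c p.1)) ?_
  rintro q ⟨hq, hh, hle⟩
  obtain ⟨i, P, hP, hPq⟩ := exists_prime_over c hle
  haveI := hP.1.1
  obtain ⟨b, hb, hb0⟩ := exists_mem_colon_ne_zero c x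
  refine ⟨⟨i, P, hP⟩, eq_of_le_heightOne inferInstance hPq hh fun h1 => ?_⟩
  exact hb0 ((Submodule.eq_bot_iff _).mp h1 b (hP.1.2 ((mem_colon_iff c).mp hb i)))

/-- The valuation subring at a height one prime. -/
theorem exists_valuationSubring {q : Ideal S} [q.IsPrime] (hq : q.height = 1) :
    ∃ V : ValuationSubring K, IsDiscreteValuationRing V ∧
      ∀ x : K, x ∈ V ↔ ∃ s : S, s ∉ q ∧ (s : K) * x ∈ S := by
  obtain ⟨y, hy⟩ := exists_colon_eq c hq
  obtain ⟨p, hp, hp0, hp'⟩ := structure_of_colon_prime c hy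
  have hne : ∀ {s : S}, s ∉ q → (s : K) ≠ 0 := fun {s} hs h => hs (by rw [show s = 0 from Subtype.ext h]; exact zero_mem q)
  have hpK : (p : K) ≠ 0 := fun h => hp0 (Subtype.ext h)
  let V₀ : Subring K :=
    { carrier := {x | ∃ s : S, s ∉ q ∧ (s : K) * x ∈ S}
      one_mem' := ⟨1, fun h => Ideal.IsPrime.ne_top ‹_› ((Ideal.eq_top_iff_one _).mpr h), by simp [one_mem]⟩
      zero_mem' := ⟨1, fun h => Ideal.IsPrime.ne_top ‹_› ((Ideal.eq_top_iff_one _).mpr h), by simp [zero_mem]⟩
      mul_mem' := by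
        rintro a b ⟨s, hs, ha⟩ ⟨t, ht, hb⟩
        refine ⟨s * t, fun h => (Ideal.IsPrime.mem_or_mem ‹_› h).elim hs ht, ?_⟩
        rw [Subring.coe_mul, mul_mul_mul_comm]; exact mul_mem ha hb
      add_mem' := by
        rintro a b ⟨s, hs, ha⟩ ⟨t, ht, hb⟩
        refine ⟨s * t, fun h => (Ideal.IsPrime.mem_or_mem ‹_› h).elim hs ht, ?_⟩
        rw [Subring.coe_mul, mul_add]
        exact add_mem (by rw [mul_comm (s : K), mul_assoc]; exact mul_mem t.2 ha) (by rw [mul_assoc]; exact mul_mem s.2 hb)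
      neg_mem' := by rintro a ⟨s, hs, ha⟩; exact ⟨s, hs, by rw [mul_neg]; exact neg_mem ha⟩ }
  have hV : ∀ x : K, x ∈ V₀ ↔ ∃ s : S, s ∉ q ∧ (s : K) * x ∈ S := fun x => Iff.rfl
  have hrep : ∀ x : K, x ≠ 0 → ∃ (m n : ℕ) (e f : S), e ∉ q ∧ f ∉ q ∧ x * ((p : K) ^ n * f) = (p : K) ^ m * e := by
    intro x hx
    obtain ⟨a, b, hb, hab⟩ := c.fraction x
    have ha : a ≠ 0 := fun h => mul_ne_zero hx hb (by rw [hab, h]; rfl)
    obtain ⟨m, ua, va, hua, hva, hA⟩ := hp' a ha
    obtain ⟨n, ub, vb, hub, hvb, hB⟩ := hp' b (fun h => hb (by rw [h]; rfl))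
    refine ⟨m, n, ua * vb, ub * va, fun h => (Ideal.IsPrime.mem_or_mem ‹_› h).elim hua hvb,
      fun h => (Ideal.IsPrime.mem_or_mem ‹_› h).elim hub hva, ?_⟩
    have hA' : (a : K) * va = (p : K) ^ m * ua := by simpa using congrArg Subtype.val hA
    have hB' : (b : K) * vb = (p : K) ^ n * ub := by simpa using congrArg Subtype.val hB
    rw [Subring.coe_mul, Subring.coe_mul, ← mul_assoc ((p : K) ^ n), ← mul_assoc ((p : K) ^ m), ← hA', ← hB', ← hab]
    ring
  let V : ValuationSubring K :=
    { toSubring := V₀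
      mem_or_inv_mem' := fun x => by
        rcases eq_or_ne x 0 with rfl | hx
        · exact Or.inl V₀.zero_mem
        obtain ⟨m, n, e, f, he, hf, h⟩ := hrep x hx
        rcases le_total n m with hnm | hnm
        · left
          refine ⟨f, hf, ?_⟩
          have : (f : K) * x = (p : K) ^ (m - n) * e := by
            apply mul_left_cancel₀ (pow_ne_zero n hpK)
            rw [← mul_assoc ((p : K) ^ n) _ (e : K), ← pow_add, Nat.add_sub_cancel' hnm, ← h]; ring
          rw [this]; exact mul_mem (pow_mem p.2 _) e.2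
        · right
          refine ⟨e, he, ?_⟩
          have : (e : K) * x⁻¹ = (p : K) ^ (n - m) * f := by
            apply mul_left_cancel₀ (pow_ne_zero m hpK)
            rw [← mul_assoc ((p : K) ^ m) _ (f : K), ← pow_add, Nat.add_sub_cancel' hnm, ← mul_assoc, ← h]
            field_simp
          rw [this]; exact mul_mem (pow_mem p.2 _) f.2 }
  refine ⟨V, IsDiscreteValuationRing.ofHasUnitMulPowIrreducibleFactorization ?_, hV⟩
  have hSV : ∀ s : S, (s : K) ∈ V := fun s => ⟨1, fun h => Ideal.IsPrime.ne_top ‹_› ((Ideal.eq_top_iff_one _).mpr h), by simp⟩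
  let π : V := ⟨p, hSV p⟩
  have hu : ∀ {e f : S}, e ∉ q → f ∉ q → ∀ z : V, (z : K) * f = e → IsUnit z := fun {e f} he hf z hz => by
    have hmem : (f : K) * (e : K)⁻¹ ∈ V := ⟨e, he, by rw [mul_left_comm, mul_inv_cancel₀ (hne he), mul_one]; exact f.2⟩
    refine IsUnit.of_mul_eq_one ⟨_, hmem⟩ (Subtype.ext ?_)
    show (z : K) * ((f : K) * (e : K)⁻¹) = 1
    rw [← mul_assoc, hz, mul_inv_cancel₀ (hne he)]
  have hfac : ∀ z : V, z ≠ 0 → ∃ (k : ℕ), Associated (π ^ k) z := by
    intro z hz
    obtain ⟨m, n, e, f, he, hf, h⟩ := hrep z (fun h => hz (Subtype.ext h))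
    have hnm : n ≤ m := by
      by_contra hlt
      push Not at hlt
      obtain ⟨s, hs, hsz⟩ := (hV z).mp z.2
      have h2 : (⟨_, hsz⟩ : S) * (p ^ (n - m) * f) = s * e := Subtype.ext (by
        show (s : K) * z * (((p ^ (n - m) * f : S) : K)) = s * e
        apply mul_left_cancel₀ (pow_ne_zero m hpK)
        push_cast
        rw [show (p : K) ^ m * ((s : K) * z * ((p : K) ^ (n - m) * f)) = s * (z * (((p : K) ^ m * (p : K) ^ (n - m)) * f)) by ring,
          ← pow_add, Nat.add_sub_cancel' hlt.le, h]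
        ring)
      refine (Ideal.IsPrime.mem_or_mem ‹q.IsPrime› (?_ : s * e ∈ q)).elim hs he
      rw [← h2]
      exact q.mul_mem_left _ (q.mul_mem_right _ (q.pow_mem_of_mem hp _ (by omega)))
    have hmem : (e : K) * (f : K)⁻¹ ∈ V := ⟨f, hf, by rw [mul_left_comm, mul_inv_cancel₀ (hne hf), mul_one]; exact e.2⟩
    obtain ⟨w, hw⟩ := hu he hf ⟨_, hmem⟩ (by
      show (e : K) * (f : K)⁻¹ * f = e
      rw [mul_assoc, inv_mul_cancel₀ (hne hf), mul_one])
    refine ⟨m - n, w, Subtype.ext ?_⟩
    rw [MulMemClass.coe_mul, SubmonoidClass.coe_pow, hw]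
    apply mul_left_cancel₀ (pow_ne_zero n hpK)
    apply mul_right_cancel₀ (hne hf)
    show (p : K) ^ n * ((p : K) ^ (m - n) * ((e : K) * (f : K)⁻¹)) * f = (p : K) ^ n * z * f
    rw [← mul_assoc ((p : K) ^ n), ← pow_add, Nat.add_sub_cancel' hnm, mul_assoc ((p : K) ^ m), mul_assoc (e : K),
      inv_mul_cancel₀ (hne hf), mul_one, ← h]
    ring
  have hπ0 : π ≠ 0 := fun h => hpK (congrArg Subtype.val h)
  have hπu : ¬ IsUnit π := fun hun => by
    obtain ⟨v, hv⟩ := hun.exists_right_inv
    obtain ⟨s, hs, hsv⟩ := (hV v).mp v.2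
    refine hs ?_
    have : s = p * ⟨_, hsv⟩ := Subtype.ext (by
      show (s : K) = p * ((s : K) * v)
      have := congrArg Subtype.val hv
      change (p : K) * v = 1 at this
      rw [mul_left_comm, this, mul_one])
    rw [this]; exact q.mul_mem_right _ hp
  refine ⟨π, ⟨hπu, fun a b hab => ?_⟩, fun {z} hz => hfac z hz⟩
  have ha0 : a ≠ 0 := fun h => hπ0 (by rw [hab, h, zero_mul])
  have hb0 : b ≠ 0 := fun h => hπ0 (by rw [hab, h, mul_zero])
  obtain ⟨i, hi⟩ := hfac a ha0
  obtain ⟨j, hj⟩ := hfac b hb0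
  rcases Nat.eq_zero_or_pos i with h0 | h0
  · exact Or.inl (by rw [h0, pow_zero] at hi; exact associated_one_iff_isUnit.mp hi.symm)
  rcases Nat.eq_zero_or_pos j with h1 | h1
  · exact Or.inr (by rw [h1, pow_zero] at hj; exact associated_one_iff_isUnit.mp hj.symm)
  exfalso
  have hass : Associated (π ^ (i + j)) π := by
    have h := hi.mul_mul hj
    rwa [← pow_add, ← hab] at h
  obtain ⟨w, hw⟩ := hass
  refine hπu (IsUnit.of_mul_eq_one (π ^ (i + j - 2) * w) (mul_left_cancel₀ hπ0 ?_))
  rw [mul_one, ← mul_assoc, ← mul_assoc, ← pow_two, ← pow_add, Nat.add_sub_cancel' (by omega : 2 ≤ i + j), hw]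

end Krull

/-! ## The integral closure of a Noetherian local domain -/

section Local

variable {A K : Type u} [CommRing A] [IsDomain A] [IsLocalRing A] [IsNoetherianRing A] [Field K] [Algebra A K]
  [IsFractionRing A K]

local notation "Ah" => AdicCompletion (IsLocalRing.maximalIdeal A) A

omit [Field K] [Algebra A K] [IsFractionRing A K] in
theorem faithfullyFlat_completion : Module.FaithfullyFlat A Ah := Module.FaithfullyFlat.of_flat_of_isLocalHom

omit [Field K] [Algebra A K] [IsFractionRing A K] in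
theorem injective_quotient_minimal (Q : Ideal Ah) [Q.IsPrime] (hQ : Q ∈ minimalPrimes Ah) :
    Function.Injective (algebraMap A (Ah ⧸ Q)) := by
  rw [injective_iff_map_eq_zero]
  intro a ha
  rw [IsScalarTower.algebraMap_apply A Ah (Ah ⧸ Q), Ideal.Quotient.algebraMap_eq, Ideal.Quotient.eq_zero_iff_mem] at ha
  have hmem : a ∈ Q.comap (algebraMap A Ah) := ha
  haveI := faithfullyFlat_completion (A := A)
  haveI : Q.LiesOver (Q.comap (algebraMap A Ah)) := ⟨rfl⟩
  obtain ⟨Q', hle, hQ', hover⟩ :=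
    Ideal.exists_ideal_le_liesOver_of_le (p := (⊥ : Ideal A)) (q := Q.comap (algebraMap A Ah)) Q bot_le
  have : Q' = Q := le_antisymm hle (hQ.2 ⟨hQ', bot_le⟩ hle)
  subst this
  exact (Submodule.eq_bot_iff _).mp hover.over.symm a hmem

omit [Field K] [Algebra A K] [IsFractionRing A K] in
theorem isN2_quotient (Q : Ideal Ah) [Q.IsPrime] : CAlg.IsN2 (Ah ⧸ Q) :=
  N2Completion.isN2_minimal_completion A (fun R _ _ _ _ => Nagata.CompleteLocal.isNagata R) Q

/-- Integrality over a Noetherian local domain can be tested on the branches of the completion. -/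
theorem mem_of_forall_integral (x : K)
    (h : ∀ (Q : Ideal Ah) (_ : Q ∈ minimalPrimes Ah) (_ : Q.IsPrime) (g : K →+* FractionRing (Ah ⧸ Q)),
      (∀ a : A, g (algebraMap A K a) = algebraMap (Ah ⧸ Q) (FractionRing (Ah ⧸ Q)) (algebraMap A (Ah ⧸ Q) a)) →
      IsIntegral (Ah ⧸ Q) (g x)) : IsIntegral A x := by
  classical
  haveI := RegLoc.Completion.isNoetherianRing_adicCompletion' (IsLocalRing.maximalIdeal A)
  haveI := faithfullyFlat_completion (A := A)
  haveI : Nontrivial Ah := inferInstance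
  obtain ⟨a, c, hc, rfl⟩ := IsFractionRing.div_surjective A x
  have hc0 : c ≠ 0 := nonZeroDivisors.ne_zero hc
  haveI : Finite (minimalPrimes Ah) := (minimalPrimes.finite_of_isNoetherianRing _).to_subtype
  haveI := Fintype.ofFinite (minimalPrimes Ah)
  haveI : ∀ Q : minimalPrimes Ah, Q.1.IsPrime := fun Q => Q.2.1.1
  have hex : ∀ Q : minimalPrimes Ah, ∃ f : Ah[X], f.Monic ∧
      (f.scaleRoots (algebraMap A Ah c)).eval (algebraMap A Ah a) ∈ Q.1 := by
    intro Q
    have hinj := (IsFractionRing.injective (Ah ⧸ Q.1) (FractionRing (Ah ⧸ Q.1))).comp (injective_quotient_minimal Q.1 Q.2)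
    let g : K →+* FractionRing (Ah ⧸ Q.1) :=
      IsFractionRing.lift (g := (algebraMap (Ah ⧸ Q.1) (FractionRing (Ah ⧸ Q.1))).comp (algebraMap A (Ah ⧸ Q.1))) hinj
    have hg : ∀ a : A, g (algebraMap A K a) = algebraMap (Ah ⧸ Q.1) (FractionRing (Ah ⧸ Q.1)) (algebraMap A (Ah ⧸ Q.1) a) :=
      fun a => IsFractionRing.lift_algebraMap _ a
    obtain ⟨fb, hfb, hfx⟩ := h Q.1 Q.2 inferInstance g hg
    obtain ⟨f, hf1, -, hf⟩ := Polynomial.lifts_and_natDegree_eq_and_monic
      (Polynomial.map_surjective (Ideal.Quotient.mk Q.1) Ideal.Quotient.mk_surjective fb |>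
        fun ⟨p, hp⟩ => (Polynomial.mem_lifts fb).mpr ⟨p, hp⟩) hfb
    refine ⟨f, hf, ?_⟩
    rw [← Ideal.Quotient.eq_zero_iff_mem, ← eval₂_at_apply, ← Polynomial.eval_map,
      Polynomial.map_scaleRoots f _ (Ideal.Quotient.mk Q.1) (by rw [hf.leadingCoeff, map_one]; exact one_ne_zero), hf1]
    apply IsFractionRing.injective (Ah ⧸ Q.1) (FractionRing (Ah ⧸ Q.1))
    rw [map_zero, ← eval₂_at_apply]
    have h2 := scaleRoots_eval₂_mul (p := fb) (algebraMap (Ah ⧸ Q.1) (FractionRing (Ah ⧸ Q.1)))
      (g (algebraMap A K a / algebraMap A K c)) (algebraMap A (Ah ⧸ Q.1) c)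
    have hne : algebraMap (Ah ⧸ Q.1) (FractionRing (Ah ⧸ Q.1)) (algebraMap A (Ah ⧸ Q.1) c) ≠ 0 := fun h =>
      hc0 (hinj (h.trans (by simp)))
    rw [map_div₀, hg, hg, mul_div_cancel₀ _ hne] at h2
    rw [map_div₀, hg, hg] at hfx
    rw [hfx, mul_zero] at h2
    exact h2
  choose f hfm hfQ using hex
  let F := ∏ Q, f Q
  have hF : F.Monic := monic_prod_of_monic _ _ fun Q _ => hfm Q
  have hmul : ∀ (p q : Ah[X]), p.Monic → q.Monic →
      (p * q).scaleRoots (algebraMap A Ah c) = p.scaleRoots (algebraMap A Ah c) * q.scaleRoots (algebraMap A Ah c) :=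
    fun p q hp hq => mul_scaleRoots' p q _ (by rw [hp.leadingCoeff, hq.leadingCoeff, one_mul]; exact one_ne_zero)
  have hnil : (F.scaleRoots (algebraMap A Ah c)).eval (algebraMap A Ah a) ∈ nilradical Ah := by
    rw [show nilradical Ah = sInf (minimalPrimes Ah) from (Ideal.sInf_minimalPrimes (I := (⊥ : Ideal Ah))).symm,
      Ideal.mem_sInf]
    intro P hP
    have h1 : F = f ⟨P, hP⟩ * ∏ Q ∈ Finset.univ.erase ⟨P, hP⟩, f Q :=
      (Finset.mul_prod_erase _ _ (Finset.mem_univ _)).symm
    rw [h1, hmul _ _ (hfm _) (monic_prod_of_monic _ _ fun Q _ => hfm Q), eval_mul]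
    exact P.mul_mem_right _ (hfQ ⟨P, hP⟩)
  obtain ⟨m, hm⟩ := mem_nilradical.mp hnil
  have hG : ((F ^ m).scaleRoots (algebraMap A Ah c)).eval (algebraMap A Ah a) = 0 := by
    rw [pow_scaleRoots' F _ m (by rw [hF.leadingCoeff, one_pow]; exact one_ne_zero), eval_pow, hm]
  let G := F ^ m
  have hGm : G.Monic := hF.pow m
  let n := G.natDegree
  let I : Ideal A := Ideal.span (Set.range fun i : Fin n => c ^ (n - i) * a ^ (i : ℕ))
  have hmem : algebraMap A Ah (a ^ n) ∈ I.map (algebraMap A Ah) := by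
    rw [eval_eq_sum_range, natDegree_scaleRoots, Finset.sum_range_succ, coeff_scaleRoots] at hG
    rw [show (F ^ m).coeff (F ^ m).natDegree = 1 from hGm.coeff_natDegree, Nat.sub_self, pow_zero, mul_one, one_mul,
      add_comm, add_eq_zero_iff_eq_neg] at hG
    rw [show (F ^ m).natDegree = n from rfl] at hG
    rw [map_pow, hG]
    refine neg_mem (Ideal.sum_mem _ fun i hi => ?_)
    rw [coeff_scaleRoots, mul_assoc, ← map_pow, ← map_pow, ← map_mul]
    exact Ideal.mul_mem_left _ _ (Ideal.mem_map_of_mem _ (Ideal.subset_span ⟨⟨i, Finset.mem_range.mp hi⟩, rfl⟩))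
  have hmemA : a ^ n ∈ I := by
    rw [← Ideal.comap_map_eq_self_of_faithfullyFlat (B := Ah) I]
    exact hmem
  obtain ⟨r, hr⟩ := (Submodule.mem_span_range_iff_exists_fun A).mp hmemA
  refine ⟨Polynomial.X ^ n - ∑ i : Fin n, Polynomial.C (r i) * Polynomial.X ^ (i : ℕ), monic_X_pow_sub ?_, ?_⟩
  · exact degree_sum_fin_lt r
  · have hcK : algebraMap A K c ≠ 0 := (map_ne_zero_iff _ (IsFractionRing.injective A K)).mpr hc0
    rw [eval₂_sub, eval₂_X_pow, eval₂_finsetSum, sub_eq_zero]
    apply mul_right_cancel₀ (pow_ne_zero n hcK)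
    rw [← mul_pow, div_mul_cancel₀ _ hcK, ← map_pow, ← hr, map_sum, Finset.sum_mul]
    refine Finset.sum_congr rfl fun i _ => ?_
    rw [eval₂_mul, eval₂_C, eval₂_X_pow, smul_eq_mul, map_mul, map_mul, map_pow, map_pow, mul_assoc]
    congr 1
    rw [div_pow, div_mul_eq_mul_div, eq_div_iff (pow_ne_zero _ hcK), mul_right_comm, ← pow_add,
      Nat.sub_add_cancel i.2.le, mul_comm]

variable (A K) in
/-- The normalised branches of the completion cut out the integral closure. -/
noncomputable def finiteCut : FiniteCut (integralClosure A K).toSubring := by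
  classical
  haveI := RegLoc.Completion.isNoetherianRing_adicCompletion' (IsLocalRing.maximalIdeal A)
  haveI : ∀ Q : minimalPrimes Ah, Q.1.IsPrime := fun Q => Q.2.1.1
  haveI hfinD : ∀ Q : minimalPrimes Ah,
      Module.Finite (Ah ⧸ Q.1) (integralClosure (Ah ⧸ Q.1) (FractionRing (Ah ⧸ Q.1))) := fun Q =>
    Props.N2Local.finite_integralClosure (isN2_quotient Q.1) (FractionRing (Ah ⧸ Q.1)) (FractionRing (Ah ⧸ Q.1))
  haveI : ∀ Q : minimalPrimes Ah, IsFractionRing (integralClosure (Ah ⧸ Q.1) (FractionRing (Ah ⧸ Q.1))) (FractionRing (Ah ⧸ Q.1)) :=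
    fun Q => integralClosure.isFractionRing_of_finite_extension (FractionRing (Ah ⧸ Q.1)) (FractionRing (Ah ⧸ Q.1))
  let D : minimalPrimes Ah → Type u := fun Q => integralClosure (Ah ⧸ Q.1) (FractionRing (Ah ⧸ Q.1))
  let κ : ∀ Q : minimalPrimes Ah, FractionRing (Ah ⧸ Q.1) →+* FractionRing (D Q) := fun Q =>
    (FractionRing.algEquiv (D Q) (FractionRing (Ah ⧸ Q.1))).symm.toRingEquiv.toRingHom
  let g : ∀ Q : minimalPrimes Ah, K →+* FractionRing (Ah ⧸ Q.1) := fun Q =>
    IsFractionRing.lift (g := (algebraMap (Ah ⧸ Q.1) (FractionRing (Ah ⧸ Q.1))).comp (algebraMap A (Ah ⧸ Q.1)))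
      ((IsFractionRing.injective (Ah ⧸ Q.1) _).comp (injective_quotient_minimal Q.1 Q.2))
  refine
    { Q := minimalPrimes Ah
      finite := (minimalPrimes.finite_of_isNoetherianRing _).to_subtype
      D := D
      commRing := fun Q => inferInstanceAs (CommRing (integralClosure (Ah ⧸ Q.1) (FractionRing (Ah ⧸ Q.1))))
      isDomain := fun Q => inferInstanceAs (IsDomain (integralClosure (Ah ⧸ Q.1) (FractionRing (Ah ⧸ Q.1))))
      noeth := fun Q => IsNoetherianRing.of_finite (Ah ⧸ Q.1) _
      ic := fun Q => integralClosure.isIntegrallyClosedOfFiniteExtension (FractionRing (Ah ⧸ Q.1))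
      ι := fun Q => (κ Q).comp (g Q)
      mem_iff := fun x => ?_
      fraction := fun x => ?_ }
  · have hrange : ∀ (Q : minimalPrimes Ah) (z : FractionRing (Ah ⧸ Q.1)),
        κ Q z ∈ (algebraMap (D Q) (FractionRing (D Q))).range ↔ IsIntegral (Ah ⧸ Q.1) z := by
      intro Q z
      constructor
      · rintro ⟨d, hd⟩
        have : z = algebraMap (D Q) (FractionRing (Ah ⧸ Q.1)) d := by
          apply (κ Q).injective
          rw [← hd]
          exact ((FractionRing.algEquiv (D Q) (FractionRing (Ah ⧸ Q.1))).symm.commutes d).symm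
        rw [this]; exact d.2
      · intro hz
        exact ⟨(⟨z, hz⟩ : integralClosure (Ah ⧸ Q.1) (FractionRing (Ah ⧸ Q.1))),
          ((FractionRing.algEquiv (D Q) (FractionRing (Ah ⧸ Q.1))).symm.commutes _).symm⟩
    have hg : ∀ (Q : minimalPrimes Ah) (a : A), g Q (algebraMap A K a) =
        algebraMap (Ah ⧸ Q.1) (FractionRing (Ah ⧸ Q.1)) (algebraMap A (Ah ⧸ Q.1) a) := fun Q a =>
      IsFractionRing.lift_algebraMap _ a
    constructor
    · intro hx Q
      refine (hrange Q _).mpr ?_
      obtain ⟨f, hf, hfx⟩ : IsIntegral A x := hx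
      refine ⟨f.map (algebraMap A (Ah ⧸ Q.1)), hf.map _, ?_⟩
      rw [eval₂_map, show (algebraMap (Ah ⧸ Q.1) (FractionRing (Ah ⧸ Q.1))).comp (algebraMap A (Ah ⧸ Q.1)) =
        (g Q).comp (algebraMap A K) from RingHom.ext fun a => (hg Q a).symm, ← hom_eval₂, hfx, map_zero]
    · intro hx
      exact mem_of_forall_integral x (fun Q hQ hp gQ hgQ => by
        have h := (hrange ⟨Q, hQ⟩ (g ⟨Q, hQ⟩ x)).mp (hx ⟨Q, hQ⟩)
        rwa [show gQ = g ⟨Q, hQ⟩ from IsLocalization.ringHom_ext (nonZeroDivisors A) (RingHom.ext fun a => by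
          rw [RingHom.comp_apply, RingHom.comp_apply, hgQ, hg])])
  · obtain ⟨a, b, hb, rfl⟩ := IsFractionRing.div_surjective A x
    refine ⟨algebraMap A (integralClosure A K) a, algebraMap A (integralClosure A K) b, ?_, ?_⟩
    · exact (map_ne_zero_iff _ (IsFractionRing.injective A K)).mpr (nonZeroDivisors.ne_zero hb)
    · exact div_mul_cancel₀ _ ((map_ne_zero_iff _ (IsFractionRing.injective A K)).mpr (nonZeroDivisors.ne_zero hb))

end Local

/-! ## Descent to a finite birational algebra -/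

section Finite

variable {A : Type u} [CommRing A] [IsDomain A] [IsLocalRing A] [IsNoetherianRing A]

/-- Mori: some finite birational algebra sees the height one primes of the integral closure. -/
theorem exists_mori :
    ∃ C : Subalgebra A (FractionRing A), Module.Finite A C ∧ C ≤ integralClosure A (FractionRing A) ∧
      (∀ (p : Ideal C) [p.IsPrime], p.height = 1 →
        ∃ V : ValuationSubring (FractionRing A), IsDiscreteValuationRing V ∧
          ∀ x : FractionRing A, x ∈ V ↔ ∃ s : C, s ∉ p ∧ IsIntegral C ((s : FractionRing A) * x)) ∧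
      (∀ x : FractionRing A, x ∈ integralClosure A (FractionRing A) ↔
        ∀ (p : Ideal C) [p.IsPrime], p.height = 1 → ∃ s : C, s ∉ p ∧ IsIntegral C ((s : FractionRing A) * x)) ∧
      (∀ x : FractionRing A, {p : Ideal C | p.IsPrime ∧ p.height = 1 ∧
        ¬ ∃ s : C, s ∉ p ∧ IsIntegral C ((s : FractionRing A) * x)}.Finite) := by
  classical
  obtain ⟨C, ⟨hfin, -⟩, -, huniv⟩ := N2Completion.exists_stable_completion A (FractionRing A)
    (fun R _ _ _ _ => Nagata.CompleteLocal.isNagata R)
  haveI := hfin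
  have hle : C ≤ integralClosure A (FractionRing A) := fun x hx =>
    (Algebra.IsIntegral.isIntegral (R := A) (⟨x, hx⟩ : C)).map C.val
  let S := integralClosure A (FractionRing A)
  let cc := finiteCut A (FractionRing A)
  let φ : C →+* S.toSubring := (Subalgebra.inclusion hle).toRingHom
  letI : Algebra C S.toSubring := φ.toAlgebra
  letI : Algebra A S.toSubring := inferInstanceAs (Algebra A S)
  haveI : IsScalarTower C S.toSubring (FractionRing A) := IsScalarTower.of_algebraMap_eq fun _ => rfl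
  haveI : IsScalarTower A C S.toSubring := IsScalarTower.of_algebraMap_eq fun _ => rfl
  haveI hintS : Algebra.IsIntegral A S.toSubring := inferInstanceAs (Algebra.IsIntegral A S)
  haveI : Algebra.IsIntegral C S.toSubring := Algebra.IsIntegral.tower_top (R := A)
  have hinjφ : Function.Injective (algebraMap C S.toSubring) := fun a b h => Subtype.ext (congrArg Subtype.val h :)
  have hint : ∀ z : FractionRing A, IsIntegral C z ↔ z ∈ S.toSubring := fun z =>
    ⟨fun h => isIntegral_trans z h, fun h => IsIntegral.tower_top (R := A) h⟩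
  have hcomap : ∀ P P' : Ideal S.toSubring, P.IsPrime → P'.IsPrime →
      P.comap (algebraMap C S.toSubring) = P'.comap (algebraMap C S.toSubring) → P = P' := by
    intro P P' hP hP' h
    haveI := huniv hle
    have hinj := AlgebraicGeometry.Scheme.Hom.injective
      (AlgebraicGeometry.Spec.map (CommRingCat.ofHom (Subalgebra.inclusion hle).toRingHom))
    exact congrArg PrimeSpectrum.asIdeal (hinj (a₁ := ⟨P, hP⟩) (a₂ := ⟨P', hP'⟩) (PrimeSpectrum.ext h))
  have hover : ∀ (p : Ideal C) [p.IsPrime], ∃ q : Ideal S.toSubring, q.IsPrime ∧ q.comap (algebraMap C S.toSubring) = p := by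
    intro p _
    obtain ⟨q, -, hq, hqp⟩ := Ideal.exists_ideal_over_prime_of_isIntegral p (⊥ : Ideal S.toSubring)
      (by rw [Ideal.comap_bot_of_injective _ hinjφ]; exact bot_le)
    exact ⟨q, hq, hqp⟩
  have hne : ∀ {r : Ideal S.toSubring}, r ≠ ⊥ → r.comap (algebraMap C S.toSubring) ≠ ⊥ := fun {r} hr h =>
    hr (Ideal.eq_bot_of_comap_eq_bot h)
  have hheight : ∀ (q : Ideal S.toSubring) [q.IsPrime],
      q.height = 1 ↔ (q.comap (algebraMap C S.toSubring)).height = 1 := by
    intro q _
    constructor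
    · intro hq
      refine le_antisymm ((Ideal.height_le_iff (n := 1)).mpr fun r hr hlt => ?_) ?_
      · suffices r = ⊥ by rw [this, Ideal.height_bot]; exact zero_lt_one
        by_contra hr0
        obtain ⟨r', hr', hr''⟩ := hover r
        obtain ⟨Q, hrQ, hQ, hQq⟩ := Ideal.exists_ideal_over_prime_of_isIntegral
          (q.comap (algebraMap C S.toSubring)) r' (hr''.le.trans hlt.le)
        have hQ' : Q = q := hcomap Q q hQ inferInstance hQq
        have hr'0 : r' ≠ ⊥ := fun h => hr0 (by rw [← hr'', h, Ideal.comap_bot_of_injective _ hinjφ])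
        exact hlt.ne (by rw [← hr'', eq_of_le_heightOne hr' (hQ' ▸ hrQ) hq hr'0])
      · rw [Order.one_le_iff_pos, pos_iff_ne_zero, ne_eq, Ideal.height_eq_zero_iff_eq_bot]
        exact hne (Ideal.ne_bot_of_height_eq_one hq)
    · intro hq
      refine le_antisymm ((Ideal.height_le_iff (n := 1)).mpr fun r hr hlt => ?_) ?_
      · suffices r = ⊥ by rw [this, Ideal.height_bot]; exact zero_lt_one
        by_contra hr0
        exact hlt.ne (hcomap r q hr inferInstance (eq_of_le_heightOne inferInstance (Ideal.comap_mono hlt.le) hq (hne hr0)))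
      · rw [Order.one_le_iff_pos, pos_iff_ne_zero, ne_eq, Ideal.height_eq_zero_iff_eq_bot]
        intro h
        apply Ideal.ne_bot_of_height_eq_one hq
        rw [h, Ideal.comap_bot_of_injective _ hinjφ]
  have hkey : ∀ (q : Ideal S.toSubring) [q.IsPrime] (x : FractionRing A),
      (∃ s : S.toSubring, s ∉ q ∧ (s : FractionRing A) * x ∈ S.toSubring) ↔
        ∃ s : C, s ∉ q.comap (algebraMap C S.toSubring) ∧ IsIntegral C ((s : FractionRing A) * x) := by
    intro q _ x
    constructor
    · rintro ⟨s, hs, hsx⟩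
      obtain ⟨t, ht, htq⟩ : ∃ t ∈ (Ideal.span {s}).comap (algebraMap C S.toSubring), t ∉ q.comap (algebraMap C S.toSubring) := by
        by_contra hh
        push Not at hh
        obtain ⟨Q, hsQ, hQ, hQq⟩ := Ideal.exists_ideal_over_prime_of_isIntegral
          (q.comap (algebraMap C S.toSubring)) (Ideal.span {s}) hh
        exact hs (hcomap Q q hQ inferInstance hQq ▸ hsQ (Ideal.mem_span_singleton_self s))
      obtain ⟨w, hw⟩ := Ideal.mem_span_singleton'.mp (Ideal.mem_comap.mp ht)
      refine ⟨t, htq, (hint _).mpr ?_⟩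
      have : (t : FractionRing A) = (w : FractionRing A) * s := (congrArg Subtype.val hw).symm
      rw [this, mul_assoc]
      exact mul_mem w.2 hsx
    · rintro ⟨s, hs, hsx⟩
      exact ⟨algebraMap C S.toSubring s, hs, (hint _).mp hsx⟩
  refine ⟨C, hfin, hle, fun p _ hp => ?_, fun x => ⟨fun hx p _ _ => ?_, fun h => ?_⟩, fun x => ?_⟩
  · obtain ⟨q, hq, rfl⟩ := hover p
    haveI := hq
    obtain ⟨V, hV, hmem⟩ := exists_valuationSubring cc ((hheight q).mpr hp)
    exact ⟨V, hV, fun x => (hmem x).trans (hkey q x)⟩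
  · refine ⟨1, fun h => Ideal.IsPrime.ne_top ‹p.IsPrime› ((Ideal.eq_top_iff_one _).mpr h), (hint _).mpr ?_⟩
    rw [OneMemClass.coe_one, one_mul]
    exact hx
  · by_contra hx
    obtain ⟨q, hq, hq1, hle'⟩ := exists_heightOne cc (x := x) (S := S.toSubring) hx
    haveI := hq
    obtain ⟨s, hs, hsx⟩ := (hkey q x).mpr (h _ ((hheight q).mp hq1))
    exact hs (hle' hsx)
  · refine Set.Finite.subset ((finite_heightOne cc x).image fun q => q.comap (algebraMap C S.toSubring)) ?_
    rintro p ⟨hp, hp1, hpx⟩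
    haveI := hp
    obtain ⟨q, hq, rfl⟩ := hover p
    haveI := hq
    refine ⟨q, ⟨hq, (hheight q).mpr hp1, fun s hs => by_contra fun hsq => hpx ?_⟩, rfl⟩
    exact (hkey q x).mp ⟨s, hsq, hs⟩

end Finite

/-! ## Global domains -/

section Global

variable {A : Type u} [CommRing A] [IsDomain A] [IsNoetherianRing A]

set_option maxHeartbeats 1600000 in
-- a long descent argument between a localisation and its finite models
theorem isIntegral_of_heightOne
    (h : ∀ C : Subalgebra A (FractionRing A), C ≤ integralClosure A (FractionRing A) → Module.Finite A C →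
      ∀ (q : Ideal C) [q.IsPrime], q.height = 1 → (q.comap (algebraMap A C)).height = 1)
    (x : FractionRing A)
    (hx : ∀ (p : Ideal A) [p.IsPrime], p.height = 1 → ∃ s : A, s ∉ p ∧ IsIntegral A (algebraMap A (FractionRing A) s * x)) :
    IsIntegral A x := by
  classical
  let T : Ideal A :=
    { carrier := {a | IsIntegral A (a • x)}
      add_mem' := fun {a b} ha hb => by show IsIntegral A ((a + b) • x); rw [add_smul]; exact IsIntegral.add ha hb
      zero_mem' := by show IsIntegral A ((0 : A) • x); rw [zero_smul]; exact isIntegral_zero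
      smul_mem' := fun r a ha => by show IsIntegral A ((r * a) • x); rw [mul_smul]; exact IsIntegral.smul r ha }
  by_contra hxi
  obtain ⟨m, hm, hTm⟩ := T.exists_le_maximal fun h => hxi (by
    have h1 : (1 : A) ∈ T := h ▸ trivial
    simpa using (show IsIntegral A ((1 : A) • x) from h1))
  haveI := hm
  let Am := Localization.subalgebra.ofField (FractionRing A) m.primeCompl m.primeCompl_le_nonZeroDivisors
  haveI : IsLocalization.AtPrime Am m :=
    Localization.subalgebra.isLocalization_ofField (FractionRing A) m.primeCompl m.primeCompl_le_nonZeroDivisors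
  haveI : IsFractionRing Am (FractionRing A) :=
    IsFractionRing.isFractionRing_of_isDomain_of_isLocalization m.primeCompl Am (FractionRing A)
  haveI : IsLocalRing Am := IsLocalization.AtPrime.isLocalRing Am m
  haveI : IsNoetherianRing Am := IsLocalization.isNoetherianRing m.primeCompl Am inferInstance
  let e : FractionRing Am ≃ₐ[Am] FractionRing A := FractionRing.algEquiv Am (FractionRing A)
  suffices hint : IsIntegral Am (e.symm x) by
    have h1 : IsIntegral Am x := by simpa using hint.map e.toAlgHom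
    obtain ⟨s, hs⟩ := IsIntegral.exists_multiple_integral_of_isLocalization m.primeCompl x h1
    exact s.2 (hTm hs)
  obtain ⟨C, hfin, hle, -, hcrit, -⟩ := exists_mori (A := Am)
  refine (hcrit (e.symm x)).mpr fun p _ hp => ?_
  obtain ⟨G, hG⟩ := hfin.fg_top
  have hgint : ∀ g : C, ∃ s : m.primeCompl, IsIntegral A ((s : A) • e (g : FractionRing Am)) := fun g =>
    IsIntegral.exists_multiple_integral_of_isLocalization m.primeCompl _
      ((show IsIntegral Am (g : FractionRing Am) from hle g.2).map e.toAlgHom)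
  choose sg hsg using hgint
  let C₀ : Subalgebra A (FractionRing A) :=
    Algebra.adjoin A ↑(G.image fun g : C => (sg g : A) • e (g : FractionRing Am))
  have hint₀ : ∀ z ∈ ((G.image fun g : C => (sg g : A) • e (g : FractionRing Am)) : Set (FractionRing A)),
      IsIntegral A z := by
    intro z hz
    obtain ⟨g, -, rfl⟩ := Finset.mem_image.mp (Finset.mem_coe.mp hz)
    exact hsg g
  have hfin₀ : Module.Finite A C₀ := Module.Finite.iff_fg.mpr (fg_adjoin_of_finite (Finset.finite_toSet _) hint₀)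
  have hle₀ : C₀ ≤ integralClosure A (FractionRing A) := Algebra.adjoin_le hint₀
  have hsub : C₀ ≤ (C.map e.toAlgHom).restrictScalars A := Algebra.adjoin_le fun z hz => by
    obtain ⟨g, -, rfl⟩ := Finset.mem_image.mp (Finset.mem_coe.mp hz)
    show (sg g : A) • e (g : FractionRing Am) ∈ C.map e.toAlgHom
    rw [← algebraMap_smul Am (sg g : A)]
    exact Subalgebra.smul_mem _ (Subalgebra.mem_map.mpr ⟨(g : FractionRing Am), g.2, rfl⟩) _
  have hmemC : ∀ c : C₀, e.symm (c : FractionRing A) ∈ C := fun c => by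
    obtain ⟨z, hz, hze⟩ := hsub c.2
    rw [← hze]
    show e.symm (e z) ∈ C
    rw [e.symm_apply_apply]; exact hz
  let ψ : C₀ →+* C := (e.symm.toRingEquiv.toRingHom.comp C₀.val.toRingHom).codRestrict C hmemC
  letI : Algebra C₀ C := ψ.toAlgebra
  have hψ : ∀ c : C₀, (algebraMap C₀ C c : FractionRing Am) = e.symm (c : FractionRing A) := fun c => rfl
  have hψA : ∀ a : A, algebraMap C₀ C (algebraMap A C₀ a) = algebraMap Am C (algebraMap A Am a) := fun a => by
    apply Subtype.ext
    rw [hψ]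
    apply e.injective
    rw [e.apply_symm_apply]
    show _ = e (algebraMap Am (FractionRing Am) _)
    rw [e.commutes]
    rfl
  have hdenom : ∀ z : C, ∃ (s : m.primeCompl) (c : C₀), (algebraMap C₀ C (algebraMap A C₀ s)) * z = algebraMap C₀ C c := by
    intro z
    induction (hG ▸ Submodule.mem_top : z ∈ Submodule.span Am (G : Set C)) using Submodule.span_induction with
    | mem g hg =>
      refine ⟨sg g, ⟨_, Algebra.subset_adjoin (Finset.mem_coe.mpr (Finset.mem_image.mpr ⟨g, hg, rfl⟩))⟩, Subtype.ext ?_⟩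
      rw [Subalgebra.coe_mul, hψ, hψ]
      apply e.injective
      rw [map_mul, e.apply_symm_apply, e.apply_symm_apply]
      exact (Algebra.smul_def (sg g : A) (e (g : FractionRing Am))).symm
    | zero => exact ⟨1, 0, by simp⟩
    | add a b _ _ ha hb =>
      obtain ⟨s, c₁, h₁⟩ := ha
      obtain ⟨t, c₂, h₂⟩ := hb
      refine ⟨s * t, algebraMap A C₀ t * c₁ + algebraMap A C₀ s * c₂, ?_⟩
      rw [Submonoid.coe_mul, map_mul, map_mul, map_add, map_mul, map_mul, ← h₁, ← h₂]
      ring
    | smul r a _ ha =>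
      obtain ⟨s, c₁, h₁⟩ := ha
      obtain ⟨n, t, rfl⟩ := IsLocalization.exists_mk'_eq m.primeCompl r
      refine ⟨s * t, algebraMap A C₀ n * c₁, ?_⟩
      rw [Submonoid.coe_mul, map_mul, map_mul, map_mul, ← h₁, Algebra.smul_def, hψA (t : A), hψA n,
        ← IsLocalization.mk'_spec Am n t, map_mul]
      ring
  haveI : IsLocalization (Algebra.algebraMapSubmonoid C₀ m.primeCompl) C := by
    refine (isLocalization_iff _ _).mpr ⟨?_, fun z => ?_, fun {a b} hab => ⟨1, ?_⟩⟩
    · rintro ⟨_, a, ha, rfl⟩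
      show IsUnit (algebraMap C₀ C (algebraMap A C₀ a))
      rw [hψA]
      exact (IsLocalization.map_units Am (⟨a, ha⟩ : m.primeCompl)).map _
    · obtain ⟨s, c, hc⟩ := hdenom z
      exact ⟨⟨c, ⟨_, s, s.2, rfl⟩⟩, (mul_comm _ _).trans hc⟩
    · have hab' := congrArg (fun z : C => e (z : FractionRing Am)) hab
      simp only [hψ, e.apply_symm_apply] at hab'
      rw [Subtype.ext hab']
  haveI : (p.comap (algebraMap C₀ C)).IsPrime := inferInstance
  have hp₀ : (p.comap (algebraMap C₀ C)).height = 1 := by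
    rw [← hp]; exact IsLocalization.height_under (Algebra.algebraMapSubmonoid C₀ m.primeCompl) p
  obtain ⟨s, hs, hsx⟩ := hx _ (h C₀ hle₀ hfin₀ _ hp₀)
  refine ⟨algebraMap C₀ C (algebraMap A C₀ s), hs, ?_⟩
  have h1 : IsIntegral Am (algebraMap A (FractionRing A) s * x) := hsx.tower_top
  have h2 := h1.map e.symm.toAlgHom
  rw [show e.symm.toAlgHom (algebraMap A (FractionRing A) s * x) =
      (algebraMap C₀ C (algebraMap A C₀ s) : FractionRing Am) * e.symm x from map_mul e.symm _ _] at h2
  obtain ⟨f, hf, hf0⟩ := h2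
  exact ⟨f.map (algebraMap Am C), hf.map _, by rw [eval₂_map]; exact hf0⟩

end Global

end Groth.Agent.CAlgLib.Mori
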