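import Groth.Agent.CAlgLib.N2Stab
import Groth.Agent.RegLoc.Completion
import Groth.Agent.Adic.Basic
import Groth.Agent.CAlg48.AdicPow
import Groth.Agent.WEtale.Olivier
import Groth.Agent.Hensel.Pair
import Mathlib

/-!
# Integral closures over local rings with well behaved completion
-/

set_option autoImplicit false

universe u

open TensorProduct

namespace Groth.Agent.CAlgLib.N2Completion

variable {A B K' : Type u} [CommRing A] [IsDomain A] [CommRing B] [Algebra A B]
  [Field K'] [Algebra A K'] [Algebra (FractionRing A) K'] [IsScalarTower A (FractionRing A) K']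
  [FiniteDimensional (FractionRing A) K']

/-- If `B ⊗ K'` is reduced for a faithfully flat Noetherian `B` with Japanese components, then the
integral closure of `A` in `K'` is finite. -/
theorem finite_integralClosure_of_reduced [IsNoetherianRing B] [Module.FaithfullyFlat A B]
    (hJ : ∀ (q : Ideal B) [q.IsPrime], q ∈ minimalPrimes B → CAlg.IsN2 (B ⧸ q))
    (hred : IsReduced (B ⊗[A] K')) : Module.Finite A (integralClosure A K') := by
  obtain ⟨Cα, hfin, -, hst⟩ := N2Stab.exists_stable (A := A) (B := B) (K' := K') hJ
  haveI := hfin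
  have hint : Cα ≤ integralClosure A K' := fun x hx =>
    (Algebra.IsIntegral.isIntegral (R := A) (⟨x, hx⟩ : Cα)).map Cα.val
  suffices h : integralClosure A K' ≤ Cα by rwa [le_antisymm h hint]
  intro c hc
  let C : Subalgebra A K' := Cα ⊔ Algebra.adjoin A {c}
  have hCfin : Module.Finite A C := by
    have h1 : Module.Finite A (Algebra.adjoin A {c}) := Algebra.finite_adjoin_simple_of_isIntegral hc
    exact Subalgebra.finite_sup _ _
  have hle : Cα ≤ C := le_sup_left
  haveI : IsReduced (C ⊗[A] B) := isReduced_of_injective (N2Stab.Phi B C) (N2Stab.Phi_injective C)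
  have hsurj : Function.Surjective ((Subalgebra.inclusion hle).toLinearMap.rTensor B) := by
    intro y
    obtain ⟨x, hx⟩ := (hst C hCfin hle).2 y
    exact ⟨x, sub_eq_zero.mp hx.eq_zero⟩
  have hsurj' : Function.Surjective (Subalgebra.inclusion hle).toLinearMap := by
    rw [← Module.FaithfullyFlat.lTensor_surjective_iff_surjective A B]
    exact (LinearMap.lTensor_surj_iff_rTensor_surj B _).mpr hsurj
  obtain ⟨z, hz⟩ := hsurj' ⟨c, (le_sup_right : Algebra.adjoin A {c} ≤ C) (Algebra.self_mem_adjoin_singleton A c)⟩
  have h2 : (z : K') = c := congrArg Subtype.val hz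
  exact h2 ▸ z.2

variable (A K')

omit [IsDomain A] [Algebra (FractionRing A) K'] [IsScalarTower A (FractionRing A) K']
  [FiniteDimensional (FractionRing A) K'] in
/-- A finite domain over a complete Noetherian local ring is complete local. -/
theorem complete_of_finite [IsLocalRing A] [IsNoetherianRing A] [IsAdicComplete (IsLocalRing.maximalIdeal A) A]
    (S : Type u) [CommRing S] [IsDomain S] [Algebra A S] [Module.Finite A S] [FaithfulSMul A S] :
    ∃ _ : IsLocalRing S, IsAdicComplete (IsLocalRing.maximalIdeal S) S := by
  haveI : HenselianLocalRing A := Groth.Agent.Hensel.henselianLocalRing_of_henselianRing inferInstance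
  haveI hloc : IsLocalRing S := WEtale.Olivier.isLocalRing_of_finite (A := A)
  refine ⟨hloc, ?_⟩
  haveI : IsNoetherianRing S := IsNoetherianRing.of_finite A S
  haveI hI : IsAdicComplete ((IsLocalRing.maximalIdeal A).map (algebraMap A S)) S :=
    (IsAdicComplete.map_algebraMap_iff _ _).mpr (Adic.isAdicComplete_of_finite _)
  have hle : (IsLocalRing.maximalIdeal A).map (algebraMap A S) ≤ IsLocalRing.maximalIdeal S := by
    rw [Ideal.map_le_iff_le_comap]
    haveI := Ideal.isMaximal_comap_of_isIntegral_of_isMaximal (R := A) (IsLocalRing.maximalIdeal S)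
    rw [IsLocalRing.eq_maximalIdeal this]
  obtain ⟨n, hn⟩ : ∃ n, IsLocalRing.maximalIdeal S ^ n ≤ (IsLocalRing.maximalIdeal A).map (algebraMap A S) := by
    refine Ideal.exists_pow_le_of_le_radical_of_fg ?_ (IsNoetherian.noetherian _)
    rw [Ideal.radical_eq_sInf]
    refine le_sInf fun P hP => ?_
    haveI := hP.2
    have h1 : (P.comap (algebraMap A S)).IsMaximal := by
      refine (IsLocalRing.maximalIdeal.isMaximal A).eq_of_le (J := P.comap (algebraMap A S)) ?_ (Ideal.map_le_iff_le_comap.mp hP.1) ▸ inferInstance
      exact Ideal.IsPrime.ne_top inferInstance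
    have : P.IsMaximal := Ideal.isMaximal_of_isIntegral_of_isMaximal_comap P h1
    rw [IsLocalRing.eq_maximalIdeal this]
  exact CAlg48.AdicPow.isAdicComplete_of_pow_le (I := (IsLocalRing.maximalIdeal A).map (algebraMap A S))
    (c := 1) (d := n + 1) Nat.one_pos n.succ_pos (by simpa using hle) ((Ideal.pow_le_pow_right n.le_succ).trans hn)

/-- Complete Noetherian local rings are Nagata (a hypothesis for the consequences below). -/
def CompleteLocalNagata : Prop :=
  ∀ (R : Type u) [CommRing R] [IsLocalRing R] [IsNoetherianRing R] [IsAdicComplete (IsLocalRing.maximalIdeal R) R],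
    CAlg.IsNagata R

variable [IsLocalRing A] [IsNoetherianRing A]

omit [IsDomain A] [Algebra (FractionRing A) K'] [IsScalarTower A (FractionRing A) K'] [FiniteDimensional (FractionRing A) K'] in
theorem isN2_minimal_completion (hN : CompleteLocalNagata.{u})
    (q : Ideal (AdicCompletion (IsLocalRing.maximalIdeal A) A)) [q.IsPrime] :
    CAlg.IsN2 (AdicCompletion (IsLocalRing.maximalIdeal A) A ⧸ q) := by
  haveI := RegLoc.Completion.isNoetherianRing_adicCompletion' (IsLocalRing.maximalIdeal A)
  exact (hN _).2 q

theorem finite_integralClosure_completion (hN : CompleteLocalNagata.{u})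
    (h : IsReduced ((AdicCompletion (IsLocalRing.maximalIdeal A) A) ⊗[A] K')) :
    Module.Finite A (integralClosure A K') := by
  haveI := RegLoc.Completion.isNoetherianRing_adicCompletion' (IsLocalRing.maximalIdeal A)
  haveI : Module.FaithfullyFlat A (AdicCompletion (IsLocalRing.maximalIdeal A) A) :=
    Module.FaithfullyFlat.of_flat_of_isLocalHom
  exact finite_integralClosure_of_reduced (fun q _ _ => isN2_minimal_completion A hN q) h

theorem finite_integralClosure_of_fractionRing (hN : CompleteLocalNagata.{u}) (R : Type u) [CommRing R]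
    [Algebra (AdicCompletion (IsLocalRing.maximalIdeal A) A) R]
    [IsFractionRing (AdicCompletion (IsLocalRing.maximalIdeal A) A) R] [Algebra A R]
    [IsScalarTower A (AdicCompletion (IsLocalRing.maximalIdeal A) A) R] (h : IsReduced (R ⊗[A] K')) :
    Module.Finite A (integralClosure A K') := by
  haveI := N2Stab.flat_fieldExtension A K'
  have hinj : Function.Injective (Algebra.TensorProduct.map
      (IsScalarTower.toAlgHom A (AdicCompletion (IsLocalRing.maximalIdeal A) A) R) (AlgHom.id A K')) :=
    Module.Flat.rTensor_preserves_injective_linearMap (M := K')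
      (IsScalarTower.toAlgHom A (AdicCompletion (IsLocalRing.maximalIdeal A) A) R).toLinearMap
      (IsFractionRing.injective (AdicCompletion (IsLocalRing.maximalIdeal A) A) R)
  haveI := h
  exact finite_integralClosure_completion A K' hN (isReduced_of_injective _ hinj)

omit [Algebra (FractionRing A) K'] [IsScalarTower A (FractionRing A) K'] [FiniteDimensional (FractionRing A) K'] in
theorem isN2_of_geometricallyReduced (hN : CompleteLocalNagata.{u}) (R : Type u) [CommRing R]
    [Algebra (AdicCompletion (IsLocalRing.maximalIdeal A) A) R]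
    [IsFractionRing (AdicCompletion (IsLocalRing.maximalIdeal A) A) R] [Algebra A R]
    [IsScalarTower A (AdicCompletion (IsLocalRing.maximalIdeal A) A) R]
    [Algebra (FractionRing A) R] [IsScalarTower A (FractionRing A) R]
    [Algebra.IsGeometricallyReduced (FractionRing A) R] : CAlg.IsN2 A := by
  intro L _ _ _ _ hfin
  haveI := hfin
  refine finite_integralClosure_of_fractionRing A L hN R ?_
  have e : L ⊗[FractionRing A] R ≃ₐ[FractionRing A] L ⊗[A] R :=
    IsLocalization.algebraTensorEquiv (nonZeroDivisors A) (FractionRing A) L R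
  exact isReduced_of_injective (((e.restrictScalars A).symm.toAlgHom.comp
    (Algebra.TensorProduct.comm A R L).toAlgHom)) ((e.restrictScalars A).symm.injective.comp
      (Algebra.TensorProduct.comm A R L).injective)

theorem complete_integralClosure (hN : CompleteLocalNagata.{u}) [IsAdicComplete (IsLocalRing.maximalIdeal A) A] :
    ∃ _ : IsLocalRing (integralClosure A K'),
      IsAdicComplete (IsLocalRing.maximalIdeal (integralClosure A K')) (integralClosure A K') := by
  have h2 : CAlg.IsN2 A := Props.N2Local.isN2_of_ringEquiv (RingEquiv.quotientBot A) ((hN A).2 ⊥)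
  haveI := Props.N2Local.finite_integralClosure h2 (FractionRing A) K'
  haveI := N2Stab.faithfulSMul (A := A) (K' := K')
  haveI : FaithfulSMul A (integralClosure A K') := (faithfulSMul_iff_algebraMap_injective A _).mpr fun x y h =>
    FaithfulSMul.algebraMap_injective A K' (congrArg Subtype.val h)
  exact complete_of_finite A (integralClosure A K')

theorem exists_stable_completion (hN : CompleteLocalNagata.{u}) :
    ∃ Cα : Subalgebra A K', (Module.Finite A Cα ∧ ∀ x : K', ∃ a b : Cα, (b : K') ≠ 0 ∧ x * b = a) ∧
      (∀ C : Subalgebra A K', Module.Finite A C → ∀ hle : Cα ≤ C,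
        (∀ x : ↥Cα ⊗[A] (AdicCompletion (IsLocalRing.maximalIdeal A) A),
          IsNilpotent (Algebra.TensorProduct.map (Subalgebra.inclusion hle) (AlgHom.id A _) x) → IsNilpotent x) ∧
        (∀ y : ↥C ⊗[A] (AdicCompletion (IsLocalRing.maximalIdeal A) A),
          ∃ x : ↥Cα ⊗[A] (AdicCompletion (IsLocalRing.maximalIdeal A) A),
          IsNilpotent (Algebra.TensorProduct.map (Subalgebra.inclusion hle) (AlgHom.id A _) x - y))) ∧
      (∀ hint : Cα ≤ integralClosure A K', AlgebraicGeometry.UniversallyInjective
        (AlgebraicGeometry.Spec.map (CommRingCat.ofHom (Subalgebra.inclusion hint).toRingHom))) := by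
  haveI := RegLoc.Completion.isNoetherianRing_adicCompletion' (IsLocalRing.maximalIdeal A)
  haveI : Module.FaithfullyFlat A (AdicCompletion (IsLocalRing.maximalIdeal A) A) :=
    Module.FaithfullyFlat.of_flat_of_isLocalHom
  obtain ⟨Cα, hfin, hfrac, hst⟩ := N2Stab.exists_stable (A := A)
    (B := AdicCompletion (IsLocalRing.maximalIdeal A) A) (K' := K') (fun q _ _ => isN2_minimal_completion A hN q)
  exact ⟨Cα, ⟨hfin, hfrac⟩, hst, fun hint => N2Stab.universallyInjective_of_stable
    (B := AdicCompletion (IsLocalRing.maximalIdeal A) A) Cα hfin (fun C hC hle => (hst C hC hle).2) hint⟩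

end Groth.Agent.CAlgLib.N2Completion
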