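import Groth.Prelude.Def_Found
import Groth.Agent.Props.N2Local
import Mathlib

/-!
# Finite modifications of a domain stabilise after base change to a ring with Japanese components
-/

set_option autoImplicit false

universe u

open TensorProduct

namespace Groth.Agent.CAlgLib.N2Stab

section Field

variable {A B K' : Type u} [CommRing A] [IsDomain A] [CommRing B] [Algebra A B]
  [Field K'] [Algebra A K'] [Algebra (FractionRing A) K'] [IsScalarTower A (FractionRing A) K']
  [FiniteDimensional (FractionRing A) K']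

omit [IsDomain A] in
theorem mul_algebraMap_eq_smul (C : Subalgebra A K') (s : A) (x : K') :
    x * ((algebraMap A C s : C) : K') = s • x := by
  rw [Algebra.smul_def, mul_comm]; rfl

theorem exists_finite_full :
    ∃ C : Subalgebra A K', Module.Finite A C ∧ ∀ x : K', ∃ s : A, s ≠ 0 ∧ s • x ∈ C := by
  classical
  obtain ⟨y, hy, hint⟩ := exists_integral_multiples A (FractionRing A)
    (Finset.univ.image (Module.finBasis (FractionRing A) K'))
  refine ⟨Algebra.adjoin A ↑((Finset.univ.image (Module.finBasis (FractionRing A) K')).image (y • ·)), ?_, ?_⟩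
  · refine Module.Finite.iff_fg.mpr (fg_adjoin_of_finite (Finset.finite_toSet _) ?_)
    intro x hx
    obtain ⟨b, hb, rfl⟩ := Finset.mem_image.mp (Finset.mem_coe.mp hx)
    exact hint b hb
  · intro x
    induction (Module.finBasis (FractionRing A) K').mem_span x using Submodule.span_induction with
    | mem z hz =>
      obtain ⟨i, rfl⟩ := hz
      exact ⟨y, hy, Algebra.subset_adjoin (Finset.mem_coe.mpr (Finset.mem_image.mpr
        ⟨_, Finset.mem_image.mpr ⟨i, Finset.mem_univ _, rfl⟩, rfl⟩))⟩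
    | zero => exact ⟨1, one_ne_zero, by simp⟩
    | add a b _ _ ha hb =>
      obtain ⟨s, hs, ha⟩ := ha
      obtain ⟨t, ht, hb⟩ := hb
      refine ⟨t * s, mul_ne_zero ht hs, ?_⟩
      rw [smul_add, mul_smul, mul_smul, smul_comm t s b]
      exact add_mem (Subalgebra.smul_mem _ ha t) (Subalgebra.smul_mem _ hb s)
    | smul r a _ ha =>
      obtain ⟨s, hs, ha⟩ := ha
      obtain ⟨n, d, rfl⟩ := IsLocalization.exists_mk'_eq (nonZeroDivisors A) r
      refine ⟨(d : A) * s, mul_ne_zero (nonZeroDivisors.ne_zero d.2) hs, ?_⟩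
      rw [mul_smul, smul_comm s (IsLocalization.mk' (FractionRing A) n d) a, ← smul_assoc, Algebra.smul_def (d : A),
        mul_comm, IsLocalization.mk'_spec, algebraMap_smul]
      exact Subalgebra.smul_mem _ ha n

omit [Algebra (FractionRing A) K'] [IsScalarTower A (FractionRing A) K'] [FiniteDimensional (FractionRing A) K'] in
theorem isUnit_algebraMap_tensor [FaithfulSMul A K'] {s : A} (hs : s ≠ 0) : IsUnit (algebraMap A (B ⊗[A] K') s) := by
  rw [← (Algebra.TensorProduct.includeRight : K' →ₐ[A] B ⊗[A] K').commutes]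
  exact (((map_ne_zero_iff _ (FaithfulSMul.algebraMap_injective A K')).mpr hs).isUnit).map _

theorem faithfulSMul : FaithfulSMul A K' := by
  rw [faithfulSMul_iff_algebraMap_injective, IsScalarTower.algebraMap_eq A (FractionRing A) K']
  exact (algebraMap (FractionRing A) K').injective.comp (IsFractionRing.injective A (FractionRing A))

omit [IsDomain A] [Algebra (FractionRing A) K'] [IsScalarTower A (FractionRing A) K']
  [FiniteDimensional (FractionRing A) K'] in
theorem exists_clear [NoZeroDivisors A] [Nontrivial A] (C : Subalgebra A K') (hC : ∀ x : K', ∃ s : A, s ≠ 0 ∧ s • x ∈ C) (t : B ⊗[A] K') :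
    ∃ s : A, s ≠ 0 ∧ ∃ t₀ : B ⊗[A] C, Algebra.TensorProduct.map (AlgHom.id B B) C.val t₀ = s • t := by
  induction t using TensorProduct.induction_on with
  | zero => exact ⟨1, one_ne_zero, 0, by simp⟩
  | tmul b x =>
    obtain ⟨s, hs, hx⟩ := hC x
    exact ⟨s, hs, b ⊗ₜ ⟨s • x, hx⟩, by simp⟩
  | add a b ha hb =>
    obtain ⟨s, hs, a₀, ha⟩ := ha
    obtain ⟨t, ht, b₀, hb⟩ := hb
    refine ⟨t * s, mul_ne_zero ht hs, algebraMap A _ t * a₀ + algebraMap A _ s * b₀, ?_⟩
    rw [map_add, map_mul, map_mul, ha, hb, AlgHom.map_algebraMap, AlgHom.map_algebraMap, ← Algebra.smul_def,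
      ← Algebra.smul_def, smul_add, mul_smul, mul_smul, smul_comm t s b]

variable (A B K') in
theorem isNoetherianRing [IsNoetherianRing B] : IsNoetherianRing (B ⊗[A] K') := by
  haveI := faithfulSMul (A := A) (K' := K')
  obtain ⟨C, hfin, hC⟩ := exists_finite_full (A := A) (K' := K')
  haveI : IsNoetherianRing (B ⊗[A] C) := IsNoetherianRing.of_finite B _
  let φ := Algebra.TensorProduct.map (AlgHom.id B B) C.val
  have hmono : StrictMono fun J : Ideal (B ⊗[A] K') => J.comap φ.toRingHom := by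
    refine Monotone.strictMono_of_injective (fun _ _ h => Ideal.comap_mono h) ?_
    have key : ∀ J₁ J₂ : Ideal (B ⊗[A] K'), J₁.comap φ.toRingHom ≤ J₂.comap φ.toRingHom → J₁ ≤ J₂ := by
      intro J₁ J₂ h t ht
      obtain ⟨s, hs, t₀, h₀⟩ := exists_clear C hC t
      have h1 : φ t₀ ∈ J₁ := by rw [show φ t₀ = s • t from h₀, Algebra.smul_def]; exact J₁.mul_mem_left _ ht
      have h2 : φ t₀ ∈ J₂ := h (show t₀ ∈ J₁.comap φ.toRingHom from h1)
      rw [show φ t₀ = s • t from h₀, Algebra.smul_def] at h2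
      exact (J₂.unit_mul_mem_iff_mem (isUnit_algebraMap_tensor hs)).mp h2
    exact fun J₁ J₂ h => le_antisymm (key _ _ h.le) (key _ _ h.ge)
  exact isNoetherianRing_iff.mpr (isNoetherian_iff'.mpr hmono.wellFoundedGT)

variable (A K') in
theorem flat_fieldExtension : Module.Flat A K' :=
  haveI : Module.Flat A (FractionRing A) := IsLocalization.flat (FractionRing A) (nonZeroDivisors A)
  Module.Flat.trans A (FractionRing A) K'

theorem finiteDimensional_residueField (P : Ideal (B ⊗[A] K')) [P.IsPrime] (q : Ideal B) [q.IsPrime]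
    [Algebra q.ResidueField P.ResidueField] [IsScalarTower B q.ResidueField P.ResidueField] :
    FiniteDimensional q.ResidueField P.ResidueField := by
  classical
  haveI := faithfulSMul (A := A) (K' := K')
  obtain ⟨C, hfin, hC⟩ := exists_finite_full (A := A) (K' := K')
  let φ : B ⊗[A] C →ₐ[B] P.ResidueField :=
    (IsScalarTower.toAlgHom B (B ⊗[A] K') P.ResidueField).comp (Algebra.TensorProduct.map (AlgHom.id B B) C.val)
  obtain ⟨G, hG⟩ := (inferInstance : Module.Finite B (B ⊗[A] C)).fg_top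
  let S : Subalgebra q.ResidueField P.ResidueField := Algebra.adjoin _ (φ '' (G : Set (B ⊗[A] C)))
  haveI hS : FiniteDimensional q.ResidueField S := Module.Finite.iff_fg.mpr
    (fg_adjoin_of_finite (G.finite_toSet.image _) (by
      rintro _ ⟨g, _, rfl⟩
      exact ((Algebra.IsIntegral.isIntegral (R := B) g).map φ).tower_top))
  have hφ : ∀ t₀, φ t₀ ∈ S := by
    intro t₀
    induction (hG ▸ Submodule.mem_top : t₀ ∈ Submodule.span B (G : Set (B ⊗[A] C))) using Submodule.span_induction with
    | mem z hz => exact Algebra.subset_adjoin ⟨z, hz, rfl⟩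
    | zero => rw [map_zero]; exact zero_mem _
    | add a b _ _ ha hb => rw [map_add]; exact add_mem ha hb
    | smul r a _ ha => rw [map_smul, ← algebraMap_smul q.ResidueField r]; exact S.smul_mem ha _
  have hmem : ∀ t : B ⊗[A] K', algebraMap (B ⊗[A] K') P.ResidueField t ∈ S := by
    intro t
    obtain ⟨s, hs, t₀, h₀⟩ := exists_clear C hC t
    have h1 : φ t₀ ∈ S := hφ t₀
    have h2 : φ t₀ = algebraMap q.ResidueField P.ResidueField (algebraMap B q.ResidueField (algebraMap A B s)) *
        algebraMap (B ⊗[A] K') P.ResidueField t := by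
      rw [← IsScalarTower.algebraMap_apply B q.ResidueField P.ResidueField,
        IsScalarTower.algebraMap_apply B (B ⊗[A] K') P.ResidueField, ← map_mul,
        ← IsScalarTower.algebraMap_apply A B (B ⊗[A] K'), ← Algebra.smul_def, ← h₀]
      rfl
    have h3 : algebraMap q.ResidueField P.ResidueField (algebraMap B q.ResidueField (algebraMap A B s)) ≠ 0 := by
      rw [← IsScalarTower.algebraMap_apply B q.ResidueField P.ResidueField,
        IsScalarTower.algebraMap_apply B (B ⊗[A] K') P.ResidueField, ← IsScalarTower.algebraMap_apply A B (B ⊗[A] K')]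
      exact ((isUnit_algebraMap_tensor hs).map _).ne_zero
    have h4 : algebraMap (B ⊗[A] K') P.ResidueField t = algebraMap q.ResidueField P.ResidueField
        (algebraMap B q.ResidueField (algebraMap A B s))⁻¹ * φ t₀ := by
      rw [h2, ← mul_assoc, map_inv₀, inv_mul_cancel₀ h3, one_mul]
    rw [h4]
    exact mul_mem (S.algebraMap_mem _) h1
  have htop : (⊤ : Subalgebra q.ResidueField P.ResidueField) ≤ S := by
    intro ω _
    obtain ⟨a, b, hb, rfl⟩ := IsFractionRing.div_surjective (B ⊗[A] K' ⧸ P) ω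
    obtain ⟨a, rfl⟩ := Ideal.Quotient.mk_surjective a
    obtain ⟨b, rfl⟩ := Ideal.Quotient.mk_surjective b
    rw [div_eq_mul_inv]
    refine mul_mem (hmem a) ?_
    have hb' : algebraMap (B ⊗[A] K') P.ResidueField b ≠ 0 := by
      rw [ne_eq, Ideal.algebraMap_residueField_eq_zero]
      exact fun h => nonZeroDivisors.ne_zero hb (Ideal.Quotient.eq_zero_iff_mem.mpr h)
    obtain ⟨v, hv⟩ := FiniteDimensional.exists_mul_eq_one q.ResidueField (x := (⟨_, hmem b⟩ : S)) (fun h => hb' (congrArg Subtype.val h))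
    have : (algebraMap (B ⊗[A] K' ⧸ P) P.ResidueField (Ideal.Quotient.mk P b))⁻¹ = (v : P.ResidueField) :=
      inv_eq_of_mul_eq_one_right (congrArg Subtype.val hv)
    exact this ▸ v.2
  exact Module.Finite.of_surjective S.val.toLinearMap fun ω => ⟨⟨ω, htop trivial⟩, rfl⟩

theorem finite_integralClosure_residueField [Module.Flat A B]
    (hJ : ∀ (q : Ideal B) [q.IsPrime], q ∈ minimalPrimes B → CAlg.IsN2 (B ⧸ q))
    (P : Ideal (B ⊗[A] K')) [hP : P.IsPrime] (hmin : P ∈ minimalPrimes (B ⊗[A] K')) :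
    Module.Finite B (integralClosure B P.ResidueField) := by
  haveI := flat_fieldExtension A K'
  let q : Ideal B := P.comap (algebraMap B (B ⊗[A] K'))
  have hq : q ∈ minimalPrimes B := by
    refine ⟨⟨inferInstance, bot_le⟩, fun q' hq' hle => ?_⟩
    haveI := hq'.1
    haveI : P.LiesOver q := ⟨rfl⟩
    obtain ⟨P', hle', hP', hover⟩ := Ideal.exists_ideal_le_liesOver_of_le (p := q') (q := q) P hle
    have : P' = P := le_antisymm hle' (hmin.2 ⟨hP', bot_le⟩ hle')
    subst this
    exact (hover.over).ge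
  letI : Algebra q.ResidueField P.ResidueField := (Ideal.ResidueField.map q P (algebraMap B (B ⊗[A] K')) rfl).toAlgebra
  haveI : IsScalarTower B q.ResidueField P.ResidueField := IsScalarTower.of_algebraMap_eq fun r => by
    rw [RingHom.algebraMap_toAlgebra, Ideal.ResidueField.map_algebraMap,
      ← IsScalarTower.algebraMap_apply B (B ⊗[A] K') P.ResidueField]
  haveI := finiteDimensional_residueField P q
  letI : Algebra (B ⧸ q) P.ResidueField :=
    ((algebraMap q.ResidueField P.ResidueField).comp (algebraMap (B ⧸ q) q.ResidueField)).toAlgebra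
  haveI : IsScalarTower (B ⧸ q) q.ResidueField P.ResidueField := IsScalarTower.of_algebraMap_eq' rfl
  haveI : IsScalarTower B (B ⧸ q) P.ResidueField := IsScalarTower.of_algebraMap_eq fun r => by
    rw [IsScalarTower.algebraMap_apply B q.ResidueField P.ResidueField]
    rfl
  haveI := Groth.Agent.Props.N2Local.finite_integralClosure (hJ q hq) q.ResidueField P.ResidueField
  haveI : Module.Finite B (integralClosure (B ⧸ q) P.ResidueField) := Module.Finite.trans (B ⧸ q) _
  let g : integralClosure (B ⧸ q) P.ResidueField →ₗ[B] integralClosure B P.ResidueField :=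
    { toFun := fun x => ⟨x.1, isIntegral_trans x.1 x.2⟩, map_add' := fun _ _ => rfl
      map_smul' := fun r x => Subtype.ext (Subalgebra.coe_smul _ r x) }
  refine Module.Finite.of_surjective g ?_
  exact fun x => ⟨⟨x.1, x.2.tower_top⟩, rfl⟩

variable (A B K') in
theorem finite_integralClosure_reduced [IsNoetherianRing B] [Module.Flat A B]
    (hJ : ∀ (q : Ideal B) [q.IsPrime], q ∈ minimalPrimes B → CAlg.IsN2 (B ⧸ q)) :
    Module.Finite B (integralClosure B ((B ⊗[A] K') ⧸ nilradical (B ⊗[A] K'))) := by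
  haveI := isNoetherianRing A B K'
  haveI : Finite (minimalPrimes (B ⊗[A] K')) := (minimalPrimes.finite_of_isNoetherianRing _).to_subtype
  haveI : ∀ P : minimalPrimes (B ⊗[A] K'), P.1.IsPrime := fun P => P.2.1.1
  haveI : ∀ P : minimalPrimes (B ⊗[A] K'), Module.Finite B (integralClosure B P.1.ResidueField) :=
    fun P => finite_integralClosure_residueField hJ P.1 P.2
  let ρ : ∀ P : minimalPrimes (B ⊗[A] K'), (B ⊗[A] K') ⧸ nilradical (B ⊗[A] K') →ₐ[B] P.1.ResidueField := fun P =>
    Ideal.Quotient.liftₐ _ (IsScalarTower.toAlgHom B (B ⊗[A] K') P.1.ResidueField) fun a ha =>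
      Ideal.algebraMap_residueField_eq_zero.mpr (nilradical_le_prime P.1 ha)
  let f : integralClosure B ((B ⊗[A] K') ⧸ nilradical (B ⊗[A] K')) →ₗ[B]
      ∀ P : minimalPrimes (B ⊗[A] K'), integralClosure B P.1.ResidueField :=
    LinearMap.pi fun P =>
      { toFun := fun x => ⟨ρ P x.1, x.2.map (ρ P)⟩
        map_add' := fun x y => Subtype.ext (map_add (ρ P) _ _)
        map_smul' := fun r x => Subtype.ext (map_smul (ρ P) r _) }
  refine Module.Finite.of_injective f fun x y hxy => Subtype.ext ?_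
  obtain ⟨a, ha⟩ := Ideal.Quotient.mk_surjective x.1
  obtain ⟨b, hb⟩ := Ideal.Quotient.mk_surjective y.1
  rw [← ha, ← hb, Ideal.Quotient.eq]
  have hnil : nilradical (B ⊗[A] K') = sInf (minimalPrimes (B ⊗[A] K')) :=
    (Ideal.sInf_minimalPrimes (I := (⊥ : Ideal (B ⊗[A] K')))).symm
  rw [hnil, Ideal.mem_sInf]
  intro P hP
  haveI := hP.1.1
  have h := congrArg Subtype.val (congrFun hxy ⟨P, hP⟩)
  have h' : ρ ⟨P, hP⟩ x.1 = ρ ⟨P, hP⟩ y.1 := h
  rw [← ha, ← hb] at h'
  have h'' : algebraMap (B ⊗[A] K') P.ResidueField a = algebraMap (B ⊗[A] K') P.ResidueField b := h'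
  exact Ideal.algebraMap_residueField_eq_zero.mp (by rw [map_sub, h'', sub_self])

omit [IsDomain A] [Algebra (FractionRing A) K'] [IsScalarTower A (FractionRing A) K']
  [FiniteDimensional (FractionRing A) K'] in
variable (B) in
/-- `C ⊗ B → B ⊗ K'`. -/
noncomputable abbrev Phi (C : Subalgebra A K') : C ⊗[A] B →ₐ[A] B ⊗[A] K' :=
  (Algebra.TensorProduct.comm A K' B).toAlgHom.comp (Algebra.TensorProduct.map C.val (AlgHom.id A B))

omit [IsDomain A] [Algebra (FractionRing A) K'] [IsScalarTower A (FractionRing A) K']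
  [FiniteDimensional (FractionRing A) K'] in
theorem Phi_injective [Module.Flat A B] (C : Subalgebra A K') : Function.Injective (Phi B C) :=
  (Algebra.TensorProduct.comm A K' B).injective.comp
    (Module.Flat.rTensor_preserves_injective_linearMap (M := B) C.val.toLinearMap Subtype.val_injective)

omit [IsDomain A] [Algebra (FractionRing A) K'] [IsScalarTower A (FractionRing A) K']
  [FiniteDimensional (FractionRing A) K'] in
theorem Phi_incl {C C' : Subalgebra A K'} (hle : C ≤ C') (x : C ⊗[A] B) :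
    Phi B C' (Algebra.TensorProduct.map (Subalgebra.inclusion hle) (AlgHom.id A B) x) = Phi B C x := by
  induction x using TensorProduct.induction_on with
  | zero => simp
  | tmul c b => rfl
  | add a b ha hb => simp only [map_add, ha, hb]

/-- Existence of a stabilising finite modification. -/
theorem exists_stable [IsNoetherianRing B] [Module.Flat A B]
    (hJ : ∀ (q : Ideal B) [q.IsPrime], q ∈ minimalPrimes B → CAlg.IsN2 (B ⧸ q)) :
    ∃ Cα : Subalgebra A K', Module.Finite A Cα ∧ (∀ x : K', ∃ a b : Cα, (b : K') ≠ 0 ∧ x * b = a) ∧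
      ∀ C : Subalgebra A K', Module.Finite A C → ∀ hle : Cα ≤ C,
        (∀ x : ↥Cα ⊗[A] B, IsNilpotent (Algebra.TensorProduct.map (Subalgebra.inclusion hle) (AlgHom.id A B) x) →
          IsNilpotent x) ∧
        (∀ y : ↥C ⊗[A] B, ∃ x : ↥Cα ⊗[A] B,
          IsNilpotent (Algebra.TensorProduct.map (Subalgebra.inclusion hle) (AlgHom.id A B) x - y)) := by
  classical
  haveI := finite_integralClosure_reduced A B K' hJ
  let π : B ⊗[A] K' →ₐ[B] (B ⊗[A] K') ⧸ nilradical (B ⊗[A] K') := Ideal.Quotient.mkₐ B _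
  have hint : ∀ (C : Subalgebra A K'), Module.Finite A C → ∀ c : C,
      IsIntegral B (π ((1 : B) ⊗ₜ[A] (c : K'))) := by
    intro C hC c
    have h1 : IsIntegral B ((1 : B) ⊗ₜ[A] c) := Algebra.IsIntegral.isIntegral _
    exact (h1.map (Algebra.TensorProduct.map (AlgHom.id B B) C.val)).map π
  let N : {C : Subalgebra A K' // Module.Finite A C ∧ ∀ x : K', ∃ s : A, s ≠ 0 ∧ s • x ∈ C} →
      Submodule B (integralClosure B ((B ⊗[A] K') ⧸ nilradical (B ⊗[A] K'))) := fun C =>
    Submodule.span B (Set.range fun c : C.1 => ⟨π ((1 : B) ⊗ₜ[A] (c : K')), hint C.1 C.2.1 c⟩)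
  obtain ⟨C₀, hC₀⟩ := exists_finite_full (A := A) (K' := K')
  haveI : IsNoetherian B (integralClosure B ((B ⊗[A] K') ⧸ nilradical (B ⊗[A] K'))) :=
    isNoetherian_of_isNoetherianRing_of_finite B _
  obtain ⟨_, ⟨⟨Cα, hfα, hsα⟩, rfl⟩, hmax⟩ := set_has_maximal_iff_noetherian.mpr inferInstance
    (Set.range N) ⟨_, ⟨⟨C₀, hC₀⟩, rfl⟩⟩
  refine ⟨Cα, hfα, fun x => ?_, fun C hC hle => ⟨fun x hx => ?_, fun y => ?_⟩⟩
  · obtain ⟨s, hs, hx⟩ := hsα x
    haveI := faithfulSMul (A := A) (K' := K')
    exact ⟨⟨s • x, hx⟩, algebraMap A Cα s, (map_ne_zero_iff _ (FaithfulSMul.algebraMap_injective A K')).mpr hs,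
      mul_algebraMap_eq_smul Cα s x⟩
  · have := hx.map (Phi B C)
    rw [Phi_incl] at this
    exact (IsNilpotent.map_iff (Phi_injective Cα)).mp this
  · have hs : ∀ x : K', ∃ s : A, s ≠ 0 ∧ s • x ∈ C := fun x => (hsα x).imp fun s h => ⟨h.1, hle h.2⟩
    have hle' : N ⟨Cα, hfα, hsα⟩ ≤ N ⟨C, hC, hs⟩ := Submodule.span_le.mpr (by
      rintro _ ⟨c, rfl⟩
      exact Submodule.subset_span ⟨⟨c.1, hle c.2⟩, rfl⟩)
    have heq : N ⟨Cα, hfα, hsα⟩ = N ⟨C, hC, hs⟩ := eq_of_le_of_not_lt hle' (hmax _ ⟨_, rfl⟩)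
    have key : ∀ y : C ⊗[A] B, ∃ x : Cα ⊗[A] B, π (Phi B Cα x) = π (Phi B C y) := by
      intro y
      induction y using TensorProduct.induction_on with
      | zero => exact ⟨0, by simp⟩
      | tmul c b =>
        have hmem : (⟨π ((1 : B) ⊗ₜ[A] (c : K')), hint C hC c⟩ : integralClosure B _) ∈ N ⟨Cα, hfα, hsα⟩ := by
          rw [heq]; exact Submodule.subset_span ⟨c, rfl⟩
        have gen : ∀ z ∈ N ⟨Cα, hfα, hsα⟩, ∀ b : B, ∃ x : Cα ⊗[A] B, π (Phi B Cα x) = b • z.1 := by
          intro z hz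
          induction hz using Submodule.span_induction with
          | mem z hz =>
            obtain ⟨c', rfl⟩ := hz
            intro b
            refine ⟨c' ⊗ₜ b, ?_⟩
            show π (b ⊗ₜ (c' : K')) = b • π (1 ⊗ₜ (c' : K'))
            rw [← map_smul, TensorProduct.smul_tmul', smul_eq_mul, mul_one]
          | zero => exact fun b => ⟨0, by simp⟩
          | add z₁ z₂ _ _ h₁ h₂ =>
            intro b
            obtain ⟨x₁, e₁⟩ := h₁ b
            obtain ⟨x₂, e₂⟩ := h₂ b
            exact ⟨x₁ + x₂, by rw [map_add, map_add, e₁, e₂]; exact (smul_add b _ _).symm⟩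
          | smul r z _ h =>
            intro b
            obtain ⟨x, e⟩ := h (b * r)
            exact ⟨x, by rw [e]; exact mul_smul b r z.1⟩
        obtain ⟨x, hx⟩ := gen _ hmem b
        refine ⟨x, hx.trans ?_⟩
        show b • π ((1 : B) ⊗ₜ[A] (c : K')) = π (b ⊗ₜ (c : K'))
        rw [← map_smul, TensorProduct.smul_tmul', smul_eq_mul, mul_one]
      | add a b ha hb =>
        obtain ⟨x₁, e₁⟩ := ha
        obtain ⟨x₂, e₂⟩ := hb
        exact ⟨x₁ + x₂, by simp only [map_add, e₁, e₂]⟩
    obtain ⟨x, hx⟩ := key y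
    refine ⟨x, (IsNilpotent.map_iff (Phi_injective C)).mp ?_⟩
    rw [map_sub, Phi_incl]
    exact mem_nilradical.mp ((Ideal.Quotient.eq).mp hx)

end Field

section Radicial

open AlgebraicGeometry

variable {A B K' : Type u} [CommRing A] [CommRing B] [Algebra A B] [Field K'] [Algebra A K']

theorem universallyInjective_of_stable [Module.FaithfullyFlat A B] (Cα : Subalgebra A K')
    (hfα : Module.Finite A Cα)
    (h : ∀ C : Subalgebra A K', Module.Finite A C → ∀ hle : Cα ≤ C, ∀ y : ↥C ⊗[A] B, ∃ x : ↥Cα ⊗[A] B,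
      IsNilpotent (Algebra.TensorProduct.map (Subalgebra.inclusion hle) (AlgHom.id A B) x - y))
    (hint : Cα ≤ integralClosure A K') :
    UniversallyInjective (Spec.map (CommRingCat.ofHom (Subalgebra.inclusion hint).toRingHom)) := by
  refine ((tfae_universallyInjective _).out 0 1).mpr ?_
  intro k _ g₁ g₂ hg
  obtain ⟨φ₁, rfl⟩ := Spec.map_surjective g₁
  obtain ⟨φ₂, rfl⟩ := Spec.map_surjective g₂
  simp only [← Spec.map_comp] at hg
  have hg' := Spec.map_injective hg
  have hagree : ∀ c : Cα, φ₁.hom (Subalgebra.inclusion hint c) = φ₂.hom (Subalgebra.inclusion hint c) :=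
    fun c => congrArg (fun ψ : CommRingCat.of Cα ⟶ CommRingCat.of k => ψ.hom c) hg'
  congr 1
  ext c
  letI : Algebra A k := (φ₁.hom.comp (algebraMap A (integralClosure A K'))).toAlgebra
  let C : Subalgebra A K' := Cα ⊔ Algebra.adjoin A {(c.1 : K')}
  have hCfin : Module.Finite A C := by
    have h1 : Module.Finite A (Algebra.adjoin A {(c.1 : K')}) := Algebra.finite_adjoin_simple_of_isIntegral c.2
    exact Subalgebra.finite_sup _ _
  have hCint : C ≤ integralClosure A K' := sup_le hint (Algebra.adjoin_le (by simpa using c.2))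
  have hle : Cα ≤ C := le_sup_left
  haveI : Nontrivial (k ⊗[A] B) := inferInstance
  obtain ⟨m, hm⟩ := Ideal.exists_maximal (k ⊗[A] B)
  let Ω := (k ⊗[A] B) ⧸ m
  letI : Field Ω := Ideal.Quotient.field m
  let ιk : k →ₐ[A] Ω := (Ideal.Quotient.mkₐ A m).comp Algebra.TensorProduct.includeLeft
  let ιB : B →ₐ[A] Ω := (Ideal.Quotient.mkₐ A m).comp Algebra.TensorProduct.includeRight
  let ψ₁ : C →ₐ[A] k := { toRingHom := φ₁.hom.comp (Subalgebra.inclusion hCint).toRingHom, commutes' := fun _ => rfl }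
  let ψ₂ : C →ₐ[A] k :=
    { toRingHom := φ₂.hom.comp (Subalgebra.inclusion hCint).toRingHom
      commutes' := fun a => by
        show φ₂.hom (Subalgebra.inclusion hint (algebraMap A Cα a)) = φ₁.hom _
        rw [← hagree]
        rfl }
  let θ₁ := Algebra.TensorProduct.productMap (ιk.comp ψ₁) ιB
  let θ₂ := Algebra.TensorProduct.productMap (ιk.comp ψ₂) ιB
  obtain ⟨x, hx⟩ := h C hCfin hle ((⟨c.1, (le_sup_right : Algebra.adjoin A {(c.1 : K')} ≤ C)
    (Algebra.subset_adjoin (Set.mem_singleton _))⟩ : C) ⊗ₜ[A] (1 : B))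
  have h1 := (hx.map θ₁).eq_zero
  have h2 := (hx.map θ₂).eq_zero
  have hkey : θ₁ (Algebra.TensorProduct.map (Subalgebra.inclusion hle) (AlgHom.id A B) x) =
      θ₂ (Algebra.TensorProduct.map (Subalgebra.inclusion hle) (AlgHom.id A B) x) := by
    clear hx h1 h2
    induction x using TensorProduct.induction_on with
    | zero => simp
    | tmul a b =>
      show ιk (φ₁.hom (Subalgebra.inclusion hint a)) * ιB b = ιk (φ₂.hom (Subalgebra.inclusion hint a)) * ιB b
      rw [hagree a]
    | add a b ha hb => simp only [map_add, ha, hb]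
  rw [map_sub, sub_eq_zero] at h1 h2
  rw [h1, h2] at hkey
  have h3 : ιk (φ₁.hom c) * ιB 1 = ιk (φ₂.hom c) * ιB 1 := hkey
  rw [map_one, mul_one, mul_one] at h3
  exact ιk.toRingHom.injective h3

end Radicial

end Groth.Agent.CAlgLib.N2Stab
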