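import Groth.Prelude.Def_Found
import Groth.Agent.Nagata.Tate
import Groth.Agent.CAlgLib.PowerSeriesIC
import Mathlib

/-!
# Power series over a normal Japanese Noetherian domain are Japanese
-/

set_option autoImplicit false

universe u

namespace Groth.Agent.CAlgLib.PowerSeriesN2

open PowerSeries

variable (A : Type u) [CommRing A]

theorem ker_constantCoeff :
    RingHom.ker (constantCoeff (R := A)) = Ideal.span ({PowerSeries.X} : Set A⟦X⟧) := by
  ext f
  rw [RingHom.mem_ker, Ideal.mem_span_singleton, PowerSeries.X_dvd_iff]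

/-- `A⟦X⟧ ⧸ (X) ≅ A`. -/
noncomputable def quotientXEquiv : A⟦X⟧ ⧸ Ideal.span ({PowerSeries.X} : Set A⟦X⟧) ≃+* A :=
  (Ideal.quotEquivOfEq (ker_constantCoeff A).symm).trans
    (RingHom.quotientKerEquivOfSurjective fun a => ⟨PowerSeries.C a, constantCoeff_C a⟩)

theorem isAdicComplete_X : IsAdicComplete (Ideal.span ({PowerSeries.X} : Set A⟦X⟧)) A⟦X⟧ := by
  have hmem : ∀ (n : ℕ) (f g : A⟦X⟧), f ≡ g [SMOD ((Ideal.span ({PowerSeries.X} : Set A⟦X⟧)) ^ n • ⊤ : Submodule A⟦X⟧ A⟦X⟧)] ↔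
      ∀ i < n, coeff i f = coeff i g := by
    intro n f g
    rw [SModEq.sub_mem, smul_eq_mul, Ideal.mul_top, Ideal.span_singleton_pow, Ideal.mem_span_singleton,
      PowerSeries.X_pow_dvd_iff]
    simp only [map_sub, sub_eq_zero]
  refine
    { haus' := fun f hf => PowerSeries.ext fun i => ((hmem (i + 1) f 0).mp (hf (i + 1))) i (Nat.lt_succ_self i)
      prec' := fun f hf => ⟨PowerSeries.mk fun i => coeff i (f (i + 1)), fun n => ?_⟩ }
  rw [hmem]
  intro i hi
  rw [PowerSeries.coeff_mk]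
  exact ((hmem (i + 1) _ _).mp (hf (Nat.succ_le_of_lt hi)) i (Nat.lt_succ_self i)).symm

theorem isN2_powerSeries [IsDomain A] [IsNoetherianRing A] [IsIntegrallyClosed A] (h : CAlg.IsN2 A) :
    CAlg.IsN2 A⟦X⟧ := by
  haveI := PowerSeriesIC.isIntegrallyClosed (R := A)
  haveI := isAdicComplete_X A
  haveI hp : (Ideal.span ({PowerSeries.X} : Set A⟦X⟧)).IsPrime := by
    rw [← ker_constantCoeff]; exact RingHom.ker_isPrime _
  exact Nagata.isN2_tate A⟦X⟧ PowerSeries.X (Props.N2Local.isN2_of_ringEquiv (quotientXEquiv A).symm h)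

theorem isN2_mvPowerSeries [IsDomain A] [IsNoetherianRing A] [IsIntegrallyClosed A] (h : CAlg.IsN2 A) :
    ∀ (r : ℕ) [IsDomain (MvPowerSeries (Fin r) A)],
      IsIntegrallyClosed (MvPowerSeries (Fin r) A) ∧ CAlg.IsN2 (MvPowerSeries (Fin r) A)
  | 0, _ => by
    let e : A ≃+* MvPowerSeries (Fin 0) A := RingEquiv.ofBijective (MvPowerSeries.C (σ := Fin 0) (R := A))
      ⟨MvPowerSeries.C_injective, fun f => ⟨MvPowerSeries.constantCoeff f, by
        refine MvPowerSeries.ext fun n => ?_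
        rw [Subsingleton.elim n 0, MvPowerSeries.coeff_zero_eq_constantCoeff_apply, MvPowerSeries.constantCoeff_C]
        rfl⟩⟩
    exact ⟨IsIntegrallyClosed.of_equiv e, Props.N2Local.isN2_of_ringEquiv e h⟩
  | r + 1, _ => by
    haveI : IsDomain (MvPowerSeries (Fin r) A) := NoZeroDivisors.to_isDomain _
    obtain ⟨hic, hn2⟩ := isN2_mvPowerSeries h r
    haveI := hic
    let e := (MvPowerSeries.finSuccEquiv (R := A) (n := r)).symm.toRingEquiv
    haveI := PowerSeriesIC.isIntegrallyClosed (R := MvPowerSeries (Fin r) A)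
    exact ⟨IsIntegrallyClosed.of_equiv e, Props.N2Local.isN2_of_ringEquiv e (isN2_powerSeries _ hn2)⟩

end Groth.Agent.CAlgLib.PowerSeriesN2
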