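import Groth.Agent.CAlgLib.LocalLimit
import Mathlib.RingTheory.AdjoinRoot
import Mathlib.RingTheory.Localization.AtPrime.Basic
import Mathlib.RingTheory.Flat.Localization
import Mathlib.RingTheory.Ideal.GoingUp
import Mathlib.Order.Zorn

/-!
Flat local extensions of an arbitrary local ring realizing a given residue field extension
(the Noetherian case, with Noetherian extensions, is `ResidueExt`).
-/

namespace Groth.Agent.CAlgLib.ResidueExtGen

universe u

open IsLocalRing

variable (A K : Type u) [CommRing A] [IsLocalRing A] [Field K] [Algebra A K]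

/-- A flat local `A`-algebra with `m_A` generating the maximal ideal, a map to `K`
identifying the residue field with a subfield, and chosen lifts of that subfield which determine
`A`-algebra maps out of it. -/
structure Stage where
  B : Type u
  [cring : CommRing B]
  [alg : Algebra A B]
  [loc : IsLocalRing B]
  [flat : Module.Flat A B]
  ψ : B →ₐ[A] K
  ker_eq : RingHom.ker ψ = maximalIdeal B
  max_eq : (maximalIdeal A).map (algebraMap A B) = maximalIdeal B
  b : Set.range ψ → B
  hb : ∀ y, ψ (b y) = y.1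
  ext' : ∀ (C : Type u) [CommRing C] [Algebra A C] (f g : B →ₐ[A] C), (∀ y, f (b y) = g (b y)) → f = g

attribute [local instance] Stage.cring Stage.alg Stage.loc Stage.flat

variable {A K}

/-- Morphisms of stages. -/
structure IsMor (S T : Stage A K) (f : S.B →ₐ[A] T.B) : Prop where
  flat : f.toRingHom.Flat
  comm : ∀ z, T.ψ (f z) = S.ψ z
  hb : ∀ (x : Set.range S.ψ) (y : Set.range T.ψ), x.1 = y.1 → f (S.b x) = T.b y

instance : Preorder (Stage A K) where
  le S T := ∃ f, IsMor S T f
  le_refl S := ⟨AlgHom.id A S.B, RingHom.Flat.id _, fun _ => rfl, fun x y h => by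
    rw [AlgHom.id_apply, Subtype.ext h]⟩
  le_trans S T U := by
    rintro ⟨f, hf⟩ ⟨g, hg⟩
    refine ⟨g.comp f, RingHom.Flat.comp hf.flat hg.flat, fun z => by simp [hg.comm, hf.comm], fun x y h => ?_⟩
    have hx : x.1 ∈ Set.range T.ψ := by
      obtain ⟨z, hz⟩ := x.2
      exact ⟨f z, by rw [hf.comm, hz]⟩
    rw [AlgHom.comp_apply, hf.hb x ⟨x.1, hx⟩ rfl]
    exact hg.hb _ y h

theorem IsMor.unique {S T : Stage A K} {f g : S.B →ₐ[A] T.B} (hf : IsMor S T f) (hg : IsMor S T g) :
    f = g := by
  refine S.ext' T.B f g fun y => ?_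
  have hy : y.1 ∈ Set.range T.ψ := ⟨f (S.b y), by rw [hf.comm, S.hb]⟩
  rw [hf.hb y ⟨_, hy⟩ rfl, hg.hb y ⟨_, hy⟩ rfl]

theorem range_mono {S T : Stage A K} (h : S ≤ T) : Set.range S.ψ ⊆ Set.range T.ψ := by
  obtain ⟨f, hf⟩ := h
  rintro _ ⟨z, rfl⟩
  exact ⟨f z, hf.comm z⟩

theorem IsMor.isLocalHom {S T : Stage A K} {f : S.B →ₐ[A] T.B} (hf : IsMor S T f) :
    IsLocalHom f.toRingHom := by
  refine ⟨fun z hz => ?_⟩
  by_contra hz'
  have h1 : z ∈ RingHom.ker S.ψ := S.ker_eq ▸ hz'
  have h2 : f z ∈ RingHom.ker T.ψ := by rw [RingHom.mem_ker, hf.comm]; exact h1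
  rw [T.ker_eq] at h2
  exact h2 hz

theorem IsMor.map_max {S T : Stage A K} {f : S.B →ₐ[A] T.B} :
    (maximalIdeal S.B).map f.toRingHom = maximalIdeal T.B := by
  rw [← S.max_eq, Ideal.map_map, ← T.max_eq]
  congr 1
  exact f.comp_algebraMap

/-- A morphism between stages with the same residue subfield is invertible. -/
theorem le_symm_of_range_subset {S T : Stage A K} (h : S ≤ T) (hr : Set.range T.ψ ⊆ Set.range S.ψ) :
    T ≤ S := by
  obtain ⟨f, hf⟩ := h
  let _ : Algebra S.B T.B := f.toRingHom.toAlgebra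
  have : IsScalarTower A S.B T.B := IsScalarTower.of_algHom f
  have : Module.Flat S.B T.B := hf.flat
  have : IsLocalHom (algebraMap S.B T.B) := hf.isLocalHom
  have : Module.FaithfullyFlat S.B T.B := Module.FaithfullyFlat.of_flat_of_isLocalHom
  have hinj : Function.Injective f := FaithfulSMul.algebraMap_injective S.B T.B
  have hsurj : Function.Surjective f := by
    intro t
    have heq : (Algebra.TensorProduct.includeLeft : T.B →ₐ[A] TensorProduct S.B T.B T.B) =
        (Algebra.TensorProduct.includeRight : T.B →ₐ[S.B] TensorProduct S.B T.B T.B).restrictScalars A := by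
      refine T.ext' _ _ _ fun y => ?_
      rw [← hf.hb ⟨y.1, hr y.2⟩ y rfl]
      simp only [Algebra.TensorProduct.includeLeft_apply, AlgHom.coe_restrictScalars',
        Algebra.TensorProduct.includeRight_apply]
      change algebraMap S.B T.B _ ⊗ₜ[S.B] (1 : T.B) = (1 : T.B) ⊗ₜ[S.B] algebraMap S.B T.B _
      rw [Algebra.algebraMap_eq_smul_one, TensorProduct.smul_tmul]
    have ht : t ⊗ₜ[S.B] (1 : T.B) = (1 : T.B) ⊗ₜ[S.B] t := AlgHom.congr_fun heq t
    let N := LinearMap.range (Algebra.linearMap S.B T.B)
    have h0 : (1 : T.B) ⊗ₜ[S.B] (Submodule.Quotient.mk t : T.B ⧸ N) = 0 := by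
      have h1 := congrArg (N.mkQ.lTensor T.B) ht
      rw [LinearMap.lTensor_tmul, LinearMap.lTensor_tmul] at h1
      have h2 : N.mkQ (1 : T.B) = 0 :=
        (Submodule.Quotient.mk_eq_zero N).mpr ⟨1, by simp⟩
      rw [h2, TensorProduct.tmul_zero] at h1
      exact h1.symm
    obtain ⟨z, hz⟩ := (Submodule.Quotient.mk_eq_zero N).mp
      ((Module.FaithfullyFlat.one_tmul_eq_zero_iff S.B (T.B ⧸ N) _).mp h0)
    exact ⟨z, hz⟩
  let e := AlgEquiv.ofBijective f ⟨hinj, hsurj⟩
  refine ⟨e.symm.toAlgHom, RingHom.Flat.of_bijective e.symm.bijective, fun z => ?_, fun x y hxy => ?_⟩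
  · obtain ⟨w, rfl⟩ := hsurj z
    change S.ψ (e.symm (e w)) = _
    rw [e.symm_apply_apply, hf.comm]
  · apply hinj
    change e (e.symm (T.b x)) = f (S.b y)
    rw [e.apply_symm_apply, hf.hb y x hxy.symm]

/-- The base stage. -/
theorem nonempty_stage (hA : RingHom.ker (algebraMap A K) = maximalIdeal A) :
    Nonempty (Stage A K) :=
  ⟨{ B := A
     ψ := Algebra.ofId A K
     ker_eq := hA
     max_eq := Ideal.map_id _
     b := fun y => y.2.choose
     hb := fun y => y.2.choose_spec
     ext' := fun _ _ _ f g _ => Subsingleton.elim f g }⟩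

/-- Upper bounds of nonempty chains. -/
theorem bddAbove_chain (c : Set (Stage A K)) (hc : IsChain (· ≤ ·) c) (hne : c.Nonempty) :
    BddAbove c := by
  classical
  let I : Type u := {L : Set K // ∃ S ∈ c, Set.range S.ψ = L}
  let rep : I → Stage A K := fun i => i.2.choose
  have hrep : ∀ i, rep i ∈ c ∧ Set.range (rep i).ψ = i.1 := fun i => i.2.choose_spec
  have hle : ∀ S ∈ c, ∀ T ∈ c, Set.range S.ψ ⊆ Set.range T.ψ → S ≤ T := by
    intro S hS T hT h
    rcases hc.total hS hT with h' | h'
    · exact h'
    · exact le_symm_of_range_subset h' h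
  have hmono : ∀ i j : I, i ≤ j → rep i ≤ rep j := fun i j h =>
    hle _ (hrep i).1 _ (hrep j).1 (by rw [(hrep i).2, (hrep j).2]; exact h)
  have : Nonempty I := ⟨⟨_, hne.choose, hne.choose_spec, rfl⟩⟩
  have : IsDirected I (· ≤ ·) := ⟨fun i j => by
    rcases hc.total (hrep i).1 (hrep j).1 with h | h
    · refine ⟨j, ?_, le_rfl⟩
      have := range_mono h; rwa [(hrep i).2, (hrep j).2] at this
    · refine ⟨i, le_rfl, ?_⟩
      have := range_mono h; rwa [(hrep i).2, (hrep j).2] at this⟩
  choose f hf using fun i j h => (show ∃ f, IsMor (rep i) (rep j) f from hmono i j h)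
  let G : I → Type u := fun i => (rep i).B
  let fr : ∀ i j, i ≤ j → G i →+* G j := fun i j h => (f i j h).toRingHom
  have : DirectedSystem G fun i j h => fr i j h := ⟨fun i z => by
      have := (hf i i le_rfl).unique (g := AlgHom.id A _)
        ⟨RingHom.Flat.id _, fun _ => rfl, fun x y h => by rw [AlgHom.id_apply, Subtype.ext h]⟩
      exact AlgHom.congr_fun this z, fun k j i hij hjk z => by
      have := (hf i k (hij.trans hjk)).unique (g := (f j k hjk).comp (f i j hij))
        ⟨RingHom.Flat.comp (hf i j hij).flat (hf j k hjk).flat, fun z => by simp [(hf j k hjk).comm, (hf i j hij).comm], fun x y h => by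
          have hx : x.1 ∈ Set.range (rep j).ψ := ⟨f i j hij ((rep i).b x), by rw [(hf i j hij).comm, (rep i).hb]⟩
          rw [AlgHom.comp_apply, (hf i j hij).hb x ⟨_, hx⟩ rfl]
          exact (hf j k hjk).hb _ y h⟩
      exact (AlgHom.congr_fun this z).symm⟩
  have hloc : ∀ i j (h : i ≤ j), IsLocalHom (fr i j h) := fun i j h => (hf i j h).isLocalHom
  have hflat : ∀ i j (h : i ≤ j), (fr i j h).Flat := fun i j h => (hf i j h).flat
  have hmax : ∀ i j (h : i ≤ j), (maximalIdeal (G i)).map (fr i j h) = maximalIdeal (G j) :=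
    fun i j h => IsMor.map_max
  let BB := Ring.DirectLimit G fun i j h => fr i j h
  have : IsLocalRing BB := LocalLimit.isLocalRing fr hloc
  let o : ∀ i, G i →+* BB := fun i => Ring.DirectLimit.of G (fun i j h => fr i j h) i
  have hof : ∀ i j (h : i ≤ j) z, o j (f i j h z) = o i z :=
    fun i j h z => Ring.DirectLimit.of_f (f := fun i j h => fr i j h) h z
  obtain ⟨i₀⟩ := (inferInstance : Nonempty I)
  let _ : Algebra A BB := ((o i₀).comp (algebraMap A (G i₀))).toAlgebra
  have hcomm : ∀ i a, o i (algebraMap A (G i) a) = algebraMap A BB a := by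
    intro i a
    obtain ⟨k, hik, h0k⟩ := exists_ge_ge i i₀
    change o i _ = o i₀ (algebraMap A (G i₀) a)
    rw [← hof i k hik, ← hof i₀ k h0k, AlgHom.commutes, AlgHom.commutes]
  let oA : ∀ i, G i →ₐ[A] BB := fun i => { o i with commutes' := hcomm i }
  have : Module.Flat A BB := by
    have h1 : (o i₀).Flat := LocalLimit.flat_of fr hflat i₀
    have h2 : (algebraMap A (G i₀)).Flat := RingHom.flat_algebraMap_iff.mpr inferInstance
    exact RingHom.flat_algebraMap_iff.mp (RingHom.Flat.comp h2 h1)
  let ψr : BB →+* K := Ring.DirectLimit.lift G (fun i j h => fr i j h) K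
    (fun i => (rep i).ψ.toRingHom) fun i j h z => (hf i j h).comm z
  have hψ : ∀ i z, ψr (o i z) = (rep i).ψ z := fun i z => Ring.DirectLimit.lift_of (G := G) (f := fun i j h => fr i j h) (P := K) _ _ i z
  have hψc : ∀ a, ψr (algebraMap A BB a) = algebraMap A K a := fun a => by
    rw [← hcomm i₀, hψ]
    exact (rep i₀).ψ.commutes a
  let ψ : BB →ₐ[A] K := { ψr with commutes' := hψc }
  have hrange : ∀ y : Set.range ψ, ∃ i, y.1 ∈ Set.range (rep i).ψ := by
    rintro ⟨_, z, rfl⟩
    obtain ⟨i, w, rfl⟩ := Ring.DirectLimit.exists_of z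
    exact ⟨i, w, (hψ i w).symm⟩
  choose idx hidx using hrange
  let b : Set.range ψ → BB := fun y => o (idx y) ((rep (idx y)).b ⟨y.1, hidx y⟩)
  have hb' : ∀ (y : Set.range ψ) (i : I) (x : Set.range (rep i).ψ), x.1 = y.1 → o i ((rep i).b x) = b y := by
    intro y i x hxy
    obtain ⟨k, hik, hjk⟩ := exists_ge_ge i (idx y)
    have hxk : x.1 ∈ Set.range (rep k).ψ := range_mono (hmono _ _ hik) x.2
    change _ = o (idx y) _
    rw [← hof i k hik, (hf i k hik).hb x ⟨_, hxk⟩ rfl, ← hof _ k hjk,
      (hf _ k hjk).hb ⟨y.1, hidx y⟩ ⟨_, hxk⟩ hxy.symm]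
  let U : Stage A K :=
    { B := BB
      ψ := ψ
      ker_eq := by
        ext z
        obtain ⟨i, w, rfl⟩ := Ring.DirectLimit.exists_of z
        have := LocalLimit.isLocalHom_of fr hloc i
        rw [RingHom.mem_ker, IsLocalRing.mem_maximalIdeal, mem_nonunits_iff]
        change ψr (o i w) = 0 ↔ ¬ IsUnit (o i w)
        rw [hψ, isUnit_map_iff, ← RingHom.mem_ker, (rep i).ker_eq]
        rfl
      max_eq := by
        rw [← LocalLimit.map_maximalIdeal fr hloc hmax i₀, ← (rep i₀).max_eq, Ideal.map_map]
        rfl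
      b := b
      hb := fun y => by
        change ψr (o _ _) = _
        rw [hψ, (rep _).hb]
      ext' := fun C _ _ g₁ g₂ h => by
        apply AlgHom.ext
        intro z
        obtain ⟨i, w, rfl⟩ := Ring.DirectLimit.exists_of z
        refine AlgHom.congr_fun ((rep i).ext' C (g₁.comp (oA i)) (g₂.comp (oA i)) fun x => ?_) w
        have hx : x.1 ∈ Set.range ψ := by
          refine ⟨o i ((rep i).b x), ?_⟩
          change ψr _ = _
          rw [hψ, (rep i).hb]
        change g₁ (o i _) = g₂ (o i _)
        rw [hb' ⟨_, hx⟩ i x rfl]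
        exact h _ }
  refine ⟨U, fun S hS => ?_⟩
  let i : I := ⟨_, S, hS, rfl⟩
  refine (hle S hS _ (hrep i).1 (hrep i).2.ge).trans ⟨oA i, LocalLimit.flat_of fr hflat i, hψ i, fun x y h => hb' y i x h⟩

open Polynomial in
/-- One step extension along an algebra generated by one element. -/
theorem exists_le_of_generated (S : Stage A K) (R : Type u) [CommRing R] [Algebra A R]
    [Algebra S.B R] [IsScalarTower A S.B R] [Module.Flat S.B R]
    (φ : R →+* K) (hφ : φ.comp (algebraMap S.B R) = S.ψ.toRingHom)
    (hker : RingHom.ker φ = (maximalIdeal S.B).map (algebraMap S.B R))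
    (r : R) (hgen : Algebra.adjoin S.B {r} = ⊤) (hr : φ r ∉ Set.range S.ψ) :
    ∃ T : Stage A K, S ≤ T ∧ φ r ∈ Set.range T.ψ ∧
      (Module.Finite A S.B → Module.Finite S.B R → Module.Finite A T.B) := by
  classical
  let q := RingHom.ker φ
  have hq : q.IsPrime := RingHom.ker_isPrime φ
  let T := Localization.AtPrime q
  have hu : ∀ y : q.primeCompl, IsUnit (φ y) := fun y => (Ne.isUnit y.2)
  let ψ : T →ₐ[A] K :=
    { IsLocalization.lift (M := q.primeCompl) hu with
      commutes' := fun a => by
        change IsLocalization.lift (M := q.primeCompl) hu (algebraMap A T a) = _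
        rw [IsScalarTower.algebraMap_apply A R T, IsLocalization.lift_eq,
          IsScalarTower.algebraMap_apply A S.B R]
        exact (RingHom.congr_fun hφ _).trans (S.ψ.commutes a) }
  have hψ : ∀ z, ψ (algebraMap R T z) = φ z := fun z => IsLocalization.lift_eq hu z
  have hψS : ∀ z, ψ (algebraMap R T (algebraMap S.B R z)) = S.ψ z := fun z => (hψ _).trans (RingHom.congr_fun hφ z)
  have hflatA : Module.Flat A T :=
    have : Module.Flat A R := Module.Flat.trans A S.B R
    Module.Flat.trans A R T
  have hsub : ∀ y : Set.range S.ψ, y.1 ∈ Set.range ψ := fun y => ⟨_, (hψS _).trans (S.hb y)⟩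
  let b : Set.range ψ → T := fun y =>
    if h : y.1 ∈ Set.range S.ψ then algebraMap R T (algebraMap S.B R (S.b ⟨_, h⟩))
    else if y.1 = φ r then algebraMap R T r else y.2.choose
  let U : Stage A K :=
    { B := T
      flat := hflatA
      ψ := ψ
      ker_eq := by
        ext z
        obtain ⟨a, s, rfl⟩ := IsLocalization.exists_mk'_eq q.primeCompl z
        rw [RingHom.mem_ker, IsLocalization.AtPrime.mk'_mem_maximal_iff _ q a s]
        change IsLocalization.lift hu _ = 0 ↔ _
        rw [IsLocalization.lift_mk', Units.mul_left_eq_zero]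
        exact Iff.rfl
      max_eq := by
        have hq2 : (maximalIdeal A).map (algebraMap A R) = q := by
          rw [IsScalarTower.algebraMap_eq A S.B R, ← Ideal.map_map, S.max_eq]
          exact hker.symm
        refine Eq.trans ?_ (Localization.AtPrime.map_eq_maximalIdeal (I := q))
        rw [IsScalarTower.algebraMap_eq A R T, ← Ideal.map_map]
        exact congrArg (Ideal.map (algebraMap R T)) hq2
      b := b
      hb := fun y => by
        by_cases h : y.1 ∈ Set.range S.ψ
        · simp only [b, dif_pos h, hψS, S.hb]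
        · by_cases h2 : y.1 = φ r
          · simp only [b, dif_neg h]; rw [if_pos h2, hψ, h2]
          · simp only [b, dif_neg h, if_neg h2, y.2.choose_spec]
      ext' := fun C _ _ g₁ g₂ h => by
        have hS : ∀ z, g₁ (algebraMap R T (algebraMap S.B R z)) = g₂ (algebraMap R T (algebraMap S.B R z)) := by
          intro z
          refine AlgHom.congr_fun (S.ext' C (g₁.comp ((IsScalarTower.toAlgHom A R T).comp (IsScalarTower.toAlgHom A S.B R)))
            (g₂.comp ((IsScalarTower.toAlgHom A R T).comp (IsScalarTower.toAlgHom A S.B R))) fun y => ?_) z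
          have := h ⟨y.1, hsub y⟩
          simp only [b, dif_pos y.2] at this
          exact this
        apply AlgHom.coe_ringHom_injective
        apply IsLocalization.ringHom_ext q.primeCompl
        ext z
        have hz : z ∈ Algebra.adjoin S.B {r} := hgen ▸ Algebra.mem_top
        change g₁ (algebraMap R T z) = g₂ (algebraMap R T z)
        induction hz using Algebra.adjoin_induction with
        | mem x hx =>
          obtain rfl := Set.mem_singleton_iff.mp hx
          have := h ⟨φ x, _, hψ x⟩
          simp only [b, dif_neg hr, if_pos] at this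
          exact this
        | algebraMap s => exact hS s
        | add x y _ _ hx hy => simp only [map_add, hx, hy]
        | mul x y _ _ hx hy => simp only [map_mul, hx, hy] }
  refine ⟨U, ⟨(IsScalarTower.toAlgHom A R T).comp (IsScalarTower.toAlgHom A S.B R), ?_, hψS, ?_⟩,
    ⟨_, hψ r⟩, ?_⟩
  · exact RingHom.Flat.comp (RingHom.flat_algebraMap_iff.mpr inferInstance)
      (RingHom.flat_algebraMap_iff.mpr inferInstance)
  · intro x y h
    have hy : y.1 ∈ Set.range S.ψ := h ▸ x.2
    change _ = b y
    simp only [b, dif_pos hy]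
    rw [show x = ⟨y.1, hy⟩ from Subtype.ext h]
    rfl
  · intro hfinS hfin
    have : Module.Finite A R := Module.Finite.trans S.B R
    have : Algebra.IsIntegral S.B R := Algebra.IsIntegral.of_finite S.B R
    have hcomap : q.comap (algebraMap S.B R) = maximalIdeal S.B := by
      rw [← S.ker_eq, RingHom.comap_ker, hφ]; rfl
    have hqmax : q.IsMaximal := Ideal.isMaximal_of_isIntegral_of_isMaximal_comap q (by rw [hcomap]; infer_instance)
    have hunit : ∀ y : q.primeCompl, IsUnit (y : R) := by
      intro y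
      by_contra hy
      obtain ⟨m, hm, hym⟩ := exists_max_ideal_of_mem_nonunits hy
      have h1 : m.comap (algebraMap S.B R) = maximalIdeal S.B :=
        IsLocalRing.eq_maximalIdeal (Ideal.isMaximal_comap_of_isIntegral_of_isMaximal m)
      have h2 : q ≤ m := hker.le.trans (Ideal.map_le_iff_le_comap.mpr h1.ge)
      exact y.2 (hqmax.eq_of_le hm.ne_top h2 ▸ hym)
    change Module.Finite A T
    exact Module.Finite.of_surjective (IsScalarTower.toAlgHom A R T).toLinearMap
      (IsLocalization.atUnits R q.primeCompl (S := T) fun y hy => hunit ⟨y, hy⟩).surjective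

open Polynomial in
theorem exists_le_mem (S : Stage A K) (x : K) :
    ∃ T : Stage A K, S ≤ T ∧ x ∈ Set.range T.ψ ∧
      (IsIntegral A x → Module.Finite A S.B → Module.Finite A T.B) := by
  classical
  by_cases hx : x ∈ Set.range S.ψ
  · exact ⟨S, le_rfl, hx, fun _ h => h⟩
  let _ : Algebra (ResidueField S.B) K :=
    (Ideal.Quotient.lift (maximalIdeal S.B) S.ψ.toRingHom fun z hz =>
      RingHom.mem_ker.mp (S.ker_eq.symm ▸ hz : z ∈ RingHom.ker S.ψ)).toAlgebra
  have hres : ∀ z, algebraMap (ResidueField S.B) K (residue S.B z) = S.ψ z := fun z => rfl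
  by_cases halg : IsIntegral (ResidueField S.B) x
  · have hl : minpoly (ResidueField S.B) x ∈ lifts (residue S.B) :=
      Polynomial.map_surjective (residue S.B) residue_surjective _
    obtain ⟨P, hP, -, hPm⟩ := lifts_and_degree_eq_and_monic hl (minpoly.monic halg)
    have h0 : P.eval₂ S.ψ.toRingHom x = 0 := by
      rw [show S.ψ.toRingHom = (algebraMap (ResidueField S.B) K).comp (residue S.B) from RingHom.ext fun z => (hres z).symm,
        ← eval₂_map, hP, ← aeval_def, minpoly.aeval]
    have : Module.Free S.B (AdjoinRoot P) := Module.Free.of_basis (AdjoinRoot.powerBasis' hPm).basis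
    have hfinR : Module.Finite S.B (AdjoinRoot P) := (AdjoinRoot.powerBasis' hPm).finite
    obtain ⟨T, h1, h2, h3⟩ := exists_le_of_generated S (AdjoinRoot P) (AdjoinRoot.lift S.ψ.toRingHom x h0)
      (RingHom.ext fun z => AdjoinRoot.lift_of h0) (by
        refine le_antisymm ?_ (Ideal.map_le_iff_le_comap.mpr fun z hz => ?_)
        · intro z hz
          obtain ⟨g, rfl⟩ := AdjoinRoot.mk_surjective z
          rw [RingHom.mem_ker, AdjoinRoot.lift_mk] at hz
          have hg : aeval x (g.map (residue S.B)) = 0 := by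
            rw [aeval_def, eval₂_map]; exact hz
          obtain ⟨h', hh'⟩ := minpoly.dvd _ _ hg
          obtain ⟨h, rfl⟩ := Polynomial.map_surjective (residue S.B) residue_surjective h'
          have : g - P * h ∈ RingHom.ker (mapRingHom (residue S.B)) := by
            rw [RingHom.mem_ker, coe_mapRingHom, Polynomial.map_sub, Polynomial.map_mul, hP, hh', sub_self]
          rw [ker_mapRingHom, IsLocalRing.ker_residue] at this
          have h4 := Ideal.mem_map_of_mem (AdjoinRoot.mk P) this
          rw [map_sub, map_mul, AdjoinRoot.mk_self, zero_mul, sub_zero, Ideal.map_map] at h4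
          exact h4
        · rw [Ideal.mem_comap, RingHom.mem_ker, AdjoinRoot.algebraMap_eq, AdjoinRoot.lift_of h0]
          exact RingHom.mem_ker.mp (S.ker_eq.symm ▸ hz : z ∈ RingHom.ker S.ψ))
      (AdjoinRoot.root P) AdjoinRoot.adjoinRoot_eq_top (by rwa [AdjoinRoot.lift_root])
    rw [AdjoinRoot.lift_root] at h2
    exact ⟨T, h1, h2, fun _ hS => h3 hS hfinR⟩
  · obtain ⟨T, h1, h2, -⟩ := exists_le_of_generated S (Polynomial S.B) (eval₂RingHom S.ψ.toRingHom x)
      (RingHom.ext fun z => eval₂_C _ _) (by
        refine le_antisymm ?_ (Ideal.map_le_iff_le_comap.mpr fun z hz => ?_)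
        · intro g hg
          rw [RingHom.mem_ker, coe_eval₂RingHom] at hg
          have h3 : aeval x (g.map (residue S.B)) = 0 := by
            rw [aeval_def, eval₂_map]; exact hg
          have h4 : g.map (residue S.B) = 0 := by
            by_contra hne
            exact halg (isAlgebraic_iff_isIntegral.mp ⟨_, hne, h3⟩)
          have : g ∈ RingHom.ker (mapRingHom (residue S.B)) := h4
          rwa [ker_mapRingHom, IsLocalRing.ker_residue] at this
        · rw [Ideal.mem_comap, RingHom.mem_ker, coe_eval₂RingHom, algebraMap_eq, eval₂_C]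
          exact RingHom.mem_ker.mp (S.ker_eq.symm ▸ hz : z ∈ RingHom.ker S.ψ))
      X Polynomial.adjoin_X (by rwa [coe_eval₂RingHom, eval₂_X])
    rw [coe_eval₂RingHom, eval₂_X] at h2
    refine ⟨T, h1, h2, fun hint _ => absurd ?_ halg⟩
    obtain ⟨p, hp, hp0⟩ := hint
    refine ⟨p.map ((residue S.B).comp (algebraMap A S.B)), hp.map _, ?_⟩
    rw [eval₂_map]
    convert hp0 using 2
    exact RingHom.ext fun a => (hres _).trans (S.ψ.commutes a)

variable (A K) in
theorem exists_flat_extension (hA : RingHom.ker (algebraMap A K) = maximalIdeal A) :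
    ∃ (B : Type u) (_ : CommRing B) (_ : Algebra A B), IsLocalRing B ∧
      IsLocalHom (algebraMap A B) ∧ Module.Flat A B ∧ ∃ ψ : B →ₐ[A] K, Function.Surjective ψ ∧
        RingHom.ker ψ = (maximalIdeal A).map (algebraMap A B) := by
  have := nonempty_stage hA
  obtain ⟨S, hS⟩ := zorn_le_nonempty (α := Stage A K) (fun c hc hne => bddAbove_chain c hc hne)
  refine ⟨S.B, S.cring, S.alg, S.loc, ((local_hom_TFAE _).out 2 0).mp S.max_eq.le, S.flat,
    S.ψ, fun x => ?_, S.ker_eq.trans S.max_eq.symm⟩
  obtain ⟨T, hST, hx, -⟩ := exists_le_mem S x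
  exact range_mono (hS hST) hx

end Groth.Agent.CAlgLib.ResidueExtGen
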