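import Mathlib

/-!
# Matrices of determinant one over a local ring

A subgroup of `GL n R`, `R` local, containing the commutators and the transvections contains every
matrix of determinant one.
-/

set_option autoImplicit false

universe u

namespace Groth.Agent.CAlgLib.SLGen

open Matrix

variable {R : Type u} [CommRing R] {n : ℕ}

/-- being (the matrix of) an element of the subgroup `K` -/
def Good (K : Subgroup (Matrix.GeneralLinearGroup (Fin n) R)) (M : Matrix (Fin n) (Fin n) R) : Prop :=
  ∃ g ∈ K, (g : Matrix (Fin n) (Fin n) R) = M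

variable {K : Subgroup (Matrix.GeneralLinearGroup (Fin n) R)}

theorem Good.one : Good K (1 : Matrix (Fin n) (Fin n) R) := ⟨1, one_mem _, rfl⟩

theorem Good.mul {M N : Matrix (Fin n) (Fin n) R} (hM : Good K M) (hN : Good K N) : Good K (M * N) := by
  obtain ⟨g, hg, rfl⟩ := hM
  obtain ⟨h, hh, rfl⟩ := hN
  exact ⟨g * h, mul_mem hg hh, rfl⟩

theorem Good.cancel_left {U M : Matrix (Fin n) (Fin n) R} (hU : Good K U) (h : Good K (U * M)) : Good K M := by
  obtain ⟨g, hg, rfl⟩ := hU
  obtain ⟨k, hk, hk'⟩ := h
  refine ⟨g⁻¹ * k, mul_mem (inv_mem hg) hk, ?_⟩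
  rw [Units.val_mul, hk', ← mul_assoc, ← Units.val_mul, inv_mul_cancel, Units.val_one, one_mul]

theorem Good.cancel_right {U M : Matrix (Fin n) (Fin n) R} (hU : Good K U) (h : Good K (M * U)) : Good K M := by
  obtain ⟨g, hg, rfl⟩ := hU
  obtain ⟨k, hk, hk'⟩ := h
  refine ⟨k * g⁻¹, mul_mem hk (inv_mem hg), ?_⟩
  rw [Units.val_mul, hk', mul_assoc, ← Units.val_mul, mul_inv_cancel, Units.val_one, mul_one]

/-- diagonal matrices as units -/
def Dg : (Fin n → Rˣ) →* Matrix.GeneralLinearGroup (Fin n) R where
  toFun d := ⟨diagonal fun i => (d i : R), diagonal fun i => ((d i)⁻¹ : Rˣ),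
    by rw [diagonal_mul_diagonal]; simp, by rw [diagonal_mul_diagonal]; simp⟩
  map_one' := by ext1; simp
  map_mul' d e := by ext1; simp [diagonal_mul_diagonal]

theorem Dg_coe (d : Fin n → Rˣ) : (Dg d : Matrix (Fin n) (Fin n) R) = diagonal fun i => (d i : R) := rfl

/-- transvections as units -/
def El (i j : Fin n) (h : i ≠ j) (c : R) : Matrix.GeneralLinearGroup (Fin n) R :=
  ⟨transvection i j c, transvection i j (-c),
    by rw [transvection_mul_transvection_same i j h, add_neg_cancel, transvection_zero],
    by rw [transvection_mul_transvection_same i j h, neg_add_cancel, transvection_zero]⟩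

theorem good_diag (hcomm : commutator (Matrix.GeneralLinearGroup (Fin n) R) ≤ K) (d : Fin n → Rˣ) (hd : ∏ i, d i = 1) : Good K (diagonal fun i => (d i : R)) := by
  classical
  rcases n.eq_zero_or_pos with hn | hn
  · subst hn
    exact ⟨1, one_mem _, Subsingleton.elim _ _⟩
  let i0 : Fin n := ⟨0, hn⟩
  refine ⟨Dg d, ?_, Dg_coe d⟩
  have hdec : d = ∏ i, (Pi.mulSingle i (d i) * Pi.mulSingle i0 (d i)⁻¹) := by
    rw [Finset.prod_mul_distrib, Finset.univ_prod_mulSingle]
    have : ∏ i, (Pi.mulSingle i0 (d i)⁻¹ : Fin n → Rˣ) = Pi.mulSingle i0 (∏ i, (d i)⁻¹) :=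
      (map_prod (MonoidHom.mulSingle (fun _ : Fin n => Rˣ) i0) _ _).symm
    rw [this, Finset.prod_inv_distrib, hd, inv_one, Pi.mulSingle_one, mul_one]
  rw [hdec]
  refine Subgroup.mem_comap.mp (Subgroup.prod_mem _ fun i _ => Subgroup.mem_comap.mpr ?_)
  by_cases hi : i = i0
  · subst hi
    rw [← Pi.mulSingle_mul, mul_inv_cancel, Pi.mulSingle_one, map_one]
    exact one_mem _
  let σ := Equiv.swap i i0
  let P : Matrix.GeneralLinearGroup (Fin n) R := ⟨σ.permMatrix R, σ.permMatrix R, by rw [← permMatrix_mul]; simp [σ],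
    by rw [← permMatrix_mul]; simp [σ]⟩
  let e : Fin n → Rˣ := Pi.mulSingle i (d i)
  have hconj : P * Dg e⁻¹ * P⁻¹ = Dg (Pi.mulSingle i0 (d i)⁻¹) := by
    rw [mul_inv_eq_iff_eq_mul]
    ext1
    simp only [Units.val_mul, Dg_coe]
    ext k l
    show (σ.permMatrix R * (diagonal _ : Matrix (Fin n) (Fin n) R)) k l = ((diagonal _ : Matrix (Fin n) (Fin n) R) * σ.permMatrix R) k l
    rw [mul_diagonal, diagonal_mul, Equiv.Perm.permMatrix, PEquiv.toMatrix_apply]
    by_cases hkl : σ k = l
    · subst hkl
      simp only [Equiv.toPEquiv_apply, Option.mem_def, if_true, one_mul, mul_one, e]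
      congr 1
      rcases eq_or_ne k i0 with rfl | hk0
      · simp [σ]
      · rcases eq_or_ne k i with rfl | hk
        · simp [σ, hi, Ne.symm hi]
        · simp [σ, Equiv.swap_apply_of_ne_of_ne hk hk0, hk, hk0]
    · simp [Equiv.toPEquiv_apply, hkl]
  rw [map_mul, ← hconj, map_inv, ← mul_assoc, ← mul_assoc]
  exact hcomm (Subgroup.commutator_mem_commutator (Subgroup.mem_top _) (Subgroup.mem_top _))

theorem good_col (ha : ∀ (i j : Fin n), i ≠ j → ∀ c : R, Good K (transvection i j c)) (j : Fin n) (v : Fin n → R) :
    ∀ T : Finset (Fin n), j ∉ T → Good K (1 + ∑ i ∈ T, single i j (v i)) := by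
  intro T
  induction T using Finset.induction_on with
  | empty => intro _; simpa using (Good.one (K := K))
  | insert i T hi ih =>
    intro hj
    rw [Finset.mem_insert, not_or] at hj
    have := (ih hj.2).mul (ha i j (Ne.symm hj.1) (v i))
    have h0 : ∀ k, single k j (v k) * single i j (v i) = (0 : Matrix (Fin n) (Fin n) R) :=
      fun k => single_mul_single_of_ne _ k j i hj.1 _
    rw [transvection, add_mul, one_mul, mul_add, mul_one, Finset.sum_mul] at this
    simp only [h0, Finset.sum_const_zero, add_zero] at this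
    rw [Finset.sum_insert hi]
    convert this using 1
    abel

theorem good_row (ha : ∀ (i j : Fin n), i ≠ j → ∀ c : R, Good K (transvection i j c)) (j : Fin n) (v : Fin n → R) :
    ∀ T : Finset (Fin n), j ∉ T → Good K (1 + ∑ i ∈ T, single j i (v i)) := by
  intro T
  induction T using Finset.induction_on with
  | empty => intro _; simpa using (Good.one (K := K))
  | insert i T hi ih =>
    intro hj
    rw [Finset.mem_insert, not_or] at hj
    have := (ha j i hj.1 (v i)).mul (ih hj.2)
    have h0 : ∀ k, single j i (v i) * single j k (v k) = (0 : Matrix (Fin n) (Fin n) R) :=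
      fun k => single_mul_single_of_ne _ j i j (Ne.symm hj.1) _
    rw [transvection, add_mul, one_mul, mul_add, mul_one, Finset.mul_sum] at this
    simp only [h0, Finset.sum_const_zero, add_zero] at this
    rw [Finset.sum_insert hi]
    convert this using 1
    abel

theorem det_unipotent_col (j : Fin n) (v : Fin n → R) :
    (1 + ∑ l ∈ Finset.univ.erase j, single l j (v l) : Matrix (Fin n) (Fin n) R).det = 1 := by
  classical
  suffices h : ∀ T : Finset (Fin n), j ∉ T → (1 + ∑ l ∈ T, single l j (v l) : Matrix (Fin n) (Fin n) R).det = 1 from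
    h _ (Finset.notMem_erase _ _)
  intro T
  induction T using Finset.induction_on with
  | empty => intro _; simp
  | insert i T hi ih =>
    intro hj
    rw [Finset.mem_insert, not_or] at hj
    have h0 : ∀ k, single k j (v k) * single i j (v i) = (0 : Matrix (Fin n) (Fin n) R) :=
      fun k => single_mul_single_of_ne _ k j i hj.1 _
    have : (1 + ∑ l ∈ insert i T, single l j (v l) : Matrix (Fin n) (Fin n) R) =
        (1 + ∑ l ∈ T, single l j (v l)) * transvection i j (v i) := by
      rw [transvection, add_mul, one_mul, mul_add, mul_one, Finset.sum_mul]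
      simp only [h0, Finset.sum_const_zero, add_zero]
      rw [Finset.sum_insert hi]
      abel
    rw [this, det_mul, ih hj.2, det_transvection_of_ne _ _ (Ne.symm hj.1), mul_one]

theorem det_unipotent_row (j : Fin n) (v : Fin n → R) :
    (1 + ∑ l ∈ Finset.univ.erase j, single j l (v l) : Matrix (Fin n) (Fin n) R).det = 1 := by
  rw [← det_transpose, transpose_add, transpose_one, transpose_sum]
  simp only [transpose_single]
  exact det_unipotent_col j v

theorem mul_col_apply (j : Fin n) (v : Fin n → R) (M : Matrix (Fin n) (Fin n) R) (i k : Fin n) :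
    ((1 + ∑ l ∈ Finset.univ.erase j, single l j (v l)) * M : Matrix _ _ R) i k =
      M i k + (if i = j then 0 else v i * M j k) := by
  classical
  rw [add_mul, one_mul, Finset.sum_mul, Matrix.add_apply, Matrix.sum_apply]
  congr 1
  split_ifs with h
  · refine Finset.sum_eq_zero fun l hl => single_mul_apply_of_ne _ l j i k ?_ M
    exact h ▸ Ne.symm (Finset.ne_of_mem_erase hl)
  · rw [Finset.sum_eq_single i (fun l _ hl => single_mul_apply_of_ne _ l j i k (Ne.symm hl) M)
      (fun hi => absurd (Finset.mem_erase.mpr ⟨h, Finset.mem_univ _⟩) hi), single_mul_apply_same]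

theorem mul_row_apply (j : Fin n) (v : Fin n → R) (M : Matrix (Fin n) (Fin n) R) (i k : Fin n) :
    (M * (1 + ∑ l ∈ Finset.univ.erase j, single j l (v l)) : Matrix _ _ R) i k =
      M i k + (if k = j then 0 else M i j * v k) := by
  classical
  rw [mul_add, mul_one, Finset.mul_sum, Matrix.add_apply, Matrix.sum_apply]
  congr 1
  split_ifs with h
  · refine Finset.sum_eq_zero fun l hl => mul_single_apply_of_ne _ j l i k ?_ M
    exact h ▸ Ne.symm (Finset.ne_of_mem_erase hl)
  · rw [Finset.sum_eq_single k (fun l _ hl => mul_single_apply_of_ne _ j l i k (Ne.symm hl) M)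
      (fun hk => absurd (Finset.mem_erase.mpr ⟨h, Finset.mem_univ _⟩) hk), mul_single_apply_same]

theorem good_of_det [IsLocalRing R] (hcomm : commutator (Matrix.GeneralLinearGroup (Fin n) R) ≤ K) (ha : ∀ (i j : Fin n), i ≠ j → ∀ c : R, Good K (transvection i j c)) :
    ∀ (m : ℕ) (S : Finset (Fin n)), n - S.card = m → ∀ M : Matrix (Fin n) (Fin n) R, M.det = 1 →
      (∀ k ∈ S, ∀ i, i ≠ k → M i k = 0 ∧ M k i = 0) → Good K M := by
  classical
  intro m
  induction m with
  | zero =>
    intro S hS M hdet hM
    have hSu : S = Finset.univ := (Finset.card_eq_iff_eq_univ _).mp (by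
      have := S.card_le_univ
      simp only [Fintype.card_fin] at this ⊢
      omega)
    have hdiag : M = diagonal fun i => M i i := by
      ext i k
      by_cases h : i = k
      · subst h; simp
      · rw [diagonal_apply_ne _ h]; exact (hM k (by simp [hSu]) i h).1
    have hprod : ∏ i, M i i = 1 := by rw [hdiag, det_diagonal] at hdet; exact hdet
    have hu : ∀ i, IsUnit (M i i) := fun i => isUnit_of_dvd_one (hprod ▸ Finset.dvd_prod_of_mem _ (Finset.mem_univ i))
    let d : Fin n → Rˣ := fun i => (hu i).unit
    have := good_diag (K := K) hcomm d (Units.ext (by simp [d, hprod]))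
    rw [hdiag]
    exact this
  | succ m ih =>
    intro S hS M hdet hM
    obtain ⟨j, hjS⟩ : ∃ j, j ∉ S := by
      by_contra hcon
      push_neg at hcon
      rw [Finset.eq_univ_of_forall hcon, Finset.card_univ, Fintype.card_fin] at hS
      omega
    suffices key : ∀ N : Matrix (Fin n) (Fin n) R, N.det = 1 → (∀ k ∈ S, ∀ i, i ≠ k → N i k = 0 ∧ N k i = 0) →
        IsUnit (N j j) → Good K N by
      by_cases hu : IsUnit (M j j)
      · exact key M hdet hM hu
      · obtain ⟨i, hi⟩ : ∃ i, IsUnit (M i j) := by
          by_contra hcon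
          push_neg at hcon
          have : (M.map (IsLocalRing.residue R)).det = 0 := det_eq_zero_of_column_eq_zero j fun i => by
            rw [map_apply, IsLocalRing.residue_eq_zero_iff]
            exact hcon i
          rw [← RingHom.mapMatrix_apply, ← RingHom.map_det, hdet, map_one] at this
          exact one_ne_zero this
        have hij : j ≠ i := fun h => hu (h ▸ hi)
        refine (ha j i hij 1).cancel_left (key _ (by rw [det_mul, det_transvection_of_ne _ _ hij, hdet, one_mul]) ?_ ?_)
        · intro k hk l hl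
          have hkj : k ≠ j := fun h => hjS (h ▸ hk)
          have hik : i ≠ k := fun h => not_isUnit_zero ((hM k hk j hkj.symm).2 ▸ h ▸ hi)
          refine ⟨?_, ?_⟩
          · by_cases hlj : l = j
            · subst hlj
              rw [transvection_mul_apply_same, (hM k hk _ hl).1, (hM k hk i hik).1]; ring
            · rw [transvection_mul_apply_of_ne _ _ _ _ hlj, (hM k hk l hl).1]
          · rw [transvection_mul_apply_of_ne _ _ _ _ hkj, (hM k hk l hl).2]
        · rw [transvection_mul_apply_same, one_mul]
          by_contra h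
          exact IsLocalRing.nonunits_add h (show -M j j ∈ nonunits R from fun h' => hu (by simpa using h'.neg)) (by simpa using hi)
    intro N hN hNS hu
    obtain ⟨u, hu⟩ := hu
    let v : Fin n → R := fun i => -(N i j * ↑u⁻¹)
    let w : Fin n → R := fun k => -((↑u⁻¹ : R) * N j k)
    let U : Matrix (Fin n) (Fin n) R := 1 + ∑ l ∈ Finset.univ.erase j, single l j (v l)
    let V : Matrix (Fin n) (Fin n) R := 1 + ∑ l ∈ Finset.univ.erase j, single j l (w l)
    have hU : Good K U := good_col ha j v _ (Finset.notMem_erase _ _)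
    have hV : Good K V := good_row ha j w _ (Finset.notMem_erase _ _)
    have hdU : U.det = 1 := det_unipotent_col j v
    have hdV : V.det = 1 := det_unipotent_row j w
    refine hU.cancel_left (hV.cancel_right (ih (insert j S) (by rw [Finset.card_insert_of_notMem hjS]; omega) _
      (by rw [det_mul, det_mul, hdU, hdV, hN]; ring) ?_))
    have h1 : ∀ i, i ≠ j → (U * N) i j = 0 := fun i hi => by
      rw [mul_col_apply, if_neg hi]
      simp only [v, ← hu]
      linear_combination (-N i j) * (Units.inv_mul u)
    have h2 : (U * N) j j = N j j := by rw [mul_col_apply, if_pos rfl, add_zero]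
    intro k hk i hik
    rcases Finset.mem_insert.mp hk with hkj | hkS
    · subst hkj
      refine ⟨?_, ?_⟩
      · rw [mul_row_apply, if_pos rfl, add_zero]; exact h1 i hik
      · rw [mul_row_apply, if_neg hik, h2, mul_col_apply, if_pos rfl, add_zero]
        simp only [w, ← hu]
        linear_combination (-N k i) * (Units.mul_inv u)
    · have hkj : k ≠ j := fun h => hjS (h ▸ hkS)
      have hvk : N k j = 0 := (hNS k hkS j hkj.symm).2
      have hwk : N j k = 0 := (hNS k hkS j hkj.symm).1
      refine ⟨?_, ?_⟩
      · rw [mul_row_apply, if_neg hkj, mul_col_apply, mul_col_apply]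
        simp [hwk, (hNS k hkS i hik).1, w]
      · rw [mul_row_apply, mul_col_apply, mul_col_apply]
        simp [hvk, (hNS k hkS i hik).2, v, hkj]

theorem mem_of_det_eq_one [IsLocalRing R] (hcomm : commutator (Matrix.GeneralLinearGroup (Fin n) R) ≤ K)
    (ha : ∀ (i j : Fin n) (_ : i ≠ j) (c : R), ∃ g ∈ K, (g : Matrix (Fin n) (Fin n) R) = transvection i j c)
    (g : Matrix.GeneralLinearGroup (Fin n) R) (hg : (g : Matrix (Fin n) (Fin n) R).det = 1) : g ∈ K := by
  obtain ⟨k, hk, hkg⟩ := good_of_det hcomm ha n ∅ (by simp) _ hg (by simp)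
  rwa [← Units.ext hkg]

end Groth.Agent.CAlgLib.SLGen
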