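import Mathlib.RingTheory.Localization.AtPrime.Basic
import Mathlib.RingTheory.Localization.Away.Basic
import Mathlib.RingTheory.FinitePresentation
import Mathlib.RingTheory.RingHom.FinitePresentation
import Mathlib.RingTheory.Smooth.Basic

/-!
Spreading out an isomorphism of local rings along a finitely presented ring map.
-/

namespace Groth.Agent.CAlgLib.Spread

universe u

variable {S T : Type u} [CommRing S] [CommRing T] [Algebra S T]

/-- A finitely presented map which is an isomorphism on local rings at `q` is an isomorphism on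
basic open neighbourhoods. -/
theorem exists_away_equiv [Algebra.FinitePresentation S T] (q : Ideal T) [q.IsPrime] (p : Ideal S) [p.IsPrime]
    [q.LiesOver p]
    (hbij : Function.Bijective (Localization.localRingHom p q (algebraMap S T) (q.over_def p))) :
    ∃ (h : S) (h' : T), h ∉ p ∧ h' ∉ q ∧
      Nonempty (Localization.Away h ≃ₐ[S] Localization.Away h') := by
  classical
  let φ := Localization.localRingHom p q (algebraMap S T) (q.over_def p)
  have hp : ∀ s : S, s ∉ p → algebraMap S T s ∉ q := fun s hs hq => hs (by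
    rw [q.over_def p]; exact hq)
  have stepA : ∀ x : T, ∃ (a s : S) (u : T), s ∉ p ∧ u ∉ q ∧ u * (x * algebraMap S T s - algebraMap S T a) = 0 := by
    intro x
    obtain ⟨z, hz⟩ := hbij.2 (algebraMap T _ x)
    obtain ⟨a, s, rfl⟩ := IsLocalization.exists_mk'_eq p.primeCompl z
    rw [Localization.localRingHom_mk', IsLocalization.mk'_eq_iff_eq_mul, ← map_mul] at hz
    obtain ⟨u, hu⟩ := (IsLocalization.eq_iff_exists q.primeCompl _).mp hz
    exact ⟨a, s, u, s.2, u.2, by rw [mul_sub, ← hu, sub_self]⟩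
  choose a s u hs hu hau using stepA
  obtain ⟨G, hG⟩ := Algebra.FiniteType.out (R := S) (A := T)
  let s₀ : S := ∏ x ∈ G, s x
  let U : T := ∏ x ∈ G, u x
  have hs₀ : s₀ ∉ p := fun h => by
    obtain ⟨x, -, hx⟩ := (Ideal.IsPrime.prod_mem_iff (p := p)).mp h; exact hs x hx
  have hU : U ∉ q := fun h => by
    obtain ⟨x, -, hx⟩ := (Ideal.IsPrime.prod_mem_iff (p := q)).mp h; exact hu x hx
  let V₀ : T := algebraMap S T s₀ * U
  have hV₀ : V₀ ∉ q := q.primeCompl.mul_mem (hp _ hs₀) hU
  let T₀ := Localization.Away V₀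
  have hrange0 : ∀ x : T, ∃ (c : S) (k : ℕ), algebraMap T T₀ (x * algebraMap S T s₀ ^ k) = algebraMap T T₀ (algebraMap S T c) := by
    intro x
    have hx : x ∈ Algebra.adjoin S (G : Set T) := hG ▸ Algebra.mem_top
    induction hx using Algebra.adjoin_induction with
    | mem x hx =>
      refine ⟨a x * ∏ y ∈ G.erase x, s y, 1, ?_⟩
      have hu1 : IsUnit (algebraMap T T₀ (u x)) :=
        IsLocalization.Away.isUnit_of_dvd (x := V₀)
          (dvd_mul_of_dvd_right (Finset.dvd_prod_of_mem u hx) _)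
      have h1 : algebraMap T T₀ (x * algebraMap S T (s x)) = algebraMap T T₀ (algebraMap S T (a x)) := by
        rw [← sub_eq_zero, ← map_sub]
        apply hu1.mul_right_eq_zero.mp
        rw [← map_mul, hau, map_zero]
      rw [pow_one, show s₀ = s x * ∏ y ∈ G.erase x, s y from (Finset.mul_prod_erase G s hx).symm]
      rw [map_mul (algebraMap S T), ← mul_assoc, map_mul, h1, ← map_mul, ← map_mul]
    | algebraMap c => exact ⟨c, 0, by simp⟩
    | add x y _ _ hx hy =>
      obtain ⟨c, k, hc⟩ := hx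
      obtain ⟨d, l, hd⟩ := hy
      refine ⟨c * s₀ ^ l + d * s₀ ^ k, k + l, ?_⟩
      simp only [map_add, map_mul, map_pow, add_mul, pow_add] at hc hd ⊢
      linear_combination algebraMap T T₀ (algebraMap S T s₀) ^ l * hc + algebraMap T T₀ (algebraMap S T s₀) ^ k * hd
    | mul x y _ _ hx hy =>
      obtain ⟨c, k, hc⟩ := hx
      obtain ⟨d, l, hd⟩ := hy
      refine ⟨c * d, k + l, ?_⟩
      rw [show x * y * algebraMap S T s₀ ^ (k + l) = (x * algebraMap S T s₀ ^ k) * (y * algebraMap S T s₀ ^ l) by ring,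
        map_mul, hc, hd, ← map_mul, ← map_mul]
  obtain ⟨c, k, hc⟩ := hrange0 V₀
  have hcp : c ∉ p := by
    intro hcp
    obtain ⟨⟨_, n, rfl⟩, hn⟩ := (IsLocalization.eq_iff_exists (Submonoid.powers V₀) T₀).mp hc
    have h2 : algebraMap S T c ∈ q := by
      have := hcp
      rwa [q.over_def p] at this
    have h1 : V₀ ^ n * (V₀ * algebraMap S T s₀ ^ k) ∈ q := hn ▸ Ideal.mul_mem_left _ _ h2
    exact q.primeCompl.mul_mem (q.primeCompl.pow_mem hV₀ n) (q.primeCompl.mul_mem hV₀ (q.primeCompl.pow_mem (hp _ hs₀) k)) h1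
  let h₁ : S := s₀ * c
  let h₁' : T := algebraMap S T h₁ * U
  have hh₁ : h₁ ∉ p := p.primeCompl.mul_mem hs₀ hcp
  have hh₁' : h₁' ∉ q := q.primeCompl.mul_mem (hp _ hh₁) hU
  -- the map for any multiple
  have build : ∀ d : S, ∃ f : Localization.Away (h₁ * d) →ₐ[S] Localization.Away (h₁' * algebraMap S T d),
      Function.Surjective f := by
    intro d
    have hunit : IsUnit (algebraMap S (Localization.Away (h₁' * algebraMap S T d)) (h₁ * d)) := by
      rw [IsScalarTower.algebraMap_apply S T]
      refine IsLocalization.Away.isUnit_of_dvd (x := h₁' * algebraMap S T d) ?_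
      change algebraMap S T (h₁ * d) ∣ _
      rw [map_mul (algebraMap S T) h₁ d]
      exact mul_dvd_mul_right (dvd_mul_right _ _) _
    refine ⟨IsLocalization.Away.liftAlgHom (h₁ * d) (f := Algebra.ofId S _) hunit, fun z => ?_⟩
    let Td := Localization.Away (h₁' * algebraMap S T d)
    let f := IsLocalization.Away.liftAlgHom (S := Localization.Away (h₁ * d)) (h₁ * d) (f := Algebra.ofId S Td) hunit
    have hfS : ∀ r : S, f (algebraMap S _ r) = algebraMap T Td (algebraMap S T r) := fun r =>
      (f.commutes r).trans (IsScalarTower.algebraMap_apply S T Td r)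
    have hs₀d : ∃ w, f w * algebraMap T Td (algebraMap S T s₀) = 1 := by
      obtain ⟨w, hw⟩ := ((IsLocalization.Away.algebraMap_isUnit (S := Localization.Away (h₁ * d)) (h₁ * d)).map f).exists_left_inv
      refine ⟨algebraMap S _ (c * d) * IsLocalization.Away.invSelf (h₁ * d), ?_⟩
      rw [map_mul, hfS, mul_right_comm, ← map_mul (algebraMap T Td), ← map_mul (algebraMap S T), show c * d * s₀ = h₁ * d by simp only [h₁]; ring,
        ← hfS, ← map_mul, IsLocalization.Away.mul_invSelf, map_one]
    obtain ⟨w₀, hw₀⟩ := hs₀d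
    have himg : ∀ x : T, algebraMap T Td x ∈ f.range := by
      intro x
      obtain ⟨e, l, he⟩ := hrange0 x
      refine ⟨algebraMap S _ e * w₀ ^ l, ?_⟩
      obtain ⟨⟨_, n, rfl⟩, hn⟩ := (IsLocalization.eq_iff_exists (Submonoid.powers V₀) T₀).mp he
      have hV₀u : IsUnit (algebraMap T Td V₀) := IsLocalization.Away.isUnit_of_dvd (x := h₁' * algebraMap S T d) (by
        refine dvd_mul_of_dvd_left ?_ _
        simp only [h₁', h₁, V₀, map_mul]
        exact mul_dvd_mul_right (dvd_mul_right _ _) _)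
      have h2 : algebraMap T Td (x * algebraMap S T s₀ ^ l) = algebraMap T Td (algebraMap S T e) := by
        have := congrArg (algebraMap T Td) hn
        simp only [map_mul, map_pow] at this ⊢
        exact (hV₀u.pow n).mul_left_cancel this
      change f _ = _
      rw [map_mul, map_pow, hfS, ← h2, map_mul, map_pow, mul_assoc, ← mul_pow, mul_comm _ (f w₀), hw₀, one_pow, mul_one]
    have hV' : ∃ w, f w * algebraMap T Td (h₁' * algebraMap S T d) = 1 := by
      have hkey : algebraMap T Td (h₁' * algebraMap S T d) * algebraMap T Td (algebraMap S T (s₀ ^ k)) =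
          f (algebraMap S _ (c * c * d)) := by
        rw [hfS, ← map_mul]
        obtain ⟨⟨_, n, rfl⟩, hn⟩ := (IsLocalization.eq_iff_exists (Submonoid.powers V₀) T₀).mp hc
        have hV₀u : IsUnit (algebraMap T Td (V₀ ^ n)) := by
          rw [map_pow]
          refine IsUnit.pow n (IsLocalization.Away.isUnit_of_dvd (x := h₁' * algebraMap S T d) ?_)
          refine dvd_mul_of_dvd_left ?_ _
          simp only [h₁', h₁, V₀, map_mul]
          exact mul_dvd_mul_right (dvd_mul_right _ _) _
        apply hV₀u.mul_left_cancel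
        rw [← map_mul, ← map_mul]
        congr 1
        dsimp only at hn
        simp only [h₁', h₁, V₀, map_mul, map_pow] at hn ⊢
        linear_combination (algebraMap S T c * algebraMap S T d) * hn
      have hu2 : IsUnit (algebraMap S (Localization.Away (h₁ * d)) (c * c * d)) := by
        have hu3 := IsLocalization.Away.algebraMap_isUnit (S := Localization.Away (h₁ * d)) (h₁ * d)
        simp only [h₁, map_mul, IsUnit.mul_iff] at hu3 ⊢
        exact ⟨⟨hu3.1.2, hu3.1.2⟩, hu3.2⟩
      obtain ⟨v, hv⟩ := hu2.exists_left_inv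
      refine ⟨v * algebraMap S _ (s₀ ^ k), ?_⟩
      rw [map_mul, mul_assoc, hfS, mul_comm (algebraMap T Td _) (algebraMap T Td (h₁' * _)), hkey, ← map_mul, hv, map_one]
    obtain ⟨w', hw'⟩ := hV'
    obtain ⟨x, ⟨_, n, rfl⟩, rfl⟩ := IsLocalization.exists_mk'_eq (Submonoid.powers (h₁' * algebraMap S T d)) z
    obtain ⟨y, hy⟩ := himg x
    refine ⟨y * w' ^ n, ?_⟩
    change f (y * w' ^ n) = _
    rw [eq_comm, IsLocalization.mk'_eq_iff_eq_mul, map_mul, map_pow, map_pow]
    have hy' : f y = algebraMap T Td x := hy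
    have hw2 : (f w') ^ n * algebraMap T Td (h₁' * algebraMap S T d) ^ n = 1 := by rw [← mul_pow, hw', one_pow]
    linear_combination (-1 : Td) * hy' - f y * hw2
  obtain ⟨f, hf⟩ := build 1
  have : Algebra.FinitePresentation S (Localization.Away (h₁ * 1)) := IsLocalization.Away.finitePresentation (h₁ * 1)
  have : Algebra.FinitePresentation S (Localization.Away (h₁' * algebraMap S T 1)) :=
    have : Algebra.FinitePresentation T (Localization.Away (h₁' * algebraMap S T 1)) := IsLocalization.Away.finitePresentation (h₁' * algebraMap S T 1)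
    Algebra.FinitePresentation.trans S T _
  obtain ⟨gens, hgens⟩ := Algebra.FinitePresentation.ker_fG_of_surjective f hf
  have hz : ∀ z ∈ gens, ∃ d : S, d ∉ p ∧ algebraMap S (Localization.Away (h₁ * 1)) d * z = 0 := by
    intro z hz
    have hz0 : f z = 0 := RingHom.mem_ker.mp (hgens ▸ Ideal.subset_span hz)
    obtain ⟨c', ⟨_, n, rfl⟩, rfl⟩ := IsLocalization.exists_mk'_eq (Submonoid.powers (h₁ * 1)) z
    have hc0 : algebraMap T (Localization.Away (h₁' * algebraMap S T 1)) (algebraMap S T c') = 0 := by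
      rw [← IsScalarTower.algebraMap_apply, ← f.commutes c', ← IsLocalization.mk'_spec _ c' (⟨_, n, rfl⟩ : Submonoid.powers (h₁ * 1)), map_mul, hz0, zero_mul]
    obtain ⟨⟨_, m, rfl⟩, hm⟩ := (IsLocalization.map_eq_zero_iff (Submonoid.powers (h₁' * algebraMap S T 1)) _ _).mp hc0
    have : φ (algebraMap S _ c') = 0 := by
      rw [Localization.localRingHom_to_map]
      refine (IsLocalization.map_eq_zero_iff q.primeCompl _ _).mpr ⟨⟨_, ?_⟩, hm⟩
      exact q.primeCompl.pow_mem (q.primeCompl.mul_mem hh₁' (hp 1 p.primeCompl.one_mem)) m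
    obtain ⟨d, hd⟩ := (IsLocalization.map_eq_zero_iff p.primeCompl _ _).mp (hbij.1 (this.trans (map_zero φ).symm))
    exact ⟨d, d.2, by rw [IsLocalization.mul_mk'_eq_mk'_of_mul, hd, IsLocalization.mk'_zero]⟩
  choose dd hdd hdz using hz
  let D : S := ∏ z ∈ gens.attach, dd z.1 z.2
  have hD : D ∉ p := fun h => by
    obtain ⟨z, -, hz⟩ := (Ideal.IsPrime.prod_mem_iff (p := p)).mp h; exact hdd _ _ hz
  have hkill : ∀ z, f z = 0 → algebraMap S _ D * z = 0 := by
    intro z hz
    have : z ∈ Ideal.span (gens : Set _) := hgens.symm ▸ RingHom.mem_ker.mpr hz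
    clear hz
    induction this using Submodule.span_induction with
    | mem y hy =>
      rw [show D = _ from (Finset.prod_erase_mul _ _ (Finset.mem_attach gens ⟨y, hy⟩)).symm, map_mul]
      linear_combination (algebraMap S (Localization.Away (h₁ * 1)) (∏ x ∈ gens.attach.erase ⟨y, hy⟩, dd x.1 x.2)) * hdz y hy
    | zero => rw [mul_zero]
    | add a b _ _ ha hb => rw [mul_add, ha, hb, add_zero]
    | smul a b _ hb => rw [smul_eq_mul, mul_left_comm, hb, mul_zero]
  obtain ⟨g, hg⟩ := build D
  refine ⟨h₁ * D, h₁' * algebraMap S T D, p.primeCompl.mul_mem hh₁ hD, q.primeCompl.mul_mem hh₁' (hp _ hD), ⟨AlgEquiv.ofBijective g ⟨?_, hg⟩⟩⟩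
  rw [injective_iff_map_eq_zero]
  intro z hz0
  obtain ⟨c', ⟨_, n, rfl⟩, rfl⟩ := IsLocalization.exists_mk'_eq (Submonoid.powers (h₁ * D)) z
  have hc0 : algebraMap T (Localization.Away (h₁' * algebraMap S T D)) (algebraMap S T c') = 0 := by
    rw [← IsScalarTower.algebraMap_apply, ← g.commutes c', ← IsLocalization.mk'_spec _ c' (⟨_, n, rfl⟩ : Submonoid.powers (h₁ * D)), map_mul, hz0, zero_mul]
  obtain ⟨⟨_, m, rfl⟩, hm⟩ := (IsLocalization.map_eq_zero_iff (Submonoid.powers (h₁' * algebraMap S T D)) _ _).mp hc0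
  have h3 : f (algebraMap S _ (D ^ m * c')) = 0 := by
    rw [f.commutes, IsScalarTower.algebraMap_apply S T (Localization.Away (h₁' * algebraMap S T 1)), IsLocalization.map_eq_zero_iff (Submonoid.powers (h₁' * algebraMap S T 1))]
    refine ⟨⟨_, m, rfl⟩, ?_⟩
    dsimp only at hm ⊢
    rw [map_one, mul_one, map_mul, map_pow, ← mul_assoc, ← mul_pow]
    exact hm
  have h4 := hkill _ h3
  rw [← map_mul] at h4
  obtain ⟨⟨_, l, rfl⟩, hl⟩ := (IsLocalization.map_eq_zero_iff (Submonoid.powers (h₁ * 1)) _ _).mp h4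
  rw [IsLocalization.mk'_eq_zero_iff]
  refine ⟨⟨_, l + m + 1, rfl⟩, ?_⟩
  dsimp only at hl ⊢
  linear_combination (D ^ l * h₁ ^ (m + 1)) * hl

end Groth.Agent.CAlgLib.Spread
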