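import Mathlib

/-!
# Balance of `Tor` for modules over a commutative ring

`CategoryTheory.Tor` derives in the second variable. With the functorial free resolution `Q` we compare
the bifunctors `(M, N) ↦ H_n (M ⊗ Q N)` and `(M, N) ↦ H_n (N ⊗ Q M)`: both satisfy the same dimension
shifting along the functorial presentation `0 → K M → F M → M → 0`.
-/

set_option autoImplicit false

universe u

open CategoryTheory CategoryTheory.Limits MonoidalCategory

namespace Groth.Agent.CAlgLib.TorBalance

/-! ## Homology at a degree seen through a map out of the chains -/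

section Homology

variable {V : Type*} [Category V] [Abelian V] {ι : Type*} {c : ComplexShape ι}
  (K : HomologicalComplex V c) (i : ι) {Y W : V} (p : K.X i ⟶ Y)

/-- The map from homology induced by `p`. -/
noncomputable def theta (hp : K.d (c.prev i) i ≫ p = 0) : K.homology i ⟶ Y :=
  (K.sc i).descHomology (K.iCycles i ≫ p) (by
    exact ((K.sc i).toCycles_i_assoc p).trans hp)

@[reassoc]
theorem π_theta (hp : K.d (c.prev i) i ≫ p = 0) : K.homologyπ i ≫ theta K i p hp = K.iCycles i ≫ p :=
  (K.sc i).π_descHomology _ _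

theorem theta_natural {L : HomologicalComplex V c} {Y' : V} (p' : L.X i ⟶ Y') (φ : K ⟶ L) (g : Y ⟶ Y')
    (hp : K.d (c.prev i) i ≫ p = 0) (hp' : L.d (c.prev i) i ≫ p' = 0) (h : φ.f i ≫ p' = p ≫ g) :
    HomologicalComplex.homologyMap φ i ≫ theta L i p' hp' = theta K i p hp ≫ g := by
  rw [← cancel_epi (K.homologyπ i), HomologicalComplex.homologyπ_naturality_assoc, π_theta,
    π_theta_assoc, HomologicalComplex.cyclesMap_i_assoc, h]

theorem mono_theta (hp : K.d (c.prev i) i ≫ p = 0)
    (hex : (ShortComplex.mk (K.d (c.prev i) i) p hp).Exact) : Mono (theta K i p hp) := by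
  refine Preadditive.mono_of_cancel_zero _ fun {A} x hx => ?_
  obtain ⟨A', π, hπ, z, hz⟩ := surjective_up_to_refinements_of_epi (K.homologyπ i) x
  have hz0 : (z ≫ K.iCycles i) ≫ p = 0 := by
    rw [Category.assoc, ← π_theta K i p hp, ← Category.assoc, ← hz, Category.assoc, hx, comp_zero]
  obtain ⟨A'', π', hπ', b, hb⟩ := hex.exact_up_to_refinements _ hz0
  have hzb : π' ≫ z = b ≫ K.toCycles (c.prev i) i := by
    rw [← cancel_mono (K.iCycles i), Category.assoc, Category.assoc, HomologicalComplex.toCycles_i]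
    exact hb
  rw [← cancel_epi π, ← cancel_epi π', comp_zero, comp_zero, hz, ← Category.assoc, hzb, Category.assoc,
    HomologicalComplex.toCycles_comp_homologyπ, comp_zero]

theorem exact_theta (hp : K.d (c.prev i) i ≫ p = 0) [Epi p] (j : Y ⟶ W)
    (h0 : theta K i p hp ≫ j = 0)
    (hker : ∀ {A : V} (a : A ⟶ K.X i), a ≫ p ≫ j = 0 → a ≫ K.d i (c.next i) = 0) :
    (ShortComplex.mk (theta K i p hp) j h0).Exact := by
  rw [ShortComplex.exact_iff_exact_up_to_refinements]
  intro A y hy
  dsimp at y hy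
  obtain ⟨A', π, hπ, a, ha⟩ := surjective_up_to_refinements_of_epi p y
  have had : a ≫ K.d i (c.next i) = 0 := hker a (by rw [← reassoc_of% ha, hy, comp_zero])
  exact ⟨A', π, hπ, K.liftCycles a (c.next i) rfl had ≫ K.homologyπ i,
    by dsimp; rw [Category.assoc, π_theta, HomologicalComplex.liftCycles_i_assoc, ha]⟩

theorem theta_comp (hp : K.d (c.prev i) i ≫ p = 0) {l : ι} (j : Y ⟶ K.X l) (hj : p ≫ j = K.d i l) :
    theta K i p hp ≫ j = 0 := by
  rw [← cancel_epi (K.homologyπ i), π_theta_assoc, hj, HomologicalComplex.iCycles_d, comp_zero]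

theorem exact_theta' (hp : K.d (c.prev i) i ≫ p = 0) [Epi p] {l : ι} (j : Y ⟶ K.X l) (hj : p ≫ j = K.d i l)
    (hl : c.next i = l) :
    (ShortComplex.mk (theta K i p hp) j (theta_comp K i p hp j hj)).Exact := by
  subst hl
  exact exact_theta K i p hp j _ fun a ha => by rwa [hj] at ha

end Homology

section Squares

variable {V : Type*} [Category V] {A A' B B' C C' D D' : V}

theorem glue {a : A ⟶ A'} {b : B ⟶ B'} {c : C ⟶ C'} {d : A ⟶ B} {d' : A' ⟶ B'} {t : B ⟶ C} {t' : B' ⟶ C'}
    (h₁ : a ≫ d' = d ≫ b) (h₂ : b ≫ t' = t ≫ c) : a ≫ d' ≫ t' = (d ≫ t) ≫ c := by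
  rw [reassoc_of% h₁, h₂, Category.assoc]

theorem conj_natural {a : A ⟶ A'} {b : B ⟶ B'} {c : C ⟶ C'} {e : D ⟶ D'} {t : A ⟶ B} {t' : A' ⟶ B'}
    {s : B ⟶ C} {s' : B' ⟶ C'} (u : D ⟶ C) (u' : D' ⟶ C') [IsIso u] [IsIso u']
    (h₁ : a ≫ t' = t ≫ b) (h₂ : b ≫ s' = s ≫ c) (h₃ : e ≫ u' = u ≫ c) :
    a ≫ t' ≫ s' ≫ inv u' = (t ≫ s ≫ inv u) ≫ e := by
  rw [← cancel_mono u']
  simp only [Category.assoc, IsIso.inv_hom_id, Category.comp_id, h₃, IsIso.inv_hom_id_assoc]
  rw [reassoc_of% h₁, h₂]

theorem lift_natural {a : A ⟶ A'} {e : D ⟶ D'} {k : C ⟶ C'} {cm : A ⟶ D} {cm' : A' ⟶ D'}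
    {r : D ⟶ C} {r' : D' ⟶ C'} {l : A ⟶ C} {l' : A' ⟶ C'} [Mono r'] (h : cm ≫ r = l) (h' : cm' ≫ r' = l')
    (hl : a ≫ l' = l ≫ k) (hr : e ≫ r' = r ≫ k) : a ≫ cm' = cm ≫ e := by
  rw [← cancel_mono r', Category.assoc, Category.assoc, h', hl, hr, reassoc_of% h]

theorem iso_natural {e : A ≅ B} {e' : A' ≅ B'} {x : A ⟶ A'} {m : B ⟶ B'} (h : x = e.hom ≫ m ≫ e'.inv) :
    x ≫ e'.hom = e.hom ≫ m := by
  subst h; simp

end Squares

variable (R : Type u) [CommRing R]

/-! ## The functorial free resolution -/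

/-- The free module on the underlying set. -/
noncomputable def F : ModuleCat.{u} R ⥤ ModuleCat.{u} R where
  obj M := ModuleCat.of R (M →₀ R)
  map f := ModuleCat.ofHom (Finsupp.lmapDomain R R f)
  map_id M := by ext : 1; exact Finsupp.lmapDomain_id R R
  map_comp f g := by ext : 1; exact Finsupp.lmapDomain_comp R R f g

/-- The canonical surjection `F M ⟶ M`. -/
noncomputable def eps : F R ⟶ 𝟭 (ModuleCat.{u} R) where
  app M := ModuleCat.ofHom (Finsupp.linearCombination R (id : M → M))
  naturality M N f := by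
    ext : 1
    refine Finsupp.lhom_ext fun m r => ?_
    show Finsupp.linearCombination R (id : N → N) (Finsupp.lmapDomain R R f (Finsupp.single m r)) = f.hom (Finsupp.linearCombination R (id : M → M) (Finsupp.single m r))
    rw [Finsupp.lmapDomain_apply, Finsupp.mapDomain_single, Finsupp.linearCombination_single,
      Finsupp.linearCombination_single, map_smul]
    rfl

theorem eps_surjective (M : ModuleCat.{u} R) : Function.Surjective ((eps R).app M).hom :=
  fun m => ⟨Finsupp.single m 1, (Finsupp.linearCombination_single (R := R) (v := (id : M → M)) 1 m).trans (one_smul R m)⟩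

instance (M : ModuleCat.{u} R) : Epi ((eps R).app M) :=
  (ModuleCat.epi_iff_surjective _).mpr (eps_surjective R M)

/-- The kernel of `F M ⟶ M`. -/
noncomputable def K : ModuleCat.{u} R ⥤ ModuleCat.{u} R where
  obj M := ModuleCat.of R (LinearMap.ker ((eps R).app M).hom)
  map {M N} f := ModuleCat.ofHom (((F R).map f).hom.restrict (fun x hx => by
    rw [LinearMap.mem_ker] at hx ⊢
    have := congrArg (fun g => g.hom x) ((eps R).naturality f)
    simp only [ModuleCat.hom_comp, LinearMap.comp_apply, Functor.id_map, hx, map_zero] at this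
    exact this))
  map_id M := by ext : 1; exact LinearMap.ext fun x => Subtype.ext (by simp [(F R).map_id])
  map_comp f g := by ext : 1; exact LinearMap.ext fun x => Subtype.ext (by simp [(F R).map_comp])

/-- The inclusion `K M ⟶ F M`. -/
noncomputable def incl : K R ⟶ F R where
  app M := ModuleCat.ofHom (LinearMap.ker ((eps R).app M).hom).subtype
  naturality M N f := rfl

theorem incl_eps (M : ModuleCat.{u} R) : (incl R).app M ≫ (eps R).app M = 0 := by
  ext : 1
  exact LinearMap.ext fun x => x.2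

theorem exact_incl_eps (M : ModuleCat.{u} R) :
    Function.Exact ((incl R).app M).hom ((eps R).app M).hom :=
  LinearMap.exact_iff.mpr (Submodule.range_subtype _).symm

theorem incl_injective (M : ModuleCat.{u} R) : Function.Injective ((incl R).app M).hom :=
  Submodule.injective_subtype _

/-- Iterated kernels. -/
noncomputable def powK : ℕ → (ModuleCat.{u} R ⥤ ModuleCat.{u} R)
  | 0 => 𝟭 _
  | n + 1 => K R ⋙ powK n

/-- The differentials of the resolution. -/
noncomputable def qd : ∀ (n : ℕ) (M : ModuleCat.{u} R),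
    (F R).obj ((powK R (n + 1)).obj M) ⟶ (F R).obj ((powK R n).obj M)
  | 0, M => (eps R).app ((K R).obj M) ≫ (incl R).app M
  | n + 1, M => qd n ((K R).obj M)

theorem qd_natural : ∀ (n : ℕ) {M N : ModuleCat.{u} R} (f : M ⟶ N),
    (F R).map ((powK R (n + 1)).map f) ≫ qd R n N = qd R n M ≫ (F R).map ((powK R n).map f)
  | 0, M, N, f => by
    show (F R).map ((K R).map f) ≫ (eps R).app ((K R).obj N) ≫ (incl R).app N =
      ((eps R).app ((K R).obj M) ≫ (incl R).app M) ≫ (F R).map f
    rw [← Category.assoc, (eps R).naturality, Category.assoc, Category.assoc, Functor.id_map, (incl R).naturality]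
  | n + 1, M, N, f => qd_natural n ((K R).map f)

theorem qd_exact : ∀ (n : ℕ) (M : ModuleCat.{u} R),
    Function.Exact (qd R (n + 1) M).hom (qd R n M).hom
  | 0, M => by
    show Function.Exact (((eps R).app ((K R).obj ((K R).obj M)) ≫ (incl R).app ((K R).obj M)).hom)
      (((eps R).app ((K R).obj M) ≫ (incl R).app M).hom)
    rw [LinearMap.exact_iff, ModuleCat.hom_comp, ModuleCat.hom_comp,
      LinearMap.ker_comp_of_ker_eq_bot _ (LinearMap.ker_eq_bot.mpr (incl_injective R M)),
      LinearMap.range_comp_of_range_eq_top _ (LinearMap.range_eq_top.mpr (eps_surjective R _))]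
    exact LinearMap.exact_iff.mp (exact_incl_eps R ((K R).obj M))
  | n + 1, M => qd_exact n ((K R).obj M)

/-- The resolution of one module. -/
noncomputable abbrev Qobj (M : ModuleCat.{u} R) : ChainComplex (ModuleCat.{u} R) ℕ :=
  ChainComplex.of (fun n => (F R).obj ((powK R n).obj M)) (fun n => qd R n M) (fun n => by
    ext : 1
    exact (qd_exact R n M).linearMap_comp_eq_zero)

theorem Qobj_d (M : ModuleCat.{u} R) (n : ℕ) : (Qobj R M).d (n + 1) n = qd R n M :=
  ChainComplex.of_d (fun n => (F R).obj ((powK R n).obj M)) (fun n => qd R n M) n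

/-- The functorial free resolution. -/
noncomputable def Q : ModuleCat.{u} R ⥤ ChainComplex (ModuleCat.{u} R) ℕ where
  obj M := Qobj R M
  map {M N} f := ChainComplex.ofHom (fun n => (F R).map ((powK R n).map f)) (fun n => by
    rw [Qobj_d, Qobj_d]; exact qd_natural R n f)
  map_id M := HomologicalComplex.hom_ext _ _ fun n => by
    show (F R).map ((powK R n).map (𝟙 M)) = 𝟙 _
    rw [CategoryTheory.Functor.map_id, CategoryTheory.Functor.map_id]
  map_comp f g := HomologicalComplex.hom_ext _ _ fun n => by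
    show (F R).map ((powK R n).map (f ≫ g)) = (F R).map ((powK R n).map f) ≫ (F R).map ((powK R n).map g)
    rw [Functor.map_comp, Functor.map_comp]

theorem Q_d (M : ModuleCat.{u} R) (n : ℕ) : ((Q R).obj M).d (n + 1) n = qd R n M := Qobj_d R M n

instance free_F (M : ModuleCat.{u} R) : Module.Free R ((F R).obj M) :=
  inferInstanceAs (Module.Free R (M →₀ R))

instance proj_F (M : ModuleCat.{u} R) : Module.Projective R ((F R).obj M) :=
  Module.Projective.of_free

instance flat_F (M : ModuleCat.{u} R) : Module.Flat R ((F R).obj M) :=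
  Module.Flat.of_free

theorem qd_zero_eps (M : ModuleCat.{u} R) : qd R 0 M ≫ (eps R).app M = 0 := by
  show ((eps R).app ((K R).obj M) ≫ (incl R).app M) ≫ (eps R).app M = 0
  rw [Category.assoc, incl_eps, comp_zero]

/-- `Q M` is a projective resolution. -/
noncomputable def res (M : ModuleCat.{u} R) : ProjectiveResolution M where
  complex := (Q R).obj M
  projective n := (IsProjective.iff_projective ((F R).obj ((powK R n).obj M))).mp (proj_F R _)
  π := (ChainComplex.toSingle₀Equiv _ _).symm ⟨(eps R).app M, by rw [Q_d]; exact qd_zero_eps R M⟩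
  quasiIso := ⟨fun n => by
    cases n with
    | zero =>
      rw [ChainComplex.quasiIsoAt₀_iff, ShortComplex.quasiIso_iff_of_zeros']
      · refine (ShortComplex.exact_and_epi_g_iff_of_iso (S₂ := ShortComplex.mk (qd R 0 M) ((eps R).app M) (qd_zero_eps R M)) ?_).2
          ⟨?_, inferInstanceAs (Epi ((eps R).app M))⟩
        · exact ShortComplex.isoMk (Iso.refl _) (Iso.refl _) (Iso.refl _)
            ((Category.id_comp _).trans ((Q_d R M 0).symm.trans (Category.comp_id _).symm))
            (by simp [ChainComplex.toSingle₀Equiv]; exact (Category.id_comp _).trans (Category.comp_id _).symm)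
        · rw [ShortComplex.moduleCat_exact_iff_range_eq_ker]
          show LinearMap.range ((eps R).app ((K R).obj M) ≫ (incl R).app M).hom = _
          rw [ModuleCat.hom_comp, LinearMap.range_comp_of_range_eq_top _ (LinearMap.range_eq_top.mpr (eps_surjective R _))]
          exact (LinearMap.exact_iff.mp (exact_incl_eps R M)).symm
      all_goals rfl
    | succ n =>
      rw [quasiIsoAt_iff_exactAt' _ _ (ChainComplex.exactAt_succ_single_obj _ _),
        HomologicalComplex.exactAt_iff' _ (n + 1 + 1) (n + 1) n (by simp) (by simp),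
        ShortComplex.moduleCat_exact_iff_range_eq_ker]
      show LinearMap.range (((Q R).obj M).d (n + 1 + 1) (n + 1)).hom = LinearMap.ker (((Q R).obj M).d (n + 1) n).hom
      rw [Q_d, Q_d]
      exact (LinearMap.exact_iff.mp (qd_exact R n M)).symm⟩

theorem res_π (M : ModuleCat.{u} R) : (res R M).π.f 0 = (eps R).app M :=
  ChainComplex.toSingle₀Equiv_symm_apply_f_zero _ _

/-! ## The bifunctors -/

/-- `(M, N) ↦ M ⊗ Q N`. -/
noncomputable def E : ModuleCat.{u} R ⥤ ModuleCat.{u} R ⥤ ChainComplex (ModuleCat.{u} R) ℕ where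
  obj M := Q R ⋙ ((tensoringLeft (ModuleCat.{u} R)).obj M).mapHomologicalComplex _
  map f := Functor.whiskerLeft (Q R) (NatTrans.mapHomologicalComplex ((tensoringLeft (ModuleCat.{u} R)).map f) _)
  map_id M := by ext N i : 4; simp
  map_comp f g := by ext N i : 4; simp

/-- `(M, N) ↦ H_n (M ⊗ Q N)`. -/
noncomputable abbrev T (n : ℕ) : ModuleCat.{u} R ⥤ ModuleCat.{u} R ⥤ ModuleCat.{u} R :=
  E R ⋙ (Functor.whiskeringRight _ _ _).obj (HomologicalComplex.homologyFunctor _ _ n)

/-- `(M, N) ↦ H_n (N ⊗ Q M)`. -/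
noncomputable abbrev T' (n : ℕ) : ModuleCat.{u} R ⥤ ModuleCat.{u} R ⥤ ModuleCat.{u} R :=
  (E R).flip ⋙ (Functor.whiskeringRight _ _ _).obj (HomologicalComplex.homologyFunctor _ _ n)

/-- `Tor` is computed by the functorial resolution. -/
noncomputable def torIso (n : ℕ) : Tor (ModuleCat.{u} R) n ≅ T R n :=
  NatIso.ofComponents
    (fun M => NatIso.ofComponents
      (fun N => (res R N).isoLeftDerivedObj ((tensoringLeft (ModuleCat.{u} R)).obj M) n)
      (fun {N N'} f => ProjectiveResolution.isoLeftDerivedObj_hom_naturality f (res R N) (res R N') ((Q R).map f)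
        (by
          erw [res_π, res_π]
          exact (eps R).naturality f) _ n))
    (fun {M M'} f => by
      ext N : 2
      exact iso_natural (ProjectiveResolution.leftDerived_app_eq ((tensoringLeft (ModuleCat.{u} R)).map f) (res R N) n))

/-- `T'` is the flip of `T`. -/
noncomputable def flipIso (n : ℕ) : (T R n).flip ≅ T' R n :=
  NatIso.ofComponents (fun M => NatIso.ofComponents (fun N => Iso.refl _))

theorem flat_tensor_homology_isZero (X N : ModuleCat.{u} R) [Module.Flat R X] (n : ℕ) :
    IsZero (((T R (n + 1)).obj X).obj N) := by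
  refine (HomologicalComplex.exactAt_iff_isZero_homology _ _).mp ?_
  rw [HomologicalComplex.exactAt_iff' _ (n + 1 + 1) (n + 1) n (by simp) (by simp), ShortComplex.moduleCat_exact_iff]
  have h : Function.Exact (((Q R).obj N).d (n + 1 + 1) (n + 1)).hom (((Q R).obj N).d (n + 1) n).hom := by
    rw [Q_d, Q_d]
    exact qd_exact R n N
  exact fun z hz => (Module.Flat.lTensor_exact (R := R) X h z).mp hz

/-! ## First variable: long exact sequence -/

/-- The short exact sequence `K M ⊗ Q N → F M ⊗ Q N → M ⊗ Q N`. -/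
noncomputable def seq (M N : ModuleCat.{u} R) : ShortComplex (ChainComplex (ModuleCat.{u} R) ℕ) :=
  ShortComplex.mk (((E R).map ((incl R).app M)).app N) (((E R).map ((eps R).app M)).app N) (by
    rw [← NatTrans.comp_app, ← Functor.map_comp, incl_eps]
    refine HomologicalComplex.hom_ext _ _ fun i => ?_
    show (0 : (K R).obj M ⟶ M) ▷ _ = 0
    exact MonoidalPreadditive.zero_whiskerRight)

theorem seq_shortExact (M N : ModuleCat.{u} R) : (seq R M N).ShortExact := by
  refine HomologicalComplex.shortExact_of_degreewise_shortExact _ fun i => ?_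
  haveI : Module.Flat R (((Q R).obj N).X i) := inferInstanceAs (Module.Flat R ((F R).obj ((powK R i).obj N)))
  refine ModuleCat.shortComplex_shortExact _ ?_ ?_ ?_
  · exact rTensor_exact _ (exact_incl_eps R M) (eps_surjective R M)
  · exact Module.Flat.rTensor_preserves_injective_linearMap ((incl R).app M).hom (incl_injective R M)
  · exact LinearMap.rTensor_surjective _ (eps_surjective R M)

/-- The connecting map. -/
noncomputable def delta (n : ℕ) (M N : ModuleCat.{u} R) :
    ((T R (n + 1)).obj M).obj N ⟶ ((T R n).obj ((K R).obj M)).obj N :=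
  (seq_shortExact R M N).δ (n + 1) n rfl

theorem delta_natural₁ (n : ℕ) {M M' : ModuleCat.{u} R} (f : M ⟶ M') (N : ModuleCat.{u} R) :
    ((T R (n + 1)).map f).app N ≫ delta R n M' N = delta R n M N ≫ ((T R n).map ((K R).map f)).app N := by
  let φ : seq R M N ⟶ seq R M' N := ShortComplex.homMk (((E R).map ((K R).map f)).app N) (((E R).map ((F R).map f)).app N)
    (((E R).map f).app N)
    (by simp only [seq]; rw [← NatTrans.comp_app, ← Functor.map_comp, (incl R).naturality, Functor.map_comp, NatTrans.comp_app])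
    (by simp only [seq]; rw [← NatTrans.comp_app, ← Functor.map_comp, (eps R).naturality, Functor.map_comp, NatTrans.comp_app]; rfl)
  exact (HomologicalComplex.HomologySequence.δ_naturality φ (seq_shortExact R M N) (seq_shortExact R M' N) (n + 1) n rfl).symm

theorem delta_natural₂ (n : ℕ) (M : ModuleCat.{u} R) {N N' : ModuleCat.{u} R} (g : N ⟶ N') :
    ((T R (n + 1)).obj M).map g ≫ delta R n M N' = delta R n M N ≫ ((T R n).obj ((K R).obj M)).map g := by
  let φ : seq R M N ⟶ seq R M N' := ShortComplex.homMk (((E R).obj ((K R).obj M)).map g) (((E R).obj ((F R).obj M)).map g)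
    (((E R).obj M).map g) (((E R).map ((incl R).app M)).naturality g) (((E R).map ((eps R).app M)).naturality g)
  exact (HomologicalComplex.HomologySequence.δ_naturality φ (seq_shortExact R M N) (seq_shortExact R M N') (n + 1) n rfl).symm

/-- Dimension shifting in the first variable. -/
noncomputable def shiftIso (n : ℕ) : T R (n + 2) ≅ K R ⋙ T R (n + 1) :=
  haveI : ∀ M N : ModuleCat.{u} R, IsIso (delta R (n + 1) M N) := fun M N =>
    (seq_shortExact R M N).isIso_δ (n + 1 + 1) (n + 1) rfl
      (flat_tensor_homology_isZero R ((F R).obj M) N (n + 1)) (flat_tensor_homology_isZero R ((F R).obj M) N n)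
  NatIso.ofComponents
    (fun M => NatIso.ofComponents (fun N => asIso (delta R (n + 1) M N)) (fun g => delta_natural₂ R (n + 1) M g))
    (fun f => by ext N : 2; exact delta_natural₁ R (n + 1) f N)

/-! ## Second variable: index shift -/

/-- The short complexes computing homology in two consecutive degrees agree. -/
noncomputable def scShift (n : ℕ) :
    (E R).flip ⋙ (Functor.whiskeringRight _ _ _).obj (HomologicalComplex.shortComplexFunctor' (ModuleCat.{u} R) (ComplexShape.down ℕ) (n + 3) (n + 2) (n + 1)) ≅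
      (K R ⋙ (E R).flip) ⋙ (Functor.whiskeringRight _ _ _).obj (HomologicalComplex.shortComplexFunctor' (ModuleCat.{u} R) (ComplexShape.down ℕ) (n + 2) (n + 1) n) :=
  NatIso.ofComponents (fun M => NatIso.ofComponents (fun N =>
    ShortComplex.isoMk (Iso.refl _) (Iso.refl _) (Iso.refl _)
      ((Category.id_comp _).trans (Eq.trans
        (show N ◁ ((Q R).obj ((K R).obj M)).d (n + 2) (n + 1) = N ◁ ((Q R).obj M).d (n + 3) (n + 2) by
          rw [Q_d R ((K R).obj M) (n + 1), Q_d R M (n + 2)]; rfl) (Category.comp_id _).symm))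
      ((Category.id_comp _).trans (Eq.trans
        (show N ◁ ((Q R).obj ((K R).obj M)).d (n + 1) n = N ◁ ((Q R).obj M).d (n + 2) (n + 1) by
          rw [Q_d R ((K R).obj M) n, Q_d R M (n + 1)]; rfl) (Category.comp_id _).symm)))
    (fun g => by ext : 1 <;> exact (Category.comp_id _).trans (Category.id_comp _).symm))
    (fun f => by ext N : 2; ext : 1 <;> exact (Category.comp_id _).trans (Category.id_comp _).symm)

/-- Homology through an explicit short complex. -/
noncomputable def homIso (n : ℕ) :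
    HomologicalComplex.homologyFunctor (ModuleCat.{u} R) (ComplexShape.down ℕ) (n + 1) ≅
      HomologicalComplex.shortComplexFunctor' (ModuleCat.{u} R) (ComplexShape.down ℕ) (n + 2) (n + 1) n ⋙ ShortComplex.homologyFunctor _ :=
  HomologicalComplex.homologyFunctorIso _ _ _ ≪≫
    Functor.isoWhiskerRight (HomologicalComplex.natIsoSc' _ _ (n + 2) (n + 1) n (by simp) (by simp)) _

/-- Dimension shifting in the second variable. -/
noncomputable def shiftIso' (n : ℕ) : T' R (n + 2) ≅ K R ⋙ T' R (n + 1) :=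
  Functor.isoWhiskerLeft (E R).flip ((Functor.whiskeringRight _ _ _).mapIso (homIso R (n + 1))) ≪≫
    Functor.isoWhiskerRight (scShift R n) ((Functor.whiskeringRight _ _ _).obj (ShortComplex.homologyFunctor _)) ≪≫
      (Functor.isoWhiskerLeft (K R ⋙ (E R).flip) ((Functor.whiskeringRight _ _ _).mapIso (homIso R n))).symm

/-! ## Degree `0` and `1` -/

theorem E_d (M N : ModuleCat.{u} R) (n : ℕ) : (((E R).obj M).obj N).d (n + 1) n = M ◁ qd R n N :=
  congrArg (fun f => M ◁ f) (Q_d R N n)

theorem lTensor_qd_eps (M N : ModuleCat.{u} R) : (M ◁ qd R 0 N) ≫ (M ◁ (eps R).app N) = 0 :=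
  (MonoidalCategory.whiskerLeft_comp M (qd R 0 N) ((eps R).app N)).symm.trans
    ((congrArg (fun f => M ◁ f) (qd_zero_eps R N)).trans MonoidalPreadditive.whiskerLeft_zero)

theorem exact_qd_eps (N : ModuleCat.{u} R) : Function.Exact (qd R 0 N).hom ((eps R).app N).hom := by
  show Function.Exact ((eps R).app ((K R).obj N) ≫ (incl R).app N).hom _
  rw [LinearMap.exact_iff, ModuleCat.hom_comp, LinearMap.range_comp_of_range_eq_top _ (LinearMap.range_eq_top.mpr (eps_surjective R _))]
  exact LinearMap.exact_iff.mp (exact_incl_eps R N)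

theorem lTensor_exact_qd_eps (M N : ModuleCat.{u} R) :
    (ShortComplex.mk _ _ (lTensor_qd_eps R M N)).Exact :=
  ModuleCat.shortComplex_exact _ (lTensor_exact M (exact_qd_eps R N) (eps_surjective R N))

theorem epi_lTensor_eps (M N : ModuleCat.{u} R) : Epi (M ◁ (eps R).app N) :=
  (ModuleCat.epi_iff_surjective _).mpr (LinearMap.lTensor_surjective M (eps_surjective R N))

theorem d_zero_comp (M N : ModuleCat.{u} R) :
    (((E R).obj M).obj N).d ((ComplexShape.down ℕ).prev 0) 0 ≫ (M ◁ (eps R).app N) = 0 := by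
  have h : ∀ l, l = 0 + 1 → (((E R).obj M).obj N).d l 0 ≫ (M ◁ (eps R).app N) = 0 := by
    rintro l rfl
    exact (congrArg (fun f => f ≫ (M ◁ (eps R).app N)) (E_d R M N 0)).trans (lTensor_qd_eps R M N)
  exact h _ (ChainComplex.prev ℕ 0)

/-- `H_0 (M ⊗ Q N) ⟶ M ⊗ N`. -/
noncomputable def theta0 (M N : ModuleCat.{u} R) : ((T R 0).obj M).obj N ⟶ M ⊗ N :=
  theta (((E R).obj M).obj N) 0 (M ◁ (eps R).app N) (d_zero_comp R M N)

theorem exact_zero (M N : ModuleCat.{u} R) :
    (ShortComplex.mk _ _ (d_zero_comp R M N)).Exact := by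
  have h : ∀ l (w : (((E R).obj M).obj N).d l 0 ≫ (M ◁ (eps R).app N) = 0), l = 0 + 1 →
      (ShortComplex.mk _ _ w).Exact := by
    rintro l w rfl
    refine ShortComplex.exact_of_iso ?_ (lTensor_exact_qd_eps R M N)
    exact ShortComplex.isoMk (Iso.refl _) (Iso.refl _) (Iso.refl _)
      ((Category.id_comp _).trans ((E_d R M N 0).trans (Category.comp_id _).symm))
      ((Category.id_comp _).trans (Category.comp_id _).symm)
  exact h _ _ (ChainComplex.prev ℕ 0)

instance isIso_theta0 (M N : ModuleCat.{u} R) : IsIso (theta0 R M N) := by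
  have he := epi_lTensor_eps R M N
  have hm : Mono (theta0 R M N) := mono_theta _ 0 _ _ (exact_zero R M N)
  have hq : Epi (theta0 R M N) := (@exact_theta _ _ _ _ _ (((E R).obj M).obj N) 0 _ M _ (d_zero_comp R M N) he (0 : _ ⟶ M) comp_zero
    (fun a _ => by rw [HomologicalComplex.shape _ _ _ (by simp), comp_zero])).epi_f rfl
  exact isIso_of_mono_of_epi _

theorem theta0_natural₁ {M M' : ModuleCat.{u} R} (f : M ⟶ M') (N : ModuleCat.{u} R) :
    ((T R 0).map f).app N ≫ theta0 R M' N = theta0 R M N ≫ (f ▷ N) :=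
  theta_natural _ 0 _ _ _ _ _ _ (MonoidalCategory.whisker_exchange f ((eps R).app N)).symm

theorem theta0_natural₂ (M : ModuleCat.{u} R) {N N' : ModuleCat.{u} R} (g : N ⟶ N') :
    ((T R 0).obj M).map g ≫ theta0 R M N' = theta0 R M N ≫ (M ◁ g) :=
  theta_natural _ 0 _ _ _ _ _ _ (by
    show M ◁ (F R).map g ≫ M ◁ (eps R).app N' = M ◁ (eps R).app N ≫ M ◁ g
    rw [← MonoidalCategory.whiskerLeft_comp, ← MonoidalCategory.whiskerLeft_comp, (eps R).naturality]
    rfl)

theorem d_one_comp (N M : ModuleCat.{u} R) :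
    (((E R).obj N).obj M).d ((ComplexShape.down ℕ).prev 1) 1 ≫ (N ◁ (eps R).app ((K R).obj M)) = 0 := by
  have h : ∀ l, l = 1 + 1 → (((E R).obj N).obj M).d l 1 ≫ (N ◁ (eps R).app ((K R).obj M)) = 0 := by
    rintro l rfl
    exact (congrArg (fun f => f ≫ (N ◁ (eps R).app ((K R).obj M))) (E_d R N M 1)).trans (lTensor_qd_eps R N ((K R).obj M))
  exact h _ (ChainComplex.prev ℕ 1)

/-- `H_1 (N ⊗ Q M) ⟶ N ⊗ K M`. -/
noncomputable def theta1 (N M : ModuleCat.{u} R) : ((T R 1).obj N).obj M ⟶ N ⊗ (K R).obj M :=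
  theta (((E R).obj N).obj M) 1 (N ◁ (eps R).app ((K R).obj M)) (d_one_comp R N M)

theorem eps_incl_eq_d (N M : ModuleCat.{u} R) :
    (N ◁ (eps R).app ((K R).obj M)) ≫ (N ◁ (incl R).app M) = (((E R).obj N).obj M).d 1 0 :=
  (MonoidalCategory.whiskerLeft_comp N _ _).symm.trans (E_d R N M 0).symm

theorem theta1_incl (N M : ModuleCat.{u} R) : theta1 R N M ≫ (N ◁ (incl R).app M) = 0 :=
  theta_comp (((E R).obj N).obj M) 1 (N ◁ (eps R).app ((K R).obj M)) (d_one_comp R N M)
    (l := 0) (N ◁ (incl R).app M) (eps_incl_eq_d R N M)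

theorem mono_theta1 (N M : ModuleCat.{u} R) : Mono (theta1 R N M) := by
  refine mono_theta _ 1 _ _ ?_
  have h : ∀ l (w : (((E R).obj N).obj M).d l 1 ≫ (N ◁ (eps R).app ((K R).obj M)) = 0), l = 1 + 1 →
      (ShortComplex.mk _ _ w).Exact := by
    rintro l w rfl
    refine ShortComplex.exact_of_iso ?_ (lTensor_exact_qd_eps R N ((K R).obj M))
    exact ShortComplex.isoMk (Iso.refl _) (Iso.refl _) (Iso.refl _)
      ((Category.id_comp _).trans ((E_d R N M 1).trans (Category.comp_id _).symm))
      ((Category.id_comp _).trans (Category.comp_id _).symm)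
  exact h _ _ (ChainComplex.prev ℕ 1)

theorem exact_theta1 (N M : ModuleCat.{u} R) : (ShortComplex.mk _ _ (theta1_incl R N M)).Exact :=
  @exact_theta' _ _ _ _ _ (((E R).obj N).obj M) 1 _ (N ◁ (eps R).app ((K R).obj M)) (d_one_comp R N M)
    (epi_lTensor_eps R N ((K R).obj M)) 0 (N ◁ (incl R).app M) (eps_incl_eq_d R N M) (ChainComplex.next_nat_succ 0)

theorem theta1_natural₁ {N N' : ModuleCat.{u} R} (g : N ⟶ N') (M : ModuleCat.{u} R) :
    ((T R 1).map g).app M ≫ theta1 R N' M = theta1 R N M ≫ (g ▷ (K R).obj M) :=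
  theta_natural _ 1 _ _ _ _ _ _ (MonoidalCategory.whisker_exchange g ((eps R).app ((K R).obj M))).symm

theorem theta1_natural₂ (N : ModuleCat.{u} R) {M M' : ModuleCat.{u} R} (f : M ⟶ M') :
    ((T R 1).obj N).map f ≫ theta1 R N M' = theta1 R N M ≫ (N ◁ (K R).map f) :=
  theta_natural _ 1 _ _ _ _ _ _ (by
    show N ◁ (F R).map ((K R).map f) ≫ N ◁ (eps R).app ((K R).obj M') = N ◁ (eps R).app ((K R).obj M) ≫ N ◁ (K R).map f
    rw [← MonoidalCategory.whiskerLeft_comp, ← MonoidalCategory.whiskerLeft_comp, (eps R).naturality]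
    rfl)

/-- `H_1 (M ⊗ Q N) ⟶ K M ⊗ N`. -/
noncomputable def left1 (M N : ModuleCat.{u} R) : ((T R 1).obj M).obj N ⟶ (K R).obj M ⊗ N :=
  delta R 0 M N ≫ theta0 R ((K R).obj M) N

theorem delta_zero_incl (M N : ModuleCat.{u} R) :
    delta R 0 M N ≫ ((T R 0).map ((incl R).app M)).app N = 0 :=
  (seq_shortExact R M N).δ_comp 1 0 rfl

theorem left1_incl (M N : ModuleCat.{u} R) : left1 R M N ≫ ((incl R).app M ▷ N) = 0 :=
  ((Category.assoc _ _ _).trans (congrArg (fun f => delta R 0 M N ≫ f) (theta0_natural₁ R ((incl R).app M) N).symm)).trans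
    ((Category.assoc _ _ _).symm.trans ((congrArg (fun f => f ≫ theta0 R ((F R).obj M) N) (delta_zero_incl R M N)).trans zero_comp))

theorem mono_left1 (M N : ModuleCat.{u} R) : Mono (left1 R M N) := by
  have h1 : Mono (delta R 0 M N) := (seq_shortExact R M N).mono_δ 1 0 rfl
    (@flat_tensor_homology_isZero R _ ((F R).obj M) N (flat_F R M) 0)
  have h2 := isIso_theta0 R ((K R).obj M) N
  exact @mono_comp _ _ _ _ _ (delta R 0 M N) h1 (theta0 R ((K R).obj M) N) inferInstance

theorem exact_left1 (M N : ModuleCat.{u} R) : (ShortComplex.mk _ _ (left1_incl R M N)).Exact := by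
  refine ShortComplex.exact_of_iso ?_ ((seq_shortExact R M N).homology_exact₁ 1 0 rfl)
  exact ShortComplex.isoMk (Iso.refl _) (@asIso _ _ _ _ (theta0 R ((K R).obj M) N) (isIso_theta0 R _ N))
    (@asIso _ _ _ _ (theta0 R ((F R).obj M) N) (isIso_theta0 R _ N))
    (Category.id_comp _) (theta0_natural₁ R ((incl R).app M) N).symm

/-- `H_1 (N ⊗ Q M) ⟶ K M ⊗ N`. -/
noncomputable def right1 (M N : ModuleCat.{u} R) : ((T' R 1).obj M).obj N ⟶ (K R).obj M ⊗ N :=
  theta1 R N M ≫ (β_ N ((K R).obj M)).hom

theorem right1_incl (M N : ModuleCat.{u} R) : right1 R M N ≫ ((incl R).app M ▷ N) = 0 :=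
  ((Category.assoc _ _ _).trans
      (congrArg (fun f => theta1 R N M ≫ f) (BraidedCategory.braiding_naturality_right N ((incl R).app M)).symm)).trans
    ((Category.assoc _ _ _).symm.trans ((congrArg (fun f => f ≫ (β_ N ((F R).obj M)).hom) (theta1_incl R N M)).trans zero_comp))

theorem mono_right1 (M N : ModuleCat.{u} R) : Mono (right1 R M N) :=
  @mono_comp _ _ _ _ _ (theta1 R N M) (mono_theta1 R N M) (β_ N ((K R).obj M)).hom inferInstance

theorem exact_right1 (M N : ModuleCat.{u} R) : (ShortComplex.mk _ _ (right1_incl R M N)).Exact := by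
  refine ShortComplex.exact_of_iso ?_ (exact_theta1 R N M)
  exact ShortComplex.isoMk (Iso.refl _) (β_ N ((K R).obj M)) (β_ N ((F R).obj M))
    (Category.id_comp _) (BraidedCategory.braiding_naturality_right N ((incl R).app M)).symm

/-- The comparison in degree one, componentwise. -/
noncomputable def compIso (M N : ModuleCat.{u} R) : ((T R 1).obj M).obj N ≅ ((T' R 1).obj M).obj N :=
  haveI := mono_left1 R M N
  haveI := mono_right1 R M N
  (exact_left1 R M N).fIsKernel.conePointUniqueUpToIso (exact_right1 R M N).fIsKernel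

theorem compIso_hom (M N : ModuleCat.{u} R) : (compIso R M N).hom ≫ right1 R M N = left1 R M N := by
  have := mono_left1 R M N
  have := mono_right1 R M N
  exact (exact_left1 R M N).fIsKernel.conePointUniqueUpToIso_hom_comp (exact_right1 R M N).fIsKernel WalkingParallelPair.zero

theorem compIso_natural₂ (M : ModuleCat.{u} R) {N N' : ModuleCat.{u} R} (g : N ⟶ N') :
    ((T R 1).obj M).map g ≫ (compIso R M N').hom = (compIso R M N).hom ≫ ((T' R 1).obj M).map g :=
  @lift_natural _ _ _ _ _ _ _ _ (((T R 1).obj M).map g) (((T' R 1).obj M).map g) ((K R).obj M ◁ g)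
    _ _ _ _ _ _ (mono_right1 R M N') (compIso_hom R M N) (compIso_hom R M N')
    (glue (delta_natural₂ R 0 M g) (theta0_natural₂ R ((K R).obj M) g))
    (glue (theta1_natural₁ R g M) (BraidedCategory.braiding_naturality_left g ((K R).obj M)))

theorem compIso_natural₁ {M M' : ModuleCat.{u} R} (f : M ⟶ M') (N : ModuleCat.{u} R) :
    ((T R 1).map f).app N ≫ (compIso R M' N).hom = (compIso R M N).hom ≫ ((T' R 1).map f).app N :=
  @lift_natural _ _ _ _ _ _ _ _ (((T R 1).map f).app N) (((T' R 1).map f).app N) ((K R).map f ▷ N)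
    _ _ _ _ _ _ (mono_right1 R M' N) (compIso_hom R M N) (compIso_hom R M' N)
    (glue (delta_natural₁ R 0 f N) (theta0_natural₁ R ((K R).map f) N))
    (glue (theta1_natural₂ R N f) (BraidedCategory.braiding_naturality_right N ((K R).map f)))

/-- Balance in degree `1`. -/
noncomputable def iso1 : T R 1 ≅ T' R 1 :=
  NatIso.ofComponents
    (fun M => NatIso.ofComponents (fun N => compIso R M N) (fun g => compIso_natural₂ R M g))
    (fun f => by ext N : 2; exact compIso_natural₁ R f N)

/-- Balance in degree `0`. -/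
noncomputable def iso0 : T R 0 ≅ T' R 0 :=
  NatIso.ofComponents
    (fun M => NatIso.ofComponents
      (fun N => @asIso _ _ _ _ (theta0 R M N) (isIso_theta0 R M N) ≪≫ β_ M N ≪≫ (@asIso _ _ _ _ (theta0 R N M) (isIso_theta0 R N M)).symm)
      (fun {N N'} g => @conj_natural _ _ _ _ _ _ _ _ _ _ _ _ _ _ _ _ _ _ (theta0 R N M) (theta0 R N' M) (isIso_theta0 R N M) (isIso_theta0 R N' M)
        (theta0_natural₂ R M g) (BraidedCategory.braiding_naturality_right M g) (theta0_natural₁ R g M)))
    (fun {M M'} f => by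
      ext N : 2
      exact @conj_natural _ _ _ _ _ _ _ _ _ _ _ _ _ _ _ _ _ _ (theta0 R N M) (theta0 R N M') (isIso_theta0 R N M) (isIso_theta0 R N M')
        (theta0_natural₁ R f N) (BraidedCategory.braiding_naturality_left f N) (theta0_natural₂ R N f))

/-- Balance of the computing bifunctors. -/
noncomputable def balance : ∀ n, T R n ≅ T' R n
  | 0 => iso0 R
  | 1 => iso1 R
  | n + 2 => shiftIso R n ≪≫ Functor.isoWhiskerLeft (K R) (balance (n + 1)) ≪≫ (shiftIso' R n).symm

/-- `Tor` is balanced. -/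
noncomputable def torFlipIso (n : ℕ) : Tor (ModuleCat.{u} R) n ≅ (Tor (ModuleCat.{u} R) n).flip :=
  torIso R n ≪≫ balance R n ≪≫ (flipIso R n).symm ≪≫ (flipFunctor _ _ _).mapIso (torIso R n).symm

end Groth.Agent.CAlgLib.TorBalance
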