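import Groth.Prelude.Def_CAlgX
import Mathlib.RingTheory.Flat.Equalizer
import Mathlib.RingTheory.LocalRing.Module
import Mathlib.RingTheory.Flat.Tensor
import Mathlib.LinearAlgebra.TensorProduct.RightExactness
import Mathlib.RingTheory.Flat.EquationalCriterion
import Mathlib.Algebra.Module.FinitePresentation
import Mathlib.LinearAlgebra.TensorProduct.Pi

/-!
Universally injective maps, flatness in short exact sequences, lifting from finitely presented modules.
-/

namespace Groth.Agent.CAlgLib.UnivInj

open TensorProduct

universe u

variable {R : Type u} [CommRing R] {M₁ M₂ M₃ : Type u} [AddCommGroup M₁] [Module R M₁] [AddCommGroup M₂]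
  [Module R M₂] [AddCommGroup M₃] [Module R M₃] {f : M₁ →ₗ[R] M₂} {g : M₂ →ₗ[R] M₃}

theorem lTensor_injective_aux (hexact : Function.Exact f g) (hg : Function.Surjective g)
    {K F Q : Type u} [AddCommGroup K] [Module R K] [AddCommGroup F] [Module R F] [AddCommGroup Q] [Module R Q]
    (ι : K →ₗ[R] F) (π : F →ₗ[R] Q) (hexπ : Function.Exact ι π) (hπ : Function.Surjective π)
    (h1 : Function.Injective (ι.rTensor M₃)) (h2 : Function.Injective (f.lTensor F)) :
    Function.Injective (f.lTensor Q) :=
  lTensor_injective_of_exact_of_exact_of_rTensor_injective hexπ hπ hexact hg h1 h2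

/-- The first map of a short exact sequence with flat cokernel is universally injective. -/
theorem universallyInjective_of_flat (hexact : Function.Exact f g) (hf : Function.Injective f)
    (hg : Function.Surjective g) [Module.Flat R M₃] : CAlgX.UniversallyInjective R f := by
  intro Q _ _
  let π : (Q →₀ R) →ₗ[R] Q := Finsupp.linearCombination R id
  let K : Submodule R (Q →₀ R) := LinearMap.ker π
  let ι : K →ₗ[R] (Q →₀ R) := K.subtype
  have h := lTensor_injective_aux (K := K) (F := Q →₀ R) (Q := Q) hexact hg ι π (LinearMap.exact_subtype_ker_map π)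
    (Finsupp.linearCombination_id_surjective R Q)
    (Module.Flat.rTensor_preserves_injective_linearMap (M := M₃) ι K.injective_subtype)
    (Module.Flat.lTensor_preserves_injective_linearMap _ hf)
  intro a b hab
  apply (TensorProduct.comm R M₁ Q).injective
  apply h
  have hc : ∀ z, f.lTensor Q (TensorProduct.comm R M₁ Q z) = TensorProduct.comm R M₂ Q (f.rTensor Q z) := by
    intro z
    induction z using TensorProduct.induction_on with
    | zero => simp
    | tmul x y => simp
    | add x y hx hy => simp only [map_add, hx, hy]
  rw [hc, hc, hab]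

/-- The kernel and cokernel of a universally exact sequence with flat middle term are flat. -/
theorem flat_left (hf : CAlgX.UniversallyInjective R f) [Module.Flat R M₂] : Module.Flat R M₁ := by
  rw [Module.Flat.iff_rTensor_injective']
  intro I
  have h2 : Function.Injective (I.subtype.rTensor M₂) := Module.Flat.rTensor_preserves_injective_linearMap _ I.injective_subtype
  have h1 : Function.Injective (f.lTensor I) := by
    rw [← LinearMap.comm_comp_rTensor_comp_comm_eq]
    simpa using (TensorProduct.comm _ _ _).injective.comp ((hf I).comp (TensorProduct.comm _ _ _).injective)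
  refine Function.Injective.of_comp (f := f.lTensor R) ?_
  rw [← LinearMap.coe_comp, LinearMap.lTensor_comp_rTensor, ← LinearMap.rTensor_comp_lTensor, LinearMap.coe_comp]
  exact h2.comp h1

theorem flat_right (hexact : Function.Exact f g) (hg : Function.Surjective g)
    (hf : CAlgX.UniversallyInjective R f) [Module.Flat R M₂] : Module.Flat R M₃ := by
  rw [Module.Flat.iff_lTensor_injective']
  intro I
  exact lTensor_injective_of_exact_of_exact_of_rTensor_injective hexact hg
    (LinearMap.exact_subtype_mkQ I) (Submodule.mkQ_surjective _) (hf _)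
    (Module.Flat.lTensor_preserves_injective_linearMap _ I.injective_subtype)

/-- An extension of flat modules is flat. -/
theorem flat_middle (hexact : Function.Exact f g) (hf : Function.Injective f) (hg : Function.Surjective g)
    [Module.Flat R M₁] [Module.Flat R M₃] : Module.Flat R M₂ := by
  rw [Module.Flat.iff_rTensor_injective']
  intro I
  rw [injective_iff_map_eq_zero]
  intro z hz
  have h3 : g.lTensor I z = 0 := by
    apply Module.Flat.rTensor_preserves_injective_linearMap (M := M₃) _ I.injective_subtype
    rw [map_zero, ← LinearMap.comp_apply, LinearMap.rTensor_comp_lTensor, ← LinearMap.lTensor_comp_rTensor,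
      LinearMap.comp_apply, hz, map_zero]
  obtain ⟨w, rfl⟩ := (lTensor_exact I hexact hg z).mp h3
  have h1 : I.subtype.rTensor M₁ w = 0 := by
    apply Module.Flat.lTensor_preserves_injective_linearMap (M := R) _ hf
    rw [map_zero, ← LinearMap.comp_apply, LinearMap.lTensor_comp_rTensor, ← LinearMap.rTensor_comp_lTensor,
      LinearMap.comp_apply, hz]
  have : w = 0 := Module.Flat.rTensor_preserves_injective_linearMap (M := M₁) _ I.injective_subtype (h1.trans (map_zero _).symm)
  rw [this, map_zero]

/-- Maps from finitely presented modules lift along a surjection with universally injective kernel. -/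
theorem lift_of_finitePresentation (hexact : Function.Exact f g) (hg : Function.Surjective g)
    (hf : CAlgX.UniversallyInjective R f) (P : Type u) [AddCommGroup P] [Module R P] [Module.FinitePresentation R P]
    (h : P →ₗ[R] M₃) : ∃ h' : P →ₗ[R] M₂, g.comp h' = h := by
  classical
  obtain ⟨n, π, hπ⟩ := Module.Finite.exists_fin' R P
  obtain ⟨m, v, hv⟩ := Submodule.fg_iff_exists_fin_generating_family.mp (Module.FinitePresentation.fg_ker π hπ)
  choose x hx using fun i => hg (h (π (Pi.single i 1)))
  let X : (Fin n → R) →ₗ[R] M₂ := Fintype.linearCombination R x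
  have hX : g ∘ₗ X = h ∘ₗ π := by
    refine LinearMap.pi_ext' fun i => LinearMap.ext_ring ?_
    simp [X, hx, Fintype.linearCombination_apply_single]
  have hvk : ∀ j, π (v j) = 0 := fun j => LinearMap.mem_ker.mp (hv ▸ Submodule.subset_span ⟨j, rfl⟩)
  have hy : ∀ j, ∃ y, f y = X (v j) := fun j =>
    (hexact _).mp (by rw [← LinearMap.comp_apply, hX, LinearMap.comp_apply, hvk, map_zero])
  choose y hy using hy
  let β : (Fin n → R) →ₗ[R] (Fin m → R) := LinearMap.pi fun j => Fintype.linearCombination R (fun i => v j i)
  let Q := (Fin m → R) ⧸ LinearMap.range β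
  let t : M₁ ⊗[R] (Fin m → R) := ∑ j, y j ⊗ₜ Pi.single j 1
  have ht : (LinearMap.range β).mkQ.lTensor M₁ t = 0 := by
    apply hf Q
    rw [map_zero, ← LinearMap.comp_apply, LinearMap.rTensor_comp_lTensor, ← LinearMap.lTensor_comp_rTensor, LinearMap.comp_apply]
    have : f.rTensor (Fin m → R) t = β.lTensor M₂ (∑ i, x i ⊗ₜ Pi.single i 1) := by
      simp only [t, map_sum, LinearMap.rTensor_tmul, LinearMap.lTensor_tmul, hy]
      simp only [X, Fintype.linearCombination_apply, TensorProduct.sum_tmul, TensorProduct.smul_tmul]
      rw [Finset.sum_comm]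
      refine Finset.sum_congr rfl fun i _ => ?_
      rw [← TensorProduct.tmul_sum]
      congr 1
      ext k
      simp [β, Fintype.linearCombination_apply_single, Pi.single_apply]
    rw [this, ← LinearMap.comp_apply, ← LinearMap.lTensor_comp, LinearMap.range_mkQ_comp, LinearMap.lTensor_zero, LinearMap.zero_apply]
  obtain ⟨w, hw⟩ := (lTensor_exact M₁ (LinearMap.exact_map_mkQ_range β) (Submodule.mkQ_surjective _) t).mp ht
  let z : Fin n → M₁ := fun i => TensorProduct.rid R M₁ ((LinearMap.proj i : (Fin n → R) →ₗ[R] R).lTensor M₁ w)
  have hz : ∀ j, ∑ i, v j i • z i = y j := by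
    intro j
    have h1 : TensorProduct.rid R M₁ ((LinearMap.proj j : (Fin m → R) →ₗ[R] R).lTensor M₁ t) = y j := by
      simp [t, map_sum, Pi.single_apply]
    rw [← h1, ← hw]
    simp only [z]
    clear hw h1
    induction w using TensorProduct.induction_on with
    | zero => simp
    | tmul a b => simp [β, Fintype.linearCombination_apply, Finset.sum_smul, smul_smul, mul_comm]
    | add a b ha hb => simp only [map_add, smul_add, Finset.sum_add_distrib, ha, hb]
  let X' : (Fin n → R) →ₗ[R] M₂ := Fintype.linearCombination R (fun i => x i - f (z i))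
  have hX' : LinearMap.ker π ≤ LinearMap.ker X' := by
    rw [← hv, Submodule.span_le]
    rintro _ ⟨j, rfl⟩
    simp only [SetLike.mem_coe, LinearMap.mem_ker, X', Fintype.linearCombination_apply, smul_sub, Finset.sum_sub_distrib]
    rw [sub_eq_zero]
    simp_rw [← map_smul f, ← map_sum f, hz]
    rw [hy]
    simp [X, Fintype.linearCombination_apply]
  refine ⟨((LinearMap.ker π).liftQ X' hX') ∘ₗ (π.quotKerEquivOfSurjective hπ).symm.toLinearMap, ?_⟩
  ext p
  obtain ⟨c, rfl⟩ := hπ p
  have hgX : g ∘ₗ X' = g ∘ₗ X := by
    refine LinearMap.pi_ext' fun i => LinearMap.ext_ring ?_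
    simp [X', X, Fintype.linearCombination_apply_single, hexact.apply_apply_eq_zero]
  simp only [LinearMap.comp_apply, LinearEquiv.coe_coe, LinearMap.quotKerEquivOfSurjective_symm_apply, Submodule.liftQ_apply]
  rw [← LinearMap.comp_apply, hgX, hX, LinearMap.comp_apply]

end Groth.Agent.CAlgLib.UnivInj
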